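import Mathlib

/-!
# Equivariant alternating forms on a module with a transitive cyclic group

An elementary abelian `2`-group with an element of odd order acting transitively on the non-identity
elements has no non-trivial equivariant alternating biadditive map into itself.
-/

set_option autoImplicit false
set_option linter.unusedSectionVars false

namespace Cfsg.Agent.Fusion.L2Cent

universe u

variable {G : Type u} [Group G]

theorem alt_trivial {D : Subgroup G} {σ : G} (hsq : ∀ x ∈ D, x * x = 1) (hodd : Odd (orderOf σ))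
    (hσD : ∀ x ∈ D, σ * x * σ⁻¹ ∈ D)
    (htr : ∀ x ∈ D, x ≠ 1 → ∀ y ∈ D, y ≠ 1 → ∃ i : ℕ, σ ^ i * x * (σ ^ i)⁻¹ = y)
    (B : G → G → G) (hB : ∀ x ∈ D, ∀ y ∈ D, B x y ∈ D)
    (hl : ∀ x ∈ D, ∀ x' ∈ D, ∀ y ∈ D, B (x * x') y = B x y * B x' y)
    (hr : ∀ x ∈ D, ∀ y ∈ D, ∀ y' ∈ D, B x (y * y') = B x y * B x y')
    (heq : ∀ x ∈ D, ∀ y ∈ D, B (σ * x * σ⁻¹) (σ * y * σ⁻¹) = σ * B x y * σ⁻¹)
    (halt : ∀ x ∈ D, B x x = 1) : ∀ x ∈ D, ∀ y ∈ D, B x y = 1 := by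
  have hcj : ∀ i : ℕ, ∀ x ∈ D, σ ^ i * x * (σ ^ i)⁻¹ ∈ D := by
    intro i
    induction i with
    | zero => intro x hx; simpa using hx
    | succ i ih =>
      intro x hx
      rw [pow_succ', show σ * σ ^ i * x * (σ * σ ^ i)⁻¹ = σ * (σ ^ i * x * (σ ^ i)⁻¹) * σ⁻¹ by group]
      exact hσD _ (ih x hx)
  have hBi : ∀ i : ℕ, ∀ x ∈ D, ∀ y ∈ D, B (σ ^ i * x * (σ ^ i)⁻¹) (σ ^ i * y * (σ ^ i)⁻¹) =
      σ ^ i * B x y * (σ ^ i)⁻¹ := by
    intro i
    induction i with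
    | zero => intro x _ y _; simp
    | succ i ih =>
      intro x hx y hy
      rw [pow_succ', show σ * σ ^ i * x * (σ * σ ^ i)⁻¹ = σ * (σ ^ i * x * (σ ^ i)⁻¹) * σ⁻¹ by group,
        show σ * σ ^ i * y * (σ * σ ^ i)⁻¹ = σ * (σ ^ i * y * (σ ^ i)⁻¹) * σ⁻¹ by group,
        heq _ (hcj i x hx) _ (hcj i y hy), ih x hx y hy]
      group
  have hone : ∀ x ∈ D, B 1 x = 1 ∧ B x 1 = 1 := by
    intro x hx
    constructor
    · have h := hl 1 (one_mem _) 1 (one_mem _) x hx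
      rw [one_mul] at h
      exact left_eq_mul.1 h
    · have h := hr x hx 1 (one_mem _) 1 (one_mem _)
      rw [one_mul] at h
      exact left_eq_mul.1 h
  have key : ∀ j : ℕ, ∀ x ∈ D, B x (σ ^ (j + j) * x * (σ ^ (j + j))⁻¹) = 1 := by
    intro j
    set Q : G → G := fun x => B x (σ ^ j * x * (σ ^ j)⁻¹)
    have hQi : ∀ i : ℕ, ∀ x ∈ D, Q (σ ^ i * x * (σ ^ i)⁻¹) = σ ^ i * Q x * (σ ^ i)⁻¹ := by
      intro i x hx
      show B _ _ = σ ^ i * B x _ * _
      rw [← hBi i x hx _ (hcj j x hx)]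
      congr 1
      calc σ ^ j * (σ ^ i * x * (σ ^ i)⁻¹) * (σ ^ j)⁻¹ = σ ^ (j + i) * x * (σ ^ (j + i))⁻¹ := by
            rw [pow_add]; group
        _ = σ ^ i * (σ ^ j * x * (σ ^ j)⁻¹) * (σ ^ i)⁻¹ := by
            rw [add_comm, pow_add]; group
    -- the quadratic map is a homomorphism
    have hQadd : ∀ x ∈ D, ∀ y ∈ D, Q (x * y) = Q x * Q y := by
      intro x hx y hy
      by_cases h : ∀ z ∈ D, Q z = 1
      · rw [h _ (mul_mem hx hy), h x hx, h y hy, one_mul]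
      push Not at h
      obtain ⟨u, hu, hQu⟩ := h
      have hQ1 : Q 1 = 1 := (hone _ (hcj j 1 (one_mem _))).1
      have hu1 : u ≠ 1 := fun e => hQu (e ▸ hQ1)
      obtain ⟨k, hk⟩ := htr u hu hu1 (Q u) (hB u hu _ (hcj j u hu)) hQu
      have hlin : ∀ z ∈ D, Q z = σ ^ k * z * (σ ^ k)⁻¹ := by
        intro z hz
        rcases eq_or_ne z 1 with rfl | hz1
        · simp [hQ1]
        obtain ⟨i, rfl⟩ := htr u hu hu1 z hz hz1
        rw [hQi i u hu, ← hk]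
        calc σ ^ i * (σ ^ k * u * (σ ^ k)⁻¹) * (σ ^ i)⁻¹ = σ ^ (i + k) * u * (σ ^ (i + k))⁻¹ := by
              rw [pow_add]; group
          _ = σ ^ k * (σ ^ i * u * (σ ^ i)⁻¹) * (σ ^ k)⁻¹ := by
              rw [add_comm, pow_add]; group
      rw [hlin _ (mul_mem hx hy), hlin x hx, hlin y hy]
      group
    intro x hx
    have hy := hcj j x hx
    have h := hQadd x hx _ hy
    change B _ _ = B x _ * B _ _ at h
    set y := σ ^ j * x * (σ ^ j)⁻¹ with hydef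
    have hy2 := hcj j y hy
    rw [show σ ^ j * (x * y) * (σ ^ j)⁻¹ = y * (σ ^ j * y * (σ ^ j)⁻¹) by rw [hydef]; group,
      hl x hx y hy _ (mul_mem hy hy2), hr x hx y hy _ hy2, hr y hy y hy _ hy2, halt y hy, one_mul] at h
    have h' : B x (σ ^ j * y * (σ ^ j)⁻¹) = 1 := by
      have h3 := mul_right_cancel h
      rwa [mul_eq_left] at h3
    rwa [show σ ^ (j + j) * x * (σ ^ (j + j))⁻¹ = σ ^ j * y * (σ ^ j)⁻¹ by rw [hydef, pow_add]; group]
  intro x hx y hy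
  rcases eq_or_ne x 1 with rfl | hx1
  · exact (hone y hy).1
  rcases eq_or_ne y 1 with rfl | hy1
  · exact (hone x hx).2
  obtain ⟨i, rfl⟩ := htr x hx hx1 y hy hy1
  obtain ⟨a, ha⟩ := hodd
  have : σ ^ i = σ ^ (i * (a + 1) + i * (a + 1)) := by
    rw [show i * (a + 1) + i * (a + 1) = i + orderOf σ * i by rw [ha]; ring, pow_add, pow_mul,
      pow_orderOf_eq_one, one_pow, mul_one]
  rw [this]
  exact key _ x hx

end Cfsg.Agent.Fusion.L2Cent
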