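import Cfsg.Agent.Lib.Fusion.L2Cent.Setup

/-!
# Two-subgroups and conjugates of the involution
-/

set_option autoImplicit false
set_option linter.style.haveILetI false
set_option linter.unusedSectionVars false

namespace Cfsg.Agent.Fusion.L2Cent

universe u

variable {G : Type u} [Group G] [Finite G] {t : G} {T D : Subgroup G}

theorem conj_invol {y : G} (ht : orderOf t = 2) (hy : IsConj t y) : orderOf y = 2 := by
  obtain ⟨g, rfl⟩ := isConj_iff.1 hy
  rw [← MulAut.conj_apply, MulEquiv.orderOf_eq, ht]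

theorem conj_iff {x : G} (g : G) : IsConj t (g * x * g⁻¹) ↔ IsConj t x := by
  have h : IsConj x (g * x * g⁻¹) := isConj_iff.2 ⟨g, rfl⟩
  exact ⟨fun h' => h'.trans h.symm, fun h' => h'.trans h⟩

namespace Cent

variable (h : Cent t T D)
include h

theorem tt : t * t = 1 := invol_mul_self h.ord

theorem comm {x : G} (hx : x ∈ T) : x * t = t * x :=
  Subgroup.mem_centralizer_singleton_iff.1 (h.syl.le hx)

theorem mem_T {Q : Subgroup G} (hQ : IsPGroup 2 Q) (hTQ : T ≤ Q) {x : G} (hx : x ∈ Q) (hc : x * t = t * x) :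
    x ∈ T := by
  haveI : Fact (Nat.Prime 2) := ⟨Nat.prime_two⟩
  rw [← h.syl.eq_of_le (hQ.to_inf_left (K := Subgroup.centralizer ({t} : Set G))) (le_inf hTQ h.syl.le)
    inf_le_right]
  exact ⟨hx, Subgroup.mem_centralizer_singleton_iff.2 hc⟩

theorem card_C : ∃ o, Odd o ∧ Nat.card (Subgroup.centralizer ({t} : Set G)) = Nat.card T * o := by
  refine ⟨T.relIndex (Subgroup.centralizer ({t} : Set G)), ?_, ?_⟩
  · exact Nat.not_even_iff_odd.1 fun e => h.syl.not_dvd (even_iff_two_dvd.1 e)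
  · have := Subgroup.index_mul_card (T.subgroupOf (Subgroup.centralizer ({t} : Set G)))
    rw [Nat.card_congr (Subgroup.subgroupOfEquivOfLe h.syl.le).toEquiv, mul_comm] at this
    exact this.symm

theorem card_T : Nat.card T = 2 * Nat.card D := by
  have hidx : (D.subgroupOf T).index = 2 := by
    refine Subgroup.index_eq_two_iff.2 ⟨⟨t, h.tT⟩, fun b => ?_⟩
    simp only [Subgroup.mem_subgroupOf, Subgroup.coe_mul]
    rcases h.split b b.2 with hb | hb
    · exact Or.inr ⟨hb, fun hbt => h.tD ((mul_mem_cancel_left hb).1 hbt)⟩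
    · exact Or.inl ⟨hb, fun hb' => h.tD ((mul_mem_cancel_left hb').1 hb)⟩
  have := Subgroup.index_mul_card (D.subgroupOf T)
  rw [hidx, Nat.card_congr (Subgroup.subgroupOfEquivOfLe h.DT).toEquiv] at this
  exact this.symm

/-- An element of the normaliser of `T` outside `T` moves `t` to another central element. -/
theorem exists_move (S : Sylow 2 G) (hTS : T ≤ (S : Subgroup G)) (hne : T ≠ (S : Subgroup G)) :
    ∃ x ∈ (S : Subgroup G), x ∈ Subgroup.normalizer (T : Set G) ∧ x ∉ T ∧ x * t * x⁻¹ ≠ t ∧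
      x * t * x⁻¹ ∈ T ∧ ∀ y ∈ T, y * (x * t * x⁻¹) = x * t * x⁻¹ * y := by
  haveI : Fact (Nat.Prime 2) := ⟨Nat.prime_two⟩
  obtain ⟨x, hx, hxT⟩ := SetLike.exists_of_lt (SylIn.normalizer_growth hTS hne S.isPGroup')
  have hn := Subgroup.mem_normalizer_iff.1 hx.2
  refine ⟨x, hx.1, hx.2, hxT, fun e => hxT (h.mem_T S.isPGroup' hTS hx.1 ?_), (hn t).1 h.tT, fun y hy => ?_⟩
  · calc x * t = x * t * x⁻¹ * x := by group
      _ = t * x := by rw [e]
  · have h1 := h.comm ((hn (x⁻¹ * y * x)).2 (by rwa [show x * (x⁻¹ * y * x) * x⁻¹ = y by group]))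
    calc y * (x * t * x⁻¹) = x * (x⁻¹ * y * x * t) * x⁻¹ := by group
      _ = x * (t * (x⁻¹ * y * x)) * x⁻¹ := by rw [h1]
      _ = x * t * x⁻¹ * y := by group

theorem card_cent_le {Q : Subgroup G} (hQ : IsPGroup 2 Q) {y : G} (hy : IsConj t y) :
    Nat.card (Q ⊓ Subgroup.centralizer ({y} : Set G) : Subgroup G) ≤ Nat.card T := by
  haveI : Fact (Nat.Prime 2) := ⟨Nat.prime_two⟩
  obtain ⟨g, rfl⟩ := isConj_iff.1 hy
  rw [← card_cj _ g⁻¹]
  refine h.syl.card_le (isPGroup_cj hQ.to_inf_left _) fun x hx => ?_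
  have h1 := Subgroup.mem_centralizer_singleton_iff.1 (mem_cj.1 hx).2
  rw [Subgroup.mem_centralizer_singleton_iff]
  calc x * t = g⁻¹ * ((g * x * g⁻¹) * (g * t * g⁻¹)) * g := by group
    _ = g⁻¹ * ((g * t * g⁻¹) * (g * x * g⁻¹)) * g := by
      rw [show g * x * g⁻¹ = (g⁻¹)⁻¹ * x * g⁻¹ by rw [inv_inv], h1]
    _ = t * x := by group

/-- A conjugate of `t` with a centraliser of full order in a `2`-group. -/
theorem carry {Q : Subgroup G} (hQ : IsPGroup 2 Q) {y : G} (hy : IsConj t y)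
    (hc : Nat.card T ≤ Nat.card (Q ⊓ Subgroup.centralizer ({y} : Set G) : Subgroup G)) :
    ∃ g : G, g * y * g⁻¹ = t ∧ cj (Q ⊓ Subgroup.centralizer ({y} : Set G)) g = T := by
  haveI : Fact (Nat.Prime 2) := ⟨Nat.prime_two⟩
  obtain ⟨g, rfl⟩ := isConj_iff.1 hy
  set K := Q ⊓ Subgroup.centralizer ({g * t * g⁻¹} : Set G)
  have hKC : cj K g⁻¹ ≤ Subgroup.centralizer ({t} : Set G) := fun x hx => by
    have h1 := Subgroup.mem_centralizer_singleton_iff.1 (mem_cj.1 hx).2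
    rw [Subgroup.mem_centralizer_singleton_iff]
    calc x * t = g⁻¹ * ((g * x * g⁻¹) * (g * t * g⁻¹)) * g := by group
      _ = g⁻¹ * ((g * t * g⁻¹) * (g * x * g⁻¹)) * g := by
        rw [show g * x * g⁻¹ = (g⁻¹)⁻¹ * x * g⁻¹ by rw [inv_inv], h1]
      _ = t * x := by group
  obtain ⟨c, hcC, hcT⟩ := h.syl.conj_le (isPGroup_cj hQ.to_inf_left g⁻¹) hKC
  refine ⟨c * g⁻¹, ?_, ?_⟩
  · calc c * g⁻¹ * (g * t * g⁻¹) * (c * g⁻¹)⁻¹ = c * t * c⁻¹ := by group
      _ = t := by rw [Subgroup.mem_centralizer_singleton_iff.1 hcC, mul_inv_cancel_right]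
  · rw [← cj_cj]
    exact Subgroup.eq_of_le_of_card_ge hcT (by rw [card_cj, card_cj]; exact hc)

end Cent

end Cfsg.Agent.Fusion.L2Cent
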