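import Cfsg.Agent.Lib.Perm.FixFour.Frame
import Cfsg.Agent.Lib.Fusion.BrauerFowlerTools
import Cfsg.Agent.S0111

/-!
# Counting the fixed points of an involution on cosets
-/

set_option autoImplicit false
set_option linter.style.haveILetI false
set_option linter.unusedSectionVars false

namespace Cfsg.Agent.Fusion.L2Cent

universe u

variable {G : Type u} [Group G] [Finite G]

/-- The fixed cosets of `X` weighted by `|X|` count the centraliser times the conjugates inside `X`. -/
theorem fix_count (x : G) (X : Subgroup G) :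
    Nat.card (Subgroup.centralizer ({x} : Set G)) * Nat.card {y : G // IsConj x y ∧ y ∈ X} =
      Nat.card X * Nat.card {q : G ⧸ X // x • q = q} := by
  classical
  have hmem : ∀ g : G, x • (g : G ⧸ X) = (g : G ⧸ X) ↔ g⁻¹ * x * g ∈ X := fun g => by
    rw [show x • (g : G ⧸ X) = ((x * g : G) : G ⧸ X) from rfl, eq_comm, QuotientGroup.eq, mul_assoc]
  have hrep : ∀ y : {y : G // IsConj x y ∧ y ∈ X}, ∃ g : G, g⁻¹ * x * g = y.1 := fun y => by
    obtain ⟨g, hg⟩ := isConj_iff.1 y.2.1
    exact ⟨g⁻¹, by rw [inv_inv, hg]⟩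
  choose rep hrep using hrep
  have e : ∀ (d : Subgroup.centralizer ({x} : Set G)) z, ((d : G) * rep z)⁻¹ * x * (d * rep z) = z.1 :=
    fun d z => by
      rw [← hrep z, mul_inv_rev,
        show (rep z)⁻¹ * (d : G)⁻¹ * x * (d * rep z) = (rep z)⁻¹ * ((d : G)⁻¹ * (x * d)) * rep z by group,
        ← Subgroup.mem_centralizer_singleton_iff.1 d.2, inv_mul_cancel_left]
  rw [← Nat.card_prod, ← Nat.card_prod]
  refine Nat.card_congr (Equiv.trans (Equiv.ofBijective
    (fun p : ↥(Subgroup.centralizer ({x} : Set G)) × {y : G // IsConj x y ∧ y ∈ X} =>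
      (⟨(p.1 : G) * rep p.2, ?_⟩ : ↥(QuotientGroup.mk (s := X) ⁻¹' {q | x • q = q}))) ⟨?_, ?_⟩)
    (QuotientGroup.preimageMkEquivSubgroupProdSet _ _))
  · exact (hmem _).2 (by rw [e p.1 p.2]; exact p.2.2.2)
  · rintro ⟨c, y⟩ ⟨c', y'⟩ h
    have h' : (c : G) * rep y = c' * rep y' := congrArg Subtype.val h
    have hy : y = y' := Subtype.ext ((e c y).symm.trans (h'.symm ▸ e c' y'))
    subst hy
    exact Prod.ext (Subtype.ext (mul_right_cancel h')) rfl
  · rintro ⟨g, hg⟩
    set y : {y : G // IsConj x y ∧ y ∈ X} :=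
      ⟨g⁻¹ * x * g, isConj_iff.2 ⟨g⁻¹, by rw [inv_inv]⟩, (hmem g).1 hg⟩
    refine ⟨(⟨g * (rep y)⁻¹, ?_⟩, y), Subtype.ext (inv_mul_cancel_right _ _)⟩
    rw [Subgroup.mem_centralizer_singleton_iff]
    calc g * (rep y)⁻¹ * x = g * ((rep y)⁻¹ * x * rep y) * (rep y)⁻¹ := by group
      _ = g * (g⁻¹ * x * g) * (rep y)⁻¹ := by rw [hrep y]
      _ = x * (g * (rep y)⁻¹) := by group

/-- An involution is not an odd permutation of the cosets of a subgroup of a simple group. -/
theorem no_odd_perm [IsSimpleGroup G] (hna : ¬ IsMulCommutative G) {x : G} (hx : x * x = 1)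
    (X : Subgroup G) (hidx : 4 ∣ X.index) (hfix : Nat.card {q : G ⧸ X // x • q = q} % 4 = 2) : False := by
  classical
  haveI : Fact (Nat.Prime 2) := ⟨Nat.prime_two⟩
  letI := Fintype.ofFinite (G ⧸ X)
  let f : G →* ℤˣ := Equiv.Perm.sign.comp (MulAction.toPermHom G (G ⧸ X))
  have hf : ∀ g, f g = 1 := by
    intro g
    rcases f.normal_ker.eq_bot_or_eq_top with hk | hk
    · exfalso
      refine hna ⟨⟨fun a b => ?_⟩⟩
      exact (MonoidHom.ker_eq_bot_iff f).1 hk (by rw [map_mul, map_mul, mul_comm])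
    · exact MonoidHom.mem_ker.1 (hk ▸ Subgroup.mem_top g)
  set σ : Equiv.Perm (G ⧸ X) := MulAction.toPermHom G (G ⧸ X) x with hσ
  have h2 : σ ^ 2 = 1 := by rw [hσ, ← map_pow, sq, hx, map_one]
  have hs : Equiv.Perm.sign σ = 1 := hf x
  rw [Equiv.Perm.sign_of_cycleType, Equiv.Perm.cycleType_of_pow_prime_eq_one h2,
    Multiset.sum_replicate, Multiset.card_replicate, smul_eq_mul] at hs
  have hc : σ.supportᶜ.card = Nat.card {q : G ⧸ X // x • q = q} := by
    rw [Nat.card_eq_fintype_card, Fintype.card_subtype]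
    congr 1
    ext q
    simp [hσ]
  have hsupp : σ.support.card = σ.cycleType.card * 2 := by
    rw [← Equiv.Perm.sum_cycleType]
    conv_lhs => rw [Equiv.Perm.cycleType_of_pow_prime_eq_one h2]
    rw [Multiset.sum_replicate, smul_eq_mul]
  rw [Finset.card_compl, ← Nat.card_eq_fintype_card, ← Subgroup.index_eq_card] at hc
  have hle := Finset.card_le_univ σ.support
  rw [← Nat.card_eq_fintype_card, ← Subgroup.index_eq_card] at hle
  have hev : Even (σ.cycleType.card * 2 + σ.cycleType.card) := by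
    by_contra h
    rw [(Nat.not_even_iff_odd.1 h).neg_one_pow] at hs
    exact absurd hs (by decide)
  rw [Nat.even_iff] at hev
  omega

/-- An involution cannot be sent to a value other than one by a homomorphism of a Sylow subgroup which is
constant on its conjugates, if their number is an odd multiple of the index. -/
theorem no_const_transfer [IsSimpleGroup G] (hna : ¬ IsMulCommutative G) (S : Sylow 2 G) {A : Type*}
    [CommGroup A] (ψ : ↥(S : Subgroup G) →* A) {x : G} (hx : orderOf x = 2) (a : A) (ha : a ≠ 1) (ha2 : a * a = 1)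
    (hconst : ∀ (y : G) (hy : y ∈ (S : Subgroup G)), IsConj x y → ψ ⟨y, hy⟩ = a)
    (hodd : Odd (Nat.card {q : G ⧸ (S : Subgroup G) // x • q = q})) : False := by
  classical
  haveI : Fact (Nat.Prime 2) := ⟨Nat.prime_two⟩
  letI := Fintype.ofFinite (G ⧸ (S : Subgroup G))
  have h1 : MonoidHom.transfer ψ x = 1 := by
    rcases (MonoidHom.transfer ψ).normal_ker.eq_bot_or_eq_top with hk | hk
    · exfalso
      exact hna ⟨⟨fun b c => (MonoidHom.ker_eq_bot_iff _).1 hk (by rw [map_mul, map_mul, mul_comm])⟩⟩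
    · exact MonoidHom.mem_ker.1 (hk ▸ Subgroup.mem_top x)
  rw [Perm.FixFour.transfer_formula ψ hx,
    ← Finset.prod_subset (s₁ := Finset.univ.filter fun q : G ⧸ (S : Subgroup G) => x • q = q)
      (Finset.subset_univ _) (fun q _ hq => dif_neg fun hm => hq (Finset.mem_filter.2 ⟨Finset.mem_univ _, by
        rw [← QuotientGroup.out_eq' q]; exact Perm.FixFour.smul_coset_iff.2 hm⟩)),
    Finset.prod_congr rfl (g := fun _ => a) (fun q hq => ?_), Finset.prod_const] at h1
  · obtain ⟨c, hc⟩ := hodd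
    rw [← Fintype.card_subtype, ← Nat.card_eq_fintype_card, hc, pow_succ, pow_mul, pow_two, ha2, one_pow,
      one_mul] at h1
    exact ha h1
  · have hm : q.out⁻¹ * x * q.out ∈ (S : Subgroup G) := Perm.FixFour.smul_coset_iff.1
      (by rw [QuotientGroup.out_eq']; exact (Finset.mem_filter.1 hq).2)
    simp only [Perm.FixFour.val, dif_pos hm]
    exact hconst _ hm (isConj_iff.2 ⟨q.out⁻¹, by rw [inv_inv]⟩)

/-- Thompson transfer in a simple group: a maximal subgroup of a Sylow subgroup meets the class of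
every involution of the Sylow subgroup outside it. -/
theorem exists_conj_mem [IsSimpleGroup G] (hna : ¬ IsMulCommutative G) (S : Sylow 2 G) {M : Subgroup G}
    (hMS : M ≤ (S : Subgroup G)) (hM : M.relIndex (S : Subgroup G) = 2) {x : G} (hx : orderOf x = 2)
    (hxS : x ∈ (S : Subgroup G)) (hxM : x ∉ M) : ∃ y ∈ M, IsConj x y := by
  rcases Cfsg.Agent.S0111.result S M hMS hM x hx hxS hxM with ⟨N, -, hi, -⟩ | ⟨g, hg⟩
  · exact (Fusion.no_index_two_of_simple hna N hi).elim
  · exact ⟨_, hg, isConj_iff.2 ⟨g, rfl⟩⟩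

end Cfsg.Agent.Fusion.L2Cent
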