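import Cfsg.Agent.Lib.Fusion.L2Cent.Basic
import Cfsg.Agent.Lib.Fusion.L2Cent.Count

/-!
# Characters of two-groups with values in `ZMod 2`
-/

set_option autoImplicit false
set_option linter.style.haveILetI false
set_option linter.unusedSectionVars false

namespace Cfsg.Agent.Fusion.L2Cent

universe u

variable {G : Type u} [Group G]

/-- `χ` is additive on `R`. -/
def IsChar (R : Subgroup G) (χ : G → ZMod 2) : Prop := ∀ x ∈ R, ∀ y ∈ R, χ (x * y) = χ x + χ y

theorem zmod2_cases : ∀ a : ZMod 2, a = 0 ∨ a = 1 := by decide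

theorem zmod2_add_self : ∀ a : ZMod 2, a + a = 0 := by decide

namespace IsChar

variable {R : Subgroup G} {χ : G → ZMod 2} (h : IsChar R χ)
include h

theorem one : χ 1 = 0 := by
  have h1 := h 1 (one_mem R) 1 (one_mem R)
  rw [one_mul, zmod2_add_self] at h1
  exact h1

theorem sq {x : G} (hx : x ∈ R) : χ (x * x) = 0 := by rw [h x hx x hx, zmod2_add_self]

theorem inv {x : G} (hx : x ∈ R) : χ x⁻¹ = χ x := by
  have h1 := h x hx x⁻¹ (inv_mem hx)
  rw [mul_inv_cancel, h.one] at h1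
  rcases zmod2_cases (χ x) with e | e <;> rcases zmod2_cases (χ x⁻¹) with e' | e' <;> rw [e, e'] at h1 ⊢ <;>
    simp at h1 ⊢

theorem conj {x y : G} (hx : x ∈ R) (hy : y ∈ R) : χ (x * y * x⁻¹) = χ y := by
  rw [h _ (mul_mem hx hy) _ (inv_mem hx), h x hx y hy, h.inv hx, add_comm (χ x) (χ y), add_assoc,
    zmod2_add_self, add_zero]

theorem add {ψ : G → ZMod 2} (h' : IsChar R ψ) : IsChar R fun x => χ x + ψ x := fun x hx y hy => by
  show χ (x * y) + ψ (x * y) = _
  rw [h x hx y hy, h' x hx y hy]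
  ring

/-- The kernel. -/
def ker : Subgroup G where
  carrier := {x | x ∈ R ∧ χ x = 0}
  one_mem' := ⟨one_mem R, h.one⟩
  mul_mem' := fun {a b} ha hb => ⟨mul_mem ha.1 hb.1, by rw [h a ha.1 b hb.1, ha.2, hb.2, add_zero]⟩
  inv_mem' := fun {a} ha => ⟨inv_mem ha.1, by rw [h.inv ha.1, ha.2]⟩

theorem relIndex_ker {a : G} (ha : a ∈ R) (ha1 : χ a = 1) : h.ker.relIndex R = 2 := by
  refine Subgroup.index_eq_two_iff.2 ⟨⟨a, ha⟩, fun b => ?_⟩
  simp only [Subgroup.mem_subgroupOf, Subgroup.coe_mul]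
  rcases zmod2_cases (χ b) with e | e
  · refine Or.inr ⟨⟨b.2, e⟩, fun hb => ?_⟩
    have h2 := hb.2
    rw [h _ b.2 a ha, e, ha1] at h2
    exact absurd h2 (by decide)
  · refine Or.inl ⟨⟨mul_mem b.2 ha, ?_⟩, fun hb => ?_⟩
    · rw [h _ b.2 a ha, e, ha1, zmod2_add_self]
    · exact absurd (hb.2.symm.trans e) (by decide)

end IsChar

/-- A character prescribed at an element outside a subgroup containing all squares. -/
theorem exists_char [Finite G] {R Φ : Subgroup G} {t : G} (hΦ : Φ ≤ R) (htR : t ∈ R) (ht : t ∉ Φ)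
    (hsq : ∀ x ∈ R, x * x ∈ Φ) : ∃ χ : G → ZMod 2, IsChar R χ ∧ χ t = 1 ∧ ∀ x ∈ Φ, χ x = 0 := by
  classical
  obtain ⟨M, ⟨hΦM, hMR, htM⟩, hmax⟩ := (Set.toFinite {M : Subgroup G | Φ ≤ M ∧ M ≤ R ∧ t ∉ M}).exists_maximal
    ⟨Φ, le_rfl, hΦ, ht⟩
  have hn : ∀ x ∈ R, ∀ m ∈ M, x * m * x⁻¹ ∈ M := by
    intro x hx m hm
    have h1 : x * m * x⁻¹ * m⁻¹ ∈ Φ := by
      rw [show x * m * x⁻¹ * m⁻¹ = (x * x) * (x⁻¹ * m * (x⁻¹ * m)) * (m * m)⁻¹ by group]
      exact mul_mem (mul_mem (hsq x hx) (hsq _ (mul_mem (inv_mem hx) (hMR hm)))) (inv_mem (hsq m (hMR hm)))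
    exact (mul_mem_cancel_right (inv_mem hm)).1 (hΦM h1)
  have hcase : ∀ x ∈ R, x ∈ M ∨ x * t ∈ M := by
    intro x hx
    refine or_iff_not_imp_left.2 fun hxM => ?_
    let M' : Subgroup G :=
      { carrier := {g | g ∈ R ∧ (g ∈ M ∨ g * x ∈ M)}
        one_mem' := ⟨one_mem R, Or.inl (one_mem M)⟩
        mul_mem' := fun {a b} ha hb => ⟨mul_mem ha.1 hb.1, by
          rcases ha.2 with a1 | a1 <;> rcases hb.2 with b1 | b1
          · exact Or.inl (mul_mem a1 b1)
          · exact Or.inr (by rw [mul_assoc]; exact mul_mem a1 b1)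
          · refine Or.inr ?_
            rw [show a * b * x = (a * x) * (x⁻¹ * b * x) by group]
            exact mul_mem a1 (by simpa using hn x⁻¹ (inv_mem hx) b b1)
          · refine Or.inl ?_
            rw [show a * b = (a * x) * (x⁻¹ * (b * x) * x) * (x * x)⁻¹ by group]
            exact mul_mem (mul_mem a1 (by simpa using hn x⁻¹ (inv_mem hx) _ b1)) (inv_mem (hΦM (hsq x hx)))⟩
        inv_mem' := fun {a} ha => ⟨inv_mem ha.1, by
          rcases ha.2 with a1 | a1
          · exact Or.inl (inv_mem a1)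
          · refine Or.inr ?_
            rw [show a⁻¹ * x = (x * (a * x)⁻¹ * x⁻¹) * (x * x) by group]
            exact mul_mem (hn x hx _ (inv_mem a1)) (hΦM (hsq x hx))⟩ }
    have hMM' : M ≤ M' := fun g hg => ⟨hMR hg, Or.inl hg⟩
    have hxM' : x ∈ M' := ⟨hx, Or.inr (hΦM (hsq x hx))⟩
    by_cases htM' : t ∈ M'
    · have h1 : t * x ∈ M := htM'.2.resolve_left htM
      simpa [mul_assoc] using hn t⁻¹ (inv_mem htR) _ h1
    · exact absurd (hmax ⟨hΦM.trans hMM', fun g hg => hg.1, htM'⟩ hMM' hxM') hxM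
  refine ⟨fun x => if x ∈ M then 0 else 1, ?_, if_neg htM, fun x hx => if_pos (hΦM hx)⟩
  intro x hx y hy
  by_cases a : x ∈ M <;> by_cases b : y ∈ M <;> simp only [a, b, if_true, if_false]
  · simp [mul_mem a b]
  · simp [mt (mul_mem_cancel_left a).1 b]
  · simp [mt (mul_mem_cancel_right b).1 a]
  · have h1 := (hcase x hx).resolve_left a
    have h2 := (hcase y hy).resolve_left b
    have h3 : x * y ∈ M := by
      rw [show x * y = (x * t) * (t⁻¹ * (y * t) * t) * (t * t)⁻¹ by group]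
      exact mul_mem (mul_mem h1 (by simpa using hn t⁻¹ (inv_mem htR) _ h2)) (inv_mem (hΦM (hsq t htR)))
    simp [h3, zmod2_add_self]

variable [Finite G]

/-- A character of a Sylow subgroup equal to one on the class of an involution contradicts simplicity. -/
theorem char_false [IsSimpleGroup G] (hna : ¬ IsMulCommutative G) (S : Sylow 2 G) {t : G} (ht : orderOf t = 2)
    (htS : t ∈ (S : Subgroup G)) {χ : G → ZMod 2} (hχ : IsChar (S : Subgroup G) χ)
    (h1 : ∀ y ∈ (S : Subgroup G), IsConj t y → χ y = 1) : False := by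
  have ht1 := h1 t htS (IsConj.refl t)
  obtain ⟨y, hy, hc⟩ := exists_conj_mem hna S (M := hχ.ker) (fun x hx => hx.1)
    (hχ.relIndex_ker htS ht1) ht htS (fun h => absurd (h.2.symm.trans ht1) (by decide))
  exact absurd (hy.2.symm.trans (h1 y hy.1 hc)) (by decide)

/-- A two-group containing its two-element normalising elements is a Sylow subgroup. -/
theorem exists_sylow_eq {R : Subgroup G} (hR : IsPGroup 2 R)
    (h : ∀ S : Sylow 2 G, R ≤ (S : Subgroup G) → ∀ x ∈ (S : Subgroup G),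
      x ∈ Subgroup.normalizer (R : Set G) → x ∈ R) : ∃ S : Sylow 2 G, (S : Subgroup G) = R := by
  haveI : Fact (Nat.Prime 2) := ⟨Nat.prime_two⟩
  obtain ⟨S, hS⟩ := hR.exists_le_sylow
  refine ⟨S, (by_contra fun hne => ?_)⟩
  obtain ⟨x, hx, hxR⟩ := SetLike.exists_of_lt (SylIn.normalizer_growth hS (Ne.symm hne) S.isPGroup')
  exact hxR (h S hS x hx.1 hx.2)

end Cfsg.Agent.Fusion.L2Cent
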