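import Cfsg.Agent.Lib.Fusion.L2Cent.Translation

/-!
# Towers with translations: no conjugate of `t` in the complement
-/

set_option autoImplicit false
set_option linter.style.haveILetI false
set_option linter.unusedSectionVars false

namespace Cfsg.Agent.Fusion.L2Cent

universe u

theorem pow_sq_two {M : Type u} [Group M] (a : M) : a * a * (a * a) = a ^ 2 ^ 2 := by
  rw [← pow_two, ← pow_two, ← pow_mul]; rfl

variable {G : Type u} [Group G] [Finite G] {t σ : G} {T D P R U W : Subgroup G} {n m : ℕ}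

namespace Trans

variable (h : ECent t T D n σ) (hf : Fused t T D) (hw : Tow t σ D m P W) (hr : Trans t σ D m P R U W)
include h hf hw hr

theorem normU {x : G} (hx : x ∈ U) : x ∈ Subgroup.normalizer (P : Set G) := hr.norm x (hr.le hx)

theorem dlt_mul' {a b : G} (ha : a ∈ U) (hb : b ∈ U) : dlt t m (a * b) = dlt t m a * dlt t m b :=
  Tow.dlt_triv_mul h hf hw (normU h hf hw hr ha) (normU h hf hw hr hb) (hr.triv a (hr.le ha))

theorem dlt_inv' {a : G} (ha : a ∈ U) : dlt t m a⁻¹ = dlt t m a :=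
  Tow.dlt_triv_inv h hf hw (normU h hf hw hr ha) (hr.triv a (hr.le ha))

theorem dlt_memU {a : G} (ha : a ∈ U) : dlt t m a ∈ D := Tow.dlt_mem h hf hw (normU h hf hw hr ha)

theorem class_one {x : G} (hx : x ∈ U) (h1 : dlt t m x = 1) : x ∈ W := by
  have hxP := Tow.mem_P_of_stab h hf hw hr.pg hr.PR (hr.le hx) (normU h hf hw hr hx) h1
  refine (hw.split x hxP).resolve_right fun hxt => hr.tU ?_
  exact (mul_mem_cancel_left hx).1 (hr.WU hxt)

theorem class_eq {x y : G} (hx : x ∈ U) (hy : y ∈ U) (he : dlt t m x = dlt t m y) : x⁻¹ * y ∈ W :=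
  class_one h hf hw hr (mul_mem (inv_mem hx) hy) (by
    rw [dlt_mul' h hf hw hr (inv_mem hx) hy, dlt_inv' h hf hw hr hx, ← he, h.sq _ (dlt_memU h hf hw hr hx)])

theorem D_central {x u : G} (hx : x ∈ U) (hu : u ∈ D) : x * u = u * x :=
  mul_inv_eq_iff_eq_mul.1 (hr.triv x (hr.le hx) u hu)

theorem sq_mem {x : G} (hx : x ∈ U) : x * x ∈ W :=
  class_one h hf hw hr (mul_mem hx hx) (by rw [dlt_mul' h hf hw hr hx hx, h.sq _ (dlt_memU h hf hw hr hx)])

theorem dlt_σ {x : G} (hx : x ∈ U) : dlt t m (σ * x * σ⁻¹) = σ * dlt t m x * σ⁻¹ := by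
  simpa using Tow.dlt_conj_σ h hf hw 1 (normU h hf hw hr hx)

theorem card_U_ge : Nat.card D * Nat.card W ≤ Nat.card U := by
  choose r hrU hrd using fun u : ↥D => hr.surj u.1 u.2
  rw [← Nat.card_prod]
  refine Nat.card_le_card_of_injective
    (fun p : ↥D × ↥W => (⟨r p.1 * p.2.1, mul_mem (hrU p.1) (hr.WU p.2.2)⟩ : ↥U)) ?_
  rintro ⟨a, b⟩ ⟨a', b'⟩ e
  have e' : r a * b.1 = r a' * b'.1 := congrArg Subtype.val e
  have ha : a = a' := Subtype.ext (by
    have e2 := congrArg (dlt t m) e'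
    rwa [dlt_mul' h hf hw hr (hrU a) (hr.WU b.2), dlt_mul' h hf hw hr (hrU a') (hr.WU b'.2),
      Tow.dlt_W h hf hw b.2, Tow.dlt_W h hf hw b'.2, mul_one, mul_one, hrd, hrd] at e2)
  subst ha
  exact Prod.ext rfl (Subtype.ext (mul_left_cancel e'))

theorem abel_of_central (hc : ∀ w ∈ W, ∀ x ∈ U, x * w = w * x) : ∀ x ∈ U, ∀ y ∈ U, x * y = y * x := by
  classical
  set com : G → G → G := fun x y => x * y * x⁻¹ * y⁻¹ with hcom
  have hcW : ∀ x ∈ U, ∀ y ∈ U, com x y ∈ W := by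
    intro x hx y hy
    rw [hcom]
    show x * y * x⁻¹ * y⁻¹ ∈ W
    rw [show x * y * x⁻¹ * y⁻¹ = (x * x) * (x⁻¹ * y * (x⁻¹ * y)) * (y * y)⁻¹ by group]
    exact mul_mem (mul_mem (sq_mem h hf hw hr hx) (sq_mem h hf hw hr (mul_mem (inv_mem hx) hy)))
      (inv_mem (sq_mem h hf hw hr hy))
  have cl : ∀ x ∈ U, ∀ x' ∈ U, ∀ y ∈ U, com (x * x') y = com x y * com x' y := by
    intro x hx x' hx' y hy
    have h1 := hc _ (hcW x' hx' y hy) x hx
    rw [← hw.comm _ (hcW x' hx' y hy) _ (hcW x hx y hy)]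
    calc com (x * x') y = x * com x' y * (y * x⁻¹ * y⁻¹) := by simp only [hcom]; group
      _ = com x' y * x * (y * x⁻¹ * y⁻¹) := by rw [h1]
      _ = com x' y * com x y := by simp only [hcom]; group
  have cr : ∀ x ∈ U, ∀ y ∈ U, ∀ y' ∈ U, com x (y * y') = com x y * com x y' := by
    intro x hx y hy y' hy'
    have h1 := hc _ (hcW x hx y' hy') y hy
    calc com x (y * y') = com x y * (y * com x y') * y⁻¹ := by simp only [hcom]; group
      _ = com x y * (com x y' * y) * y⁻¹ := by rw [h1]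
      _ = com x y * com x y' := by group
  have c0 : ∀ w ∈ W, ∀ x ∈ U, com w x = 1 ∧ com x w = 1 := fun w hwW x hx =>
    ⟨by simp only [hcom]; rw [← hc w hwW x hx]; group, by simp only [hcom]; rw [hc w hwW x hx]; group⟩
  have hcD : ∀ x ∈ U, ∀ y ∈ U, com x y ∈ D := fun x hx y hy => hw.omega _ (hcW x hx y hy) (by
    rw [← cl x hx x hx y hy, (c0 _ (sq_mem h hf hw hr hx) y hy).1])
  set rep : G → G := fun u => if hu : u ∈ D then (hr.surj u hu).choose else 1 with hrep
  have hrp : ∀ u ∈ D, rep u ∈ U ∧ dlt t m (rep u) = u := fun u hu => by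
    simp only [hrep, dif_pos hu]
    exact (hr.surj u hu).choose_spec
  have hwd : ∀ x ∈ U, ∀ y ∈ U, com x y = com (rep (dlt t m x)) (rep (dlt t m y)) := by
    intro x hx y hy
    obtain ⟨ha, had⟩ := hrp _ (dlt_memU h hf hw hr hx)
    obtain ⟨hb, hbd⟩ := hrp _ (dlt_memU h hf hw hr hy)
    have hwa := class_eq h hf hw hr ha hx had
    have hwb := class_eq h hf hw hr hb hy hbd
    conv_lhs =>
      rw [show x = rep (dlt t m x) * ((rep (dlt t m x))⁻¹ * x) by group,
        show y = rep (dlt t m y) * ((rep (dlt t m y))⁻¹ * y) by group]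
    rw [cl _ ha _ (hr.WU hwa) _ (mul_mem hb (hr.WU hwb)), (c0 _ hwa _ (mul_mem hb (hr.WU hwb))).1, mul_one,
      cr _ ha _ hb _ (hr.WU hwb), (c0 _ hwb _ ha).2, mul_one]
  have hB := alt_trivial h.sq h.σodd h.σD h.trans (fun u v => com (rep u) (rep v))
    (fun u hu v hv => hcD _ (hrp u hu).1 _ (hrp v hv).1)
    (fun a ha a' ha' b hb => by
      show com (rep (a * a')) (rep b) = _
      rw [← cl _ (hrp a ha).1 _ (hrp a' ha').1 _ (hrp b hb).1,
        hwd _ (mul_mem (hrp a ha).1 (hrp a' ha').1) _ (hrp b hb).1,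
        dlt_mul' h hf hw hr (hrp a ha).1 (hrp a' ha').1, (hrp a ha).2, (hrp a' ha').2, (hrp b hb).2])
    (fun a ha b hb b' hb' => by
      show com (rep a) (rep (b * b')) = _
      rw [← cr _ (hrp a ha).1 _ (hrp b hb).1 _ (hrp b' hb').1,
        hwd _ (hrp a ha).1 _ (mul_mem (hrp b hb).1 (hrp b' hb').1),
        dlt_mul' h hf hw hr (hrp b hb).1 (hrp b' hb').1, (hrp a ha).2, (hrp b hb).2, (hrp b' hb').2])
    (fun a ha b hb => by
      show com (rep (σ * a * σ⁻¹)) (rep (σ * b * σ⁻¹)) = σ * com (rep a) (rep b) * σ⁻¹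
      rw [show σ * com (rep a) (rep b) * σ⁻¹ = com (σ * rep a * σ⁻¹) (σ * rep b * σ⁻¹) by
          simp only [hcom]; group,
        hwd _ (hr.σU _ (hrp a ha).1) _ (hr.σU _ (hrp b hb).1), dlt_σ h hf hw hr (hrp a ha).1,
        dlt_σ h hf hw hr (hrp b hb).1, (hrp a ha).2, (hrp b hb).2])
    (fun a _ => by show com (rep a) (rep a) = 1; simp only [hcom]; group)
  intro x hx y hy
  have h1 : com x y = 1 :=
    (hwd x hx y hy).trans (hB _ (dlt_memU h hf hw hr hx) _ (dlt_memU h hf hw hr hy))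
  exact mul_inv_eq_iff_eq_mul.1 (mul_inv_eq_one.1 h1)

/-- The complement contains no conjugate of `t`. -/
theorem not_conj_U {y : G} (hyU : y ∈ U) : ¬ IsConj t y := by
  classical
  haveI : Fact (Nat.Prime 2) := ⟨Nat.prime_two⟩
  intro hy
  have hyW : y ∉ W := fun e => Tow.not_conj_W h hf hw e hy
  have hy2 : y * y = 1 := invol_mul_self (conj_invol h.ord hy)
  have hyi : y⁻¹ = y := inv_eq_of_mul_eq_one_right hy2
  have hy1 : dlt t m y ≠ 1 := fun e => hyW (class_one h hf hw hr hyU e)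
  have hcard : Nat.card (U ⊓ Subgroup.centralizer ({y} : Set G) : Subgroup G) ≤ 2 * Nat.card D := by
    rw [← h.toCent.card_T]
    exact h.toCent.card_cent_le (hr.pg.to_le hr.le) hy
  have hq : 4 ≤ Nat.card D := by
    rw [h.card]
    calc 4 = 2 ^ 2 := rfl
      _ ≤ 2 ^ n := Nat.pow_le_pow_right two_pos h.two_le
  rcases Nat.lt_or_ge m 2 with hm | hm
  · obtain ⟨-, hWD⟩ := Tow.eq_of_one h hf hw (by have := hw.one_le; omega)
    have hab := abel_of_central h hf hw hr fun w hwW x hx => D_central h hf hw hr hx (hWD ▸ hwW)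
    rw [inf_eq_left.2 fun x hx => Subgroup.mem_centralizer_singleton_iff.2 (hab x hx y hyU)] at hcard
    have h1 := card_U_ge h hf hw hr
    rw [hWD] at h1
    nlinarith
  -- the action on the second layer
  have hinv : ∀ {e : G}, e ∈ D → e⁻¹ = e := fun he => h.inv_D he
  have hnW : ∀ {x w : G}, x ∈ U → w ∈ W → x * w * x⁻¹ ∈ W := fun hx hwW =>
    Tow.normW h hf hw (normU h hf hw hr hx) hwW
  set ph : G → G → G := fun x w => w⁻¹ * (x * w * x⁻¹) with hph
  have hphD : ∀ x ∈ U, ∀ w ∈ W, w * w ∈ D → ph x w ∈ D := fun x hx w hwW hw2 =>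
    hw.omega _ (mul_mem (inv_mem hwW) (hnW hx hwW)) (by
      have hc := hw.comm _ (hnW hx hwW) _ (inv_mem hwW)
      calc ph x w * ph x w = w⁻¹ * (x * w * x⁻¹ * w⁻¹) * (x * w * x⁻¹) := by simp only [hph]; group
        _ = w⁻¹ * (w⁻¹ * (x * w * x⁻¹)) * (x * w * x⁻¹) := by rw [hc]
        _ = (w * w)⁻¹ * (x * (w * w) * x⁻¹) := by group
        _ = 1 := by rw [hr.triv x (hr.le hx) _ hw2, inv_mul_cancel])
  have phw : ∀ x ∈ U, ∀ a ∈ W, ∀ b ∈ W, ph x (a * b) = ph x a * ph x b := by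
    intro x hx a ha b hb
    calc ph x (a * b) = b⁻¹ * (a⁻¹ * (x * a * x⁻¹)) * (x * b * x⁻¹) := by simp only [hph]; group
      _ = a⁻¹ * (x * a * x⁻¹) * b⁻¹ * (x * b * x⁻¹) := by
          rw [hw.comm _ (inv_mem hb) _ (mul_mem (inv_mem ha) (hnW hx ha))]
      _ = ph x a * ph x b := by simp only [hph]; group
  have phx : ∀ x ∈ U, ∀ x' ∈ U, ∀ w ∈ W, w * w ∈ D → ph (x * x') w = ph x w * ph x' w := by
    intro x hx x' hx' w hwW hw2
    have he := hr.triv x (hr.le hx) _ (hphD x' hx' w hwW hw2)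
    calc ph (x * x') w = w⁻¹ * (x * w * x⁻¹) * (x * (ph x' w) * x⁻¹) := by simp only [hph]; group
      _ = ph x w * ph x' w := by rw [he]
  have phW : ∀ x ∈ W, ∀ w ∈ W, ph x w = 1 := fun x hx w hwW => by
    simp only [hph]; rw [hw.comm x hx w hwW, mul_inv_cancel_right, inv_mul_cancel]
  have phclass : ∀ x ∈ U, ∀ x' ∈ U, dlt t m x = dlt t m x' → ∀ w ∈ W, w * w ∈ D → ph x w = ph x' w := by
    intro x hx x' hx' he w hwW hw2
    have hxx := class_eq h hf hw hr hx hx' he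
    conv_rhs => rw [show x' = x * (x⁻¹ * x') by group]
    rw [phx x hx _ (hr.WU hxx) w hwW hw2, phW _ hxx w hwW, mul_one]
  have hno : ∀ z ∈ U, IsConj t z → ∀ w ∈ W, ph z w = 1 → w * w = 1 := by
    intro z hz hzc w hwW hp
    have hcw : w ∈ Subgroup.centralizer ({z} : Set G) := by
      rw [Subgroup.mem_centralizer_singleton_iff]
      have h1 : w = z * w * z⁻¹ := inv_mul_eq_one.1 hp
      calc w * z = z * w * z⁻¹ * z := by rw [← h1]
        _ = z * w := by group
    obtain ⟨g, hg⟩ := isConj_iff.1 hzc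
    have hzp : IsPGroup 2 (Subgroup.zpowers (g⁻¹ * w * g)) := by
      refine (isPGroup_cj (hw.pg.to_le hw.le) g⁻¹).to_le (Subgroup.zpowers_le.2 ?_)
      simpa using conj_mem_cj (g := g⁻¹) hwW
    obtain ⟨c, -, hcT⟩ := h.syl.conj_le hzp (Subgroup.zpowers_le.2 (by
      rw [Subgroup.mem_centralizer_singleton_iff]
      have h1 := Subgroup.mem_centralizer_singleton_iff.1 hcw
      rw [← hg] at h1
      calc g⁻¹ * w * g * t = g⁻¹ * (w * (g * t * g⁻¹)) * g := by group
        _ = g⁻¹ * ((g * t * g⁻¹) * w) * g := by rw [h1]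
        _ = t * (g⁻¹ * w * g) := by group))
    have h2 := h.sq_T (hcT (conj_mem_cj (Subgroup.mem_zpowers _)))
    rw [show c * (g⁻¹ * w * g) * c⁻¹ * (c * (g⁻¹ * w * g) * c⁻¹) = c * g⁻¹ * (w * w) * (c * g⁻¹)⁻¹ by group] at h2
    exact conj_eq_one_iff.1 h2
  -- conjugates of `y` in every class
  have hcls : ∀ u ∈ D, u ≠ 1 → ∃ z ∈ U, IsConj t z ∧ dlt t m z = u := by
    intro u hu hu1
    obtain ⟨i, hi⟩ := h.trans _ (dlt_memU h hf hw hr hyU) hy1 u hu hu1
    refine ⟨σ ^ i * y * (σ ^ i)⁻¹, ?_, (conj_iff _).2 hy,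
      (Tow.dlt_conj_σ h hf hw i (normU h hf hw hr hyU)).trans hi⟩
    clear hi
    induction i with
    | zero => simpa using hyU
    | succ i ih =>
      rw [pow_succ', show σ * σ ^ i * y * (σ * σ ^ i)⁻¹ = σ * (σ ^ i * y * (σ ^ i)⁻¹) * σ⁻¹ by group]
      exact hr.σU _ ih
  rcases Nat.lt_or_ge m 3 with hm3 | hm3
  · -- exponent four
    have hm2 : m = 2 := by omega
    have hsqD : ∀ w ∈ W, w * w ∈ D := fun w hwW => hw.omega _ (mul_mem hwW hwW) (by
      have h1 := hw.exp w hwW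
      rw [hm2] at h1
      rw [← h1, pow_sq_two w])
    have hcomD : ∀ x ∈ U, y * x * y⁻¹ * x⁻¹ ∈ D := by
      intro x hx
      have hwcase : ∀ w ∈ W, y * w * y⁻¹ * w⁻¹ ∈ D := fun w hwW => by
        rw [hw.comm _ (hnW hyU hwW) _ (inv_mem hwW)]
        exact hphD y hyU w hwW (hsqD w hwW)
      rcases eq_or_ne (dlt t m x) 1 with e | e
      · exact hwcase x (class_one h hf hw hr hx e)
      rcases eq_or_ne (dlt t m x) (dlt t m y) with e' | e'
      · have hxy := class_eq h hf hw hr hyU hx e'.symm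
        have h1 := hwcase _ hxy
        rw [show y * x * y⁻¹ * x⁻¹ = y * (y * (y⁻¹ * x) * y⁻¹ * (y⁻¹ * x)⁻¹) * y⁻¹ by group,
          hr.triv y (hr.le hyU) _ h1]
        exact h1
      obtain ⟨z, hz, hzc, hzd⟩ := hcls _ (dlt_memU h hf hw hr hx) e
      have hzi : z⁻¹ = z := inv_eq_of_mul_eq_one_right (invol_mul_self (conj_invol h.ord hzc))
      set c := y * z * y⁻¹ * z⁻¹ with hc
      have hcW : c ∈ W := by
        rw [hc, hyi, hzi, show y * z * y * z = y * z * (y * z) by group]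
        exact sq_mem h hf hw hr (mul_mem hyU hz)
      have hc2 : c * c ∈ D := hsqD c hcW
      have hzz : z * z = 1 := invol_mul_self (conj_invol h.ord hzc)
      have hci : c⁻¹ = z * y * z * y := by
        rw [hc, hyi, hzi]; simp only [mul_inv_rev, hyi, hzi, mul_assoc]
      have hyc : y * c * y⁻¹ = c⁻¹ := by
        rw [hci, hc, hyi, hzi]
        calc y * (y * z * y * z) * y = (y * y) * z * y * z * y := by group
          _ = z * y * z * y := by rw [hy2, one_mul]
      have hzc' : z * c * z⁻¹ = c⁻¹ := by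
        rw [hci, hc, hyi, hzi]
        calc z * (y * z * y * z) * z = z * y * z * y * (z * z) := by group
          _ = z * y * z * y := by rw [hzz, mul_one]
      have h1 : ph y c = c * c := by
        show c⁻¹ * (y * c * y⁻¹) = c * c
        rw [hyc, ← mul_inv_rev, hinv hc2]
      have h2 : ph z c = c * c := by
        show c⁻¹ * (z * c * z⁻¹) = c * c
        rw [hzc', ← mul_inv_rev, hinv hc2]
      have h3 : ph (y * z) c = 1 := by rw [phx y hyU z hz c hcW hc2, h1, h2, h.sq _ hc2]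
      have hne : dlt t m (y * z) ≠ 1 := by
        rw [dlt_mul' h hf hw hr hyU hz, hzd]
        intro e2
        apply e'
        rw [← inv_eq_of_mul_eq_one_right e2, hinv (dlt_memU h hf hw hr hyU)]
      obtain ⟨z₃, hz₃, hz₃c, hz₃d⟩ := hcls _ (dlt_memU h hf hw hr (mul_mem hyU hz)) hne
      have h4 := hno z₃ hz₃ hz₃c c hcW (by rw [phclass z₃ hz₃ _ (mul_mem hyU hz) hz₃d c hcW hc2, h3])
      have hcD : c ∈ D := hw.omega c hcW h4
      have hzx := class_eq h hf hw hr hz hx hzd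
      have hwD := hwcase _ hzx
      rw [show y * x * y⁻¹ * x⁻¹ = c * (z * (y * (z⁻¹ * x) * y⁻¹ * (z⁻¹ * x)⁻¹) * z⁻¹) by rw [hc]; group,
        hr.triv z (hr.le hz) _ hwD]
      exact mul_mem hcD hwD
    let f : ↥U →* ↥D := MonoidHom.mk' (fun x => ⟨y * x.1 * y⁻¹ * x.1⁻¹, hcomD x.1 x.2⟩) (fun a b => Subtype.ext (by
      show y * (a * b : ↥U).1 * y⁻¹ * (a * b : ↥U).1⁻¹ = (y * a.1 * y⁻¹ * a.1⁻¹) * (y * b.1 * y⁻¹ * b.1⁻¹)
      have hb := hr.triv a.1 (hr.le a.2) _ (hcomD b.1 b.2)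
      rw [Subgroup.coe_mul, show y * (a.1 * b.1) * y⁻¹ * (a.1 * b.1)⁻¹ =
        y * a.1 * y⁻¹ * a.1⁻¹ * (a.1 * (y * b.1 * y⁻¹ * b.1⁻¹) * a.1⁻¹) by group, hb]))
    have hk : Nat.card f.ker ≤ 2 * Nat.card D := by
      refine le_trans (Nat.card_le_card_of_injective (fun x : f.ker =>
        (⟨x.1.1, x.1.2, Subgroup.mem_centralizer_singleton_iff.2 ?_⟩ :
          (U ⊓ Subgroup.centralizer ({y} : Set G) : Subgroup G))) ?_) hcard
      · have h1 : y * x.1.1 * y⁻¹ * x.1.1⁻¹ = 1 := congrArg Subtype.val (MonoidHom.mem_ker.1 x.2)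
        exact (mul_inv_eq_iff_eq_mul.1 (mul_inv_eq_one.1 h1)).symm
      · intro a b e
        exact Subtype.ext (Subtype.ext (congrArg (fun z : (U ⊓ Subgroup.centralizer ({y} : Set G) : Subgroup G) => z.1) e))
    have hU1 := Subgroup.index_mul_card f.ker
    rw [Subgroup.index_ker] at hU1
    have hr1 := Subgroup.card_le_card_group f.range
    have hWge : Nat.card D * Nat.card D ≤ Nat.card W := by
      choose sq hsq hsq' using fun u : ↥D => hw.top u.1 u.2
      rw [← Nat.card_prod]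
      refine Nat.card_le_card_of_injective
        (fun p : ↥D × ↥D => (⟨sq p.1 * p.2.1, mul_mem (hsq p.1) (hw.DW p.2.2)⟩ : ↥W)) ?_
      rintro ⟨a, b⟩ ⟨a', b'⟩ e
      have e' : sq a * b.1 = sq a' * b'.1 := congrArg Subtype.val e
      have ha : a = a' := Subtype.ext (by
        have e2 := congrArg (fun z => z ^ 2 ^ (m - 1)) e'
        simp only [Tow.pw_mul h hf hw (hsq a) (hw.DW b.2), Tow.pw_mul h hf hw (hsq a') (hw.DW b'.2), hsq'] at e2
        rwa [show b.1 ^ 2 ^ (m - 1) = 1 by rw [hm2]; exact Tow.D_one h hf hw b.2,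
          show b'.1 ^ 2 ^ (m - 1) = 1 by rw [hm2]; exact Tow.D_one h hf hw b'.2, mul_one, mul_one] at e2)
      subst ha
      exact Prod.ext rfl (Subtype.ext (mul_left_cancel e'))
    have h1 := card_U_ge h hf hw hr
    have h2 : Nat.card D * (Nat.card D * Nat.card D) ≤ Nat.card U :=
      le_trans (Nat.mul_le_mul_left _ hWge) h1
    have h3 : Nat.card U ≤ Nat.card D * (2 * Nat.card D) := hU1 ▸ Nat.mul_le_mul hr1 hk
    nlinarith
  · -- exponent at least eight
    have key : ∀ z ∈ U, IsConj t z → ∀ w ∈ W, w * w ∈ D → ph z w = w * w := by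
      intro z hz hzc w hwW hw2
      have hz2 := invol_mul_self (conj_invol h.ord hzc)
      have hzi : z⁻¹ = z := inv_eq_of_mul_eq_one_right hz2
      obtain ⟨v, hv, hv4⟩ := Tow.exists_layer h hf hw (k := 2) (by omega) hw2
      have hv2 : v * v * (v * v) ∈ D := by
        rw [pow_sq_two v, hv4]; exact hw2
      set e := ph z v with he
      have heW : e ∈ W := mul_mem (inv_mem hv) (hnW hz hv)
      have hee : ph z (v * v) = e * e := phw z hz v hv v hv
      have he2 : e * e ∈ D := hee ▸ hphD z hz _ (mul_mem hv hv) hv2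
      have hze : z * e * z⁻¹ = e⁻¹ := by
        rw [he, hph]
        show z * (v⁻¹ * (z * v * z⁻¹)) * z⁻¹ = (v⁻¹ * (z * v * z⁻¹))⁻¹
        calc z * (v⁻¹ * (z * v * z⁻¹)) * z⁻¹ = (z * v⁻¹ * z) * v * (z⁻¹ * z⁻¹) := by group
          _ = (z * v⁻¹ * z⁻¹) * v * 1 := by rw [hzi, hz2]
          _ = (v⁻¹ * (z * v * z⁻¹))⁻¹ := by group
      have hpe : ph z e = e * e := by
        show e⁻¹ * (z * e * z⁻¹) = e * e
        rw [hze, ← mul_inv_rev, hinv he2]
      have hone : (e * (v * v)) * (e * (v * v)) = 1 := hno z hz hzc _ (mul_mem heW (mul_mem hv hv))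
        (by rw [phw z hz e heW _ (mul_mem hv hv), hpe, hee, h.sq _ he2])
      have hu : e * e = w * w := by
        have h5 : (e * e) * (v * v * (v * v)) = 1 := by
          rw [← hone]
          calc e * e * (v * v * (v * v)) = e * (e * (v * v)) * (v * v) := by group
            _ = e * ((v * v) * e) * (v * v) := by rw [hw.comm e heW _ (mul_mem hv hv)]
            _ = e * (v * v) * (e * (v * v)) := by group
        rw [← hinv he2, inv_eq_of_mul_eq_one_right h5, ← hv4, pow_sq_two v]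
      have hs : (e⁻¹ * (v * v)) * (e⁻¹ * (v * v)) = 1 := by
        rw [mul_assoc, ← mul_assoc (v * v), hw.comm (v * v) (mul_mem hv hv) e⁻¹ (inv_mem heW)]
        calc e⁻¹ * (e⁻¹ * (v * v) * (v * v)) = (e * e)⁻¹ * (v * v * (v * v)) := by group
          _ = 1 := by rw [hu, pow_sq_two v, hv4, inv_mul_cancel]
      have hwe : (e⁻¹ * w) * (e⁻¹ * w) = 1 := by
        rw [mul_assoc, ← mul_assoc w, hw.comm w hwW e⁻¹ (inv_mem heW)]
        calc e⁻¹ * (e⁻¹ * w * w) = (e * e)⁻¹ * (w * w) := by group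
          _ = 1 := by rw [hu, inv_mul_cancel]
      have hd := hw.omega _ (mul_mem (inv_mem heW) hwW) hwe
      have h6 : ph z (e⁻¹ * w) = 1 := by
        show (e⁻¹ * w)⁻¹ * (z * (e⁻¹ * w) * z⁻¹) = 1
        rw [hr.triv z (hr.le hz) _ hd, inv_mul_cancel]
      rw [show w = e * (e⁻¹ * w) by group, phw z hz e heW _ (mul_mem (inv_mem heW) hwW), hpe, h6, mul_one,
        mul_inv_cancel_left]
      exact hu
    obtain ⟨b, hb, hb1, hby⟩ := h.exists_third (dlt_memU h hf hw hr hyU)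
    obtain ⟨z, hz, hzc, hzd⟩ := hcls b hb hb1
    have hne : dlt t m (y * z) ≠ 1 := by
      rw [dlt_mul' h hf hw hr hyU hz, hzd]
      intro e2
      exact hby (by rw [← inv_eq_of_mul_eq_one_right e2, hinv (dlt_memU h hf hw hr hyU)])
    obtain ⟨z₃, hz₃, hz₃c, hz₃d⟩ := hcls _ (dlt_memU h hf hw hr (mul_mem hyU hz)) hne
    obtain ⟨w, hwW, hw4⟩ := Tow.exists_layer h hf hw (k := 1) (by omega) hb
    have hw2 : w * w = b := by rw [← hw4, pow_one, pow_two]
    have hw2D : w * w ∈ D := hw2 ▸ hb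
    have h7 := key z₃ hz₃ hz₃c w hwW hw2D
    rw [phclass z₃ hz₃ _ (mul_mem hyU hz) hz₃d w hwW hw2D, phx y hyU z hz w hwW hw2D,
      key y hyU hy w hwW hw2D, key z hz hzc w hwW hw2D] at h7
    exact hb1 (hw2 ▸ (mul_eq_left.1 h7))

end Trans

end Cfsg.Agent.Fusion.L2Cent
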