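import Cfsg.Agent.Lib.Fusion.L2Cent.Basic
import Cfsg.Agent.Lib.Fusion.L2Cent.Count
import Cfsg.Agent.Lib.Fusion.FixedPointParity

/-!
# The dihedral case is impossible in a simple group
-/

set_option autoImplicit false
set_option linter.style.haveILetI false
set_option linter.unusedSectionVars false

namespace Cfsg.Agent.Fusion.L2Cent

universe u

variable {G : Type u} [Group G] [Finite G] {t r : G} {n : ℕ} {T D : Subgroup G}
  (h : Cent t T D) (hD : StrongProd.Dih D r n)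
include h hD

theorem comm_z {x : G} (hx : x ∈ T) : x * r ^ (2 * n) = r ^ (2 * n) * x := by
  rcases h.split x hx with hd | hd
  · exact hD.z_cent hd
  · have h1 := hD.z_cent hd
    have h2 := h.comm (h.DT hD.z_mem)
    calc x * r ^ (2 * n) = x * t * (t * r ^ (2 * n)) := by rw [mul_assoc, ← mul_assoc t, h.tt, one_mul]
      _ = x * t * (r ^ (2 * n) * t) := by rw [h2]
      _ = r ^ (2 * n) * (x * t) * t := by rw [← mul_assoc, h1]
      _ = r ^ (2 * n) * x := by rw [mul_assoc, mul_assoc x, h.tt, mul_one]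

/-- The square of a rotation of order four is fixed by the normaliser of `T`. -/
theorem norm_z {g : G} (hg : g ∈ Subgroup.normalizer (T : Set G)) :
    g * r ^ (2 * n) * g⁻¹ = r ^ (2 * n) := by
  have hn := Subgroup.mem_normalizer_iff.1 hg
  have hw : g * r ^ n * g⁻¹ ∈ T := (hn _).1 (h.DT hD.q_mem)
  obtain ⟨d, hd, hdd⟩ : ∃ d ∈ D, g * r ^ (2 * n) * g⁻¹ = d * d := by
    have e : g * r ^ (2 * n) * g⁻¹ = (g * r ^ n * g⁻¹) * (g * r ^ n * g⁻¹) := by
      rw [← hD.q_sq]; group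
    rcases h.split _ hw with hd | hd
    · exact ⟨_, hd, e⟩
    · refine ⟨_, hd, ?_⟩
      rw [e]
      generalize hwd : g * r ^ n * g⁻¹ = w at hw
      calc w * w = w * t * (t * w) := by rw [mul_assoc, ← mul_assoc t t w, h.tt, one_mul]
        _ = w * t * (w * t) := by rw [← h.comm hw]
  have hcc : ∀ y ∈ D, g * r ^ (2 * n) * g⁻¹ * y = y * (g * r ^ (2 * n) * g⁻¹) := fun y hy => by
    have h1 := comm_z h hD ((hn (g⁻¹ * y * g)).2 (by
      rw [show g * (g⁻¹ * y * g) * g⁻¹ = y by group]; exact h.DT hy))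
    calc g * r ^ (2 * n) * g⁻¹ * y = g * (r ^ (2 * n) * (g⁻¹ * y * g)) * g⁻¹ := by group
      _ = g * (g⁻¹ * y * g * r ^ (2 * n)) * g⁻¹ := by rw [h1]
      _ = y * (g * r ^ (2 * n) * g⁻¹) := by group
  rcases hD.cent_all (x := g * r ^ (2 * n) * g⁻¹) (hdd ▸ mul_mem hd hd) hcc with e | e
  · exact absurd (by
      calc r ^ (2 * n) = g⁻¹ * (g * r ^ (2 * n) * g⁻¹) * g := by group
        _ = 1 := by rw [e]; group) hD.z_ne
  · exact e

theorem ord_invol {u : G} (hu : u * u = 1) (h1 : u ≠ 1) : orderOf u = 2 :=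
  orderOf_eq_prime (by rw [sq, hu]) h1

/-- The Sylow subgroup `T` is not a Sylow subgroup of the group. -/
theorem not_sylow [IsSimpleGroup G] (hna : ¬ IsMulCommutative G) (S : Sylow 2 G)
    (hTS : T = (S : Subgroup G)) : False := by
  haveI : Fact (Nat.Prime 2) := ⟨Nat.prime_two⟩
  have hM : D.relIndex (S : Subgroup G) = 2 := by
    rw [← hTS, Subgroup.relIndex]
    have := Subgroup.index_mul_card (D.subgroupOf T)
    rw [Nat.card_congr (Subgroup.subgroupOfEquivOfLe h.DT).toEquiv, h.card_T] at this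
    exact Nat.eq_of_mul_eq_mul_right Nat.card_pos this
  obtain ⟨v, hv, hvc⟩ := exists_conj_mem hna S (hTS ▸ h.DT) hM h.ord (hTS ▸ h.tT) h.tD
  obtain ⟨c, -, hc⟩ := h.conjD v hv (conj_invol h.ord hvc) _ hD.z_mem (ord_invol h hD hD.z_sq hD.z_ne)
  have hz : IsConj t (r ^ (2 * n)) := hc ▸ (conj_iff c).2 hvc
  obtain ⟨g, hg⟩ := isConj_iff.1 hz
  set Cz := Subgroup.centralizer ({r ^ (2 * n)} : Set G)
  have hS : SylIn 2 (S : Subgroup G) Cz := (Fusion.sylIn_top S).mono
    (fun s hs => Subgroup.mem_centralizer_singleton_iff.2 (comm_z h hD (hTS ▸ hs))) le_top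
  obtain ⟨x, hx, hxS⟩ := hS.conj_le (isPGroup_cj S.isPGroup' g) (fun s hs => by
    rw [Subgroup.mem_centralizer_singleton_iff]
    have h1 := h.comm (hTS ▸ mem_cj.1 hs)
    rw [← hg]
    calc s * (g * t * g⁻¹) = g * (g⁻¹ * s * g * t) * g⁻¹ := by group
      _ = g * (t * (g⁻¹ * s * g)) * g⁻¹ := by rw [h1]
      _ = g * t * g⁻¹ * s := by group)
  rw [cj_cj, ← hTS] at hxS
  have hxg : x * g ∈ Subgroup.normalizer (T : Set G) := mem_normalizer_of_cj_le hxS
  refine h.tD ?_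
  have h2 : x * g * t * (x * g)⁻¹ = r ^ (2 * n) := by
    calc x * g * t * (x * g)⁻¹ = x * (g * t * g⁻¹) * x⁻¹ := by group
      _ = r ^ (2 * n) := by rw [hg, Subgroup.mem_centralizer_singleton_iff.1 hx, mul_inv_cancel_right]
  have h3 := norm_z h hD hxg
  have h4 : t = r ^ (2 * n) := mul_left_cancel (mul_right_cancel (h2.trans h3.symm))
  exact h4 ▸ hD.z_mem

/-- The classes on `T` when it is not a Sylow subgroup. -/
theorem classes (S : Sylow 2 G) (hTS : T ≤ (S : Subgroup G)) (hne : T ≠ (S : Subgroup G)) :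
    (∀ u ∈ D, u * u = 1 → IsConj t (t * u)) ∧ (∀ u ∈ D, ¬ IsConj t u) ∧
      ∀ g ∈ Subgroup.normalizer (T : Set G),
        (g * t * g⁻¹ = t ∨ g * t * g⁻¹ = t * r ^ (2 * n)) ∧ ∀ u ∈ D, g * u * g⁻¹ ∈ D := by
  haveI : Fact (Nat.Prime 2) := ⟨Nat.prime_two⟩
  have hnz : ¬ IsConj t (r ^ (2 * n)) := by
    intro hc
    set Q := (S : Subgroup G) ⊓ Subgroup.normalizer (T : Set G)
    have hlt : T < Q := SylIn.normalizer_growth hTS hne S.isPGroup'
    have hQ : Q ⊓ Subgroup.centralizer ({r ^ (2 * n)} : Set G) = Q := inf_eq_left.2 fun x hx => by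
      rw [Subgroup.mem_centralizer_singleton_iff]
      conv_rhs => rw [← norm_z h hD hx.2]
      group
    have := h.card_cent_le (Q := Q) S.isPGroup'.to_inf_left hc
    rw [hQ] at this
    exact absurd (Subgroup.eq_of_le_of_card_ge hlt.le this) hlt.ne
  have hnu : ∀ u ∈ D, ¬ IsConj t u := fun u hu hc => by
    obtain ⟨c, -, hc'⟩ := h.conjD u hu (conj_invol h.ord hc) _ hD.z_mem (ord_invol h hD hD.z_sq hD.z_ne)
    exact hnz (hc' ▸ (conj_iff c).2 hc)
  -- central elements of `T` conjugate to `t`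
  have hcen : ∀ w ∈ T, (∀ y ∈ T, y * w = w * y) → IsConj t w → w = t ∨ w = t * r ^ (2 * n) := by
    intro w hw hc hcw
    rcases h.split w hw with hd | hd
    · exact absurd hcw (hnu w hd)
    · have hcd : ∀ y ∈ D, w * t * y = y * (w * t) := fun y hy => by
        rw [mul_assoc, ← h.comm (h.DT hy), ← mul_assoc, ← hc y (h.DT hy), mul_assoc]
      rcases hD.cent_all hd hcd with e | e
      · left
        rw [eq_mul_inv_of_mul_eq e, one_mul, inv_eq_of_mul_eq_one_right h.tt]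
      · right
        rw [eq_mul_inv_of_mul_eq e, inv_eq_of_mul_eq_one_right h.tt, h.comm (h.DT hD.z_mem)]
  obtain ⟨x, -, -, -, hxt, hxT, hxc⟩ := h.exists_move S hTS hne
  have htz : IsConj t (t * r ^ (2 * n)) := by
    rcases hcen _ hxT hxc (isConj_iff.2 ⟨x, rfl⟩) with e | e
    · exact absurd e hxt
    · exact isConj_iff.2 ⟨x, e⟩
  have htu : ∀ u ∈ D, u * u = 1 → IsConj t (t * u) := fun u hu hu2 => by
    by_cases h1 : u = 1
    · rw [h1, mul_one]
    · obtain ⟨c, hcC, hc⟩ := h.conjD u hu (ord_invol h hD hu2 h1) _ hD.z_mem (ord_invol h hD hD.z_sq hD.z_ne)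
      refine (conj_iff c).1 ?_
      have : c * (t * u) * c⁻¹ = t * r ^ (2 * n) := by
        rw [← hc, ← mul_assoc, Subgroup.mem_centralizer_singleton_iff.1 hcC]; group
      rwa [this]
  refine ⟨htu, hnu, fun g hg => ?_⟩
  have hn := Subgroup.mem_normalizer_iff.1 hg
  have hgt : g * t * g⁻¹ = t ∨ g * t * g⁻¹ = t * r ^ (2 * n) := by
    refine hcen _ ((hn t).1 h.tT) (fun y hy => ?_) (isConj_iff.2 ⟨g, rfl⟩)
    have h1 := h.comm ((hn (g⁻¹ * y * g)).2 (by rwa [show g * (g⁻¹ * y * g) * g⁻¹ = y by group]))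
    calc y * (g * t * g⁻¹) = g * (g⁻¹ * y * g * t) * g⁻¹ := by group
      _ = g * (t * (g⁻¹ * y * g)) * g⁻¹ := by rw [h1]
      _ = g * t * g⁻¹ * y := by group
  refine ⟨hgt, fun u hu => ?_⟩
  have hle : D ≤ (D.comap (MulAut.conj g).toMonoidHom) := by
    refine hD.le_of_refl fun e he heR => ?_
    show g * e * g⁻¹ ∈ D
    have he2 := (hD.refl e he heR).1
    have hv : g * (t * e) * g⁻¹ ∈ T := (hn _).1 (mul_mem h.tT (h.DT he))
    have hvc : IsConj t (g * (t * e) * g⁻¹) := (conj_iff g).2 (htu e he he2)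
    have hvt : g * (t * e) * g⁻¹ * t ∈ D := (h.split _ hv).resolve_left fun hd => hnu _ hd hvc
    have e1 : g * e * g⁻¹ = (g * t * g⁻¹) * (g * (t * e) * g⁻¹) := by
      calc g * e * g⁻¹ = g * ((t * t) * e) * g⁻¹ := by rw [h.tt, one_mul]
        _ = _ := by group
    have e2 : g * (t * e) * g⁻¹ = t * (g * (t * e) * g⁻¹ * t) := by
      rw [h.comm hv, ← mul_assoc t t, h.tt, one_mul]
    rcases hgt with e3 | e3 <;> rw [e1, e3, e2]
    · rw [← mul_assoc, h.tt, one_mul]; exact hvt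
    · rw [← h.comm (h.DT hD.z_mem), mul_assoc, ← mul_assoc t t, h.tt, one_mul]
      exact mul_mem hD.z_mem hvt
  exact hle hu

end Cfsg.Agent.Fusion.L2Cent
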