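import Cfsg.Agent.Lib.Fusion.L2Cent.Dihedral

/-!
# The dihedral case: parity and transfer
-/

set_option autoImplicit false
set_option linter.style.haveILetI false
set_option linter.unusedSectionVars false

namespace Cfsg.Agent.Fusion.L2Cent

universe u

theorem z2_one_ne : Multiplicative.ofAdd (1 : ZMod 2) ≠ 1 := by decide

variable {G : Type u} [Group G] [Finite G] {t r : G} {n : ℕ} {T D : Subgroup G}
  (h : Cent t T D) (hD : StrongProd.Dih D r n)
include h hD

theorem card_D : Nat.card D = 2 * (4 * n) := by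
  obtain ⟨e, he, heR⟩ := hD.ex
  have hidx : ((Subgroup.zpowers r).subgroupOf D).index = 2 := by
    refine Subgroup.index_eq_two_iff.2 ⟨⟨e, he⟩, fun b => ?_⟩
    simp only [Subgroup.mem_subgroupOf, Subgroup.coe_mul]
    by_cases hb : (b : G) ∈ Subgroup.zpowers r
    · exact Or.inr ⟨hb, fun hbe => heR ((mul_mem_cancel_left hb).1 hbe)⟩
    · exact Or.inl ⟨hD.mul_refl b.2 hb he heR, hb⟩
  have := Subgroup.index_mul_card ((Subgroup.zpowers r).subgroupOf D)
  rw [hidx, Nat.card_congr (Subgroup.subgroupOfEquivOfLe hD.zpowers_le).toEquiv, Nat.card_zpowers, hD.ord] at this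
  exact this.symm

/-- The elements of `D` squaring to one. -/
theorem card_sq_one : Nat.card {u : G // u ∈ D ∧ u * u = 1} = 2 + 4 * n := by
  obtain ⟨e, he, heR⟩ := hD.ex
  have h1 : {u : G | u ∈ D ∧ u * u = 1} = {1, r ^ (2 * n)} ∪ ((D : Set G) \ (Subgroup.zpowers r : Set G)) := by
    ext u
    simp only [Set.mem_ofPred_eq, Set.mem_union, Set.mem_insert_iff, Set.mem_singleton_iff, Set.mem_diff,
      SetLike.mem_coe]
    constructor
    · rintro ⟨hu, hu2⟩
      rcases hD.invol_cases hu hu2 with e | e | e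
      exacts [Or.inl (Or.inl e), Or.inl (Or.inr e), Or.inr ⟨hu, e⟩]
    · rintro ((rfl | rfl) | ⟨hu, huR⟩)
      exacts [⟨one_mem _, one_mul 1⟩, ⟨hD.z_mem, hD.z_sq⟩, ⟨hu, (hD.refl u hu huR).1⟩]
  show Nat.card ↥{u : G | u ∈ D ∧ u * u = 1} = _
  rw [Nat.card_coe_set_eq, h1, Set.ncard_union_eq ?_ (Set.toFinite _) (Set.toFinite _),
    Set.ncard_pair hD.z_ne.symm, Set.ncard_diff hD.zpowers_le (Set.toFinite _),
    ← Nat.card_coe_set_eq, ← Nat.card_coe_set_eq, SetLike.coe_sort_coe, SetLike.coe_sort_coe, card_D h hD,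
    Nat.card_zpowers, hD.ord]
  · omega
  · rw [Set.disjoint_left]
    rintro x (rfl | rfl) hx
    exacts [hx.2 (one_mem _), hx.2 hD.z_rot]

/-- The conjugates of `t` in `T`. -/
theorem card_class (S : Sylow 2 G) (hTS : T ≤ (S : Subgroup G)) (hne : T ≠ (S : Subgroup G)) :
    Nat.card {y : G // IsConj t y ∧ y ∈ T} = 2 + 4 * n := by
  obtain ⟨htu, hnu, -⟩ := classes h hD S hTS hne
  rw [← card_sq_one h hD]
  symm
  refine Nat.card_eq_of_bijective (fun u => ⟨t * u.1, htu _ u.2.1 u.2.2, mul_mem h.tT (h.DT u.2.1)⟩) ⟨?_, ?_⟩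
  · exact fun a b e => Subtype.ext (mul_left_cancel (congrArg Subtype.val e))
  · rintro ⟨y, hy, hyT⟩
    have hd : y * t ∈ D := (h.split y hyT).resolve_left fun hd => hnu _ hd hy
    have hy2 : y * y = 1 := invol_mul_self (conj_invol h.ord hy)
    refine ⟨⟨y * t, hd, ?_⟩, Subtype.ext ?_⟩
    · calc y * t * (y * t) = y * (t * y) * t := by group
        _ = y * (y * t) * t := by rw [h.comm hyT]
        _ = (y * y) * (t * t) := by group
        _ = 1 := by rw [hy2, h.tt, one_mul]
    · show t * (y * t) = y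
      rw [h.comm hyT, ← mul_assoc, h.tt, one_mul]

/-- A 2-central conjugate configuration outside `T` is contradictory. -/
theorem no_two_full (S : Sylow 2 G) (hTS : T ≤ (S : Subgroup G)) (hne : T ≠ (S : Subgroup G))
    (hidx : T.relIndex (S : Subgroup G) = 2)
    {y y' : G} (hy : y ∈ (S : Subgroup G)) (hyT : y ∉ T) (hyc : IsConj t y) (hy'c : IsConj t y')
    (hfull : Nat.card T ≤ Nat.card ((S : Subgroup G) ⊓ Subgroup.centralizer ({y} : Set G) : Subgroup G))
    (hfull' : Nat.card T ≤ Nat.card ((S : Subgroup G) ⊓ Subgroup.centralizer ({y'} : Set G) : Subgroup G))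
    {w : G} (hw : w ∈ D) (hy' : y' = y * t * w) : False := by
  haveI : Fact (Nat.Prime 2) := ⟨Nat.prime_two⟩
  obtain ⟨htu, hnu, hnorm⟩ := classes h hD S hTS hne
  have hTn : ((S : Subgroup G)) ≤ Subgroup.normalizer (T : Set G) := by
    haveI : (T.subgroupOf (S : Subgroup G)).Normal := Subgroup.normal_of_index_eq_two hidx
    exact Subgroup.normal_subgroupOf_iff_le_normalizer hTS |>.1 inferInstance
  have hy'S : y' ∈ (S : Subgroup G) := hy' ▸ mul_mem (mul_mem hy (hTS h.tT)) (hTS (h.DT hw))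
  have hy'T : y' ∉ T := fun e => hyT (by
    rw [hy'] at e
    exact (mul_mem_cancel_right h.tT).1 ((mul_mem_cancel_right (h.DT hw)).1 e))
  -- exactly one of an involution and its product with the distinguished element is a conjugate
  have rule : ∀ {x v : G}, IsConj t x →
      Nat.card T ≤ Nat.card ((S : Subgroup G) ⊓ Subgroup.centralizer ({x} : Set G) : Subgroup G) →
      v ∈ (S : Subgroup G) → v * x = x * v → v * v = 1 → v ≠ 1 → v ≠ x →
      (IsConj t v ↔ ¬ IsConj t (x * v)) := by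
    intro x v hx hf hv hc hv2 hv1 hvx
    obtain ⟨g, hgx, hgT⟩ := h.carry S.isPGroup' hx hf
    have hw' : g * v * g⁻¹ ∈ T := by
      rw [← hgT]; exact conj_mem_cj ⟨hv, Subgroup.mem_centralizer_singleton_iff.2 hc⟩
    rw [← conj_iff g (x := v), ← conj_iff g (x := x * v),
      show g * (x * v) * g⁻¹ = (g * x * g⁻¹) * (g * v * g⁻¹) by group, hgx]
    have hsq : g * v * g⁻¹ * (g * v * g⁻¹) = 1 := by
      calc g * v * g⁻¹ * (g * v * g⁻¹) = g * (v * v) * g⁻¹ := by group
        _ = 1 := by rw [hv2]; group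
    rcases h.split _ hw' with hd | hd
    · exact iff_of_false (hnu _ hd) (not_not.2 (htu _ hd hsq))
    · refine iff_of_true ?_ ?_
      · have h2 : g * v * g⁻¹ * t * (g * v * g⁻¹ * t) = 1 := by
          generalize hwd : g * v * g⁻¹ = w at hw' hsq
          calc w * t * (w * t) = w * (t * w) * t := by group
            _ = w * (w * t) * t := by rw [h.comm hw']
            _ = (w * w) * (t * t) := by group
            _ = 1 := by rw [hsq, h.tt, one_mul]
        have := htu _ hd h2
        rwa [← mul_assoc, ← h.comm hw', mul_assoc, h.tt, mul_one] at this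
      · rw [← h.comm hw']
        exact hnu _ hd
  -- conjugation on `D` by an element outside `T` with a full centraliser
  have hdich : ∀ {x : G}, IsConj t x → x ∈ (S : Subgroup G) → x ∉ T →
      Nat.card T ≤ Nat.card ((S : Subgroup G) ⊓ Subgroup.centralizer ({x} : Set G) : Subgroup G) →
      x * t * x⁻¹ = t * r ^ (2 * n) ∧
      ∀ d ∈ D, x * d * x⁻¹ = d ∨ (d * t * x = x * (d * t) ∧ x * d * x⁻¹ = d * r ^ (2 * n)) := by
    intro x hxc hx hxT hf
    have hxt : x * t * x⁻¹ = t * r ^ (2 * n) := (hnorm x (hTn hx)).1.resolve_left fun e => hxT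
      (h.mem_T S.isPGroup' hTS hx (by
        calc x * t = x * t * x⁻¹ * x := by group
          _ = t * x := by rw [e]))
    refine ⟨hxt, fun d hd => ?_⟩
    set K := T ⊓ Subgroup.centralizer ({x} : Set G) with hK
    have hKidx : K.relIndex T = 2 := by
      set C := (S : Subgroup G) ⊓ Subgroup.centralizer ({x} : Set G) with hC
      have hKC : K = T ⊓ C := by rw [hK, hC, ← inf_assoc, inf_eq_left.2 hTS]
      have hle : Nat.card T ≤ Nat.card K * 2 := by
        have h1 := Subgroup.index_mul_card ((T ⊓ C).subgroupOf C)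
        rw [Nat.card_congr (Subgroup.subgroupOfEquivOfLe (inf_le_right : T ⊓ C ≤ C)).toEquiv] at h1
        have h2 : (T ⊓ C).relIndex C ≤ 2 := by
          rw [Subgroup.inf_relIndex_right, ← hidx]
          exact Subgroup.relIndex_le_of_le_right inf_le_left
            (by rw [hidx]; norm_num)
        rw [← hKC] at h1 h2
        have h2' : (K.subgroupOf C).index ≤ 2 := h2
        nlinarith [hf, h1]
      have h3 := Subgroup.index_mul_card (K.subgroupOf T)
      rw [Nat.card_congr (Subgroup.subgroupOfEquivOfLe (inf_le_left : K ≤ T)).toEquiv] at h3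
      have htK : t ∉ K := fun e => hxT (h.mem_T S.isPGroup' hTS hx
        (Subgroup.mem_centralizer_singleton_iff.1 e.2).symm)
      have hne1 : K.relIndex T ≠ 1 := fun e => htK (Subgroup.relIndex_eq_one.1 e h.tT)
      have hpos : 0 < K.relIndex T := Nat.pos_of_ne_zero (Subgroup.index_ne_zero_of_finite (H := K.subgroupOf T))
      have hKpos : 0 < Nat.card K := Nat.card_pos
      have h3' : K.relIndex T * Nat.card K = Nat.card T := h3
      by_contra hne2
      have h4 : 3 ≤ K.relIndex T := by omega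
      nlinarith
    by_cases hc : d * x = x * d
    · left; rw [← hc, mul_inv_cancel_right]
    · right
      have h1 : d * t ∈ K := by
        have hiff := Subgroup.mul_mem_iff_of_index_two (show (K.subgroupOf T).index = 2 from hKidx)
          (a := ⟨d, h.DT hd⟩) (b := ⟨t, h.tT⟩)
        refine hiff.2 (iff_of_false (fun e => hc (Subgroup.mem_centralizer_singleton_iff.1 e.2)) fun e => hxT
          (h.mem_T S.isPGroup' hTS hx (Subgroup.mem_centralizer_singleton_iff.1 e.2).symm))
      have hc1 := Subgroup.mem_centralizer_singleton_iff.1 h1.2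
      refine ⟨hc1, ?_⟩
      have e1 : x * (d * t) * x⁻¹ = d * t := by rw [← hc1, mul_inv_cancel_right]
      calc x * d * x⁻¹ = x * (d * t) * x⁻¹ * (x * t * x⁻¹) := by
            calc x * d * x⁻¹ = x * (d * (t * t)) * x⁻¹ := by rw [h.tt, mul_one]
              _ = _ := by group
        _ = d * t * (t * r ^ (2 * n)) := by rw [e1, hxt]
        _ = d * r ^ (2 * n) := by rw [mul_assoc, ← mul_assoc t, h.tt, one_mul]
  obtain ⟨hyt, hyd⟩ := hdich hyc hy hyT hfull
  obtain ⟨hy't, hy'd⟩ := hdich hy'c hy'S hy'T hfull'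
  have hy2 : y * y = 1 := invol_mul_self (conj_invol h.ord hyc)
  have hyi : y⁻¹ = y := inv_eq_of_mul_eq_one_right hy2
  have hy'2 : y' * y' = 1 := invol_mul_self (conj_invol h.ord hy'c)
  have hzS := norm_z h hD (hTn hy)
  have htz : t * r ^ (2 * n) = r ^ (2 * n) * t := (h.comm (h.DT hD.z_mem)).symm
  -- the square of the second involution
  have hsq : y * w * y⁻¹ * w = r ^ (2 * n) := by
    have e : (y * t * y⁻¹) * (y * w * y⁻¹) * t * w = 1 := by
      rw [← hy'2, hy', hyi]
      calc y * t * y * (y * w * y) * t * w = y * t * (y * y) * w * y * t * w := by group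
        _ = y * t * w * (y * t * w) := by rw [hy2]; group
    have hwc : y * w * y⁻¹ ∈ D := (hnorm y (hTn hy)).2 w hw
    rw [hyt, mul_assoc (t * r ^ (2 * n)) (y * w * y⁻¹) t, h.comm (h.DT hwc)] at e
    calc y * w * y⁻¹ * w
        = (t * r ^ (2 * n) * t)⁻¹ * (t * r ^ (2 * n) * (t * (y * w * y⁻¹)) * w) := by group
      _ = r ^ (2 * n) := by
        rw [e, mul_one, htz, mul_assoc, h.tt, mul_one, hD.z_inv]
  rcases hyd w hw with hwc | ⟨hwc, hwz⟩
  swap
  · -- `t w` centralises `y`
    rw [hwz, mul_assoc, ← hD.z_cent hw, ← mul_assoc] at hsq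
    have hw2 : w * w = 1 := by
      have := congrArg (· * (r ^ (2 * n))⁻¹) hsq
      simpa using this
    have hv2 : w * t * (w * t) = 1 := by
      calc w * t * (w * t) = w * (t * w) * t := by group
        _ = w * (w * t) * t := by rw [h.comm (h.DT hw)]
        _ = (w * w) * (t * t) := by group
        _ = 1 := by rw [hw2, h.tt, one_mul]
    have hcv : IsConj t (w * t) := by rw [h.comm (h.DT hw)]; exact htu w hw hw2
    have := (rule hyc hfull (mul_mem (hTS (h.DT hw)) (hTS h.tT)) hwc hv2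
      (fun e => h.tD (by rw [eq_inv_of_mul_eq_one_right e]; exact inv_mem hw))
      (fun e => hyT (e ▸ mul_mem (h.DT hw) h.tT))).1 hcv
    apply this
    rw [h.comm (h.DT hw), ← mul_assoc, ← hy']
    exact hy'c
  rw [hwc] at hsq
  obtain ⟨e, he, heR⟩ := hD.ex
  have he2 := (hD.refl e he heR).1
  have hwR : w ∈ Subgroup.zpowers r := by
    by_contra hwR
    exact hD.z_ne (hsq ▸ (hD.refl w hw hwR).1)
  have hwe : w * e * w⁻¹ = r ^ (2 * n) * e := by
    have h1 := hD.refl_conj he heR hwR
    have h2 : e * w * e⁻¹ * e = w⁻¹ * e := by rw [h1]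
    rw [inv_mul_cancel_right] at h2
    calc w * e * w⁻¹ = w * (e * w⁻¹) := by group
      _ = w * (w * e) := by
        congr 1
        have h3 := hD.refl_conj he heR (inv_mem hwR)
        rw [inv_inv] at h3
        calc e * w⁻¹ = e * w⁻¹ * e⁻¹ * e := by group
          _ = w * e := by rw [h3]
      _ = r ^ (2 * n) * e := by rw [← mul_assoc, hsq]
  have hyz : y * r ^ (2 * n) * y⁻¹ = r ^ (2 * n) := hzS
  -- the second involution on a reflection
  have hy'e : y' * e * y'⁻¹ = y * e * y⁻¹ * r ^ (2 * n) := by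
    rw [hy']
    calc y * t * w * e * (y * t * w)⁻¹ = y * (t * (w * e * w⁻¹) * t⁻¹) * y⁻¹ := by group
      _ = y * (r ^ (2 * n) * e) * y⁻¹ := by
        rw [hwe, ← h.comm (h.DT (mul_mem hD.z_mem he)), mul_inv_cancel_right]
      _ = (y * r ^ (2 * n) * y⁻¹) * (y * e * y⁻¹) := by group
      _ = y * e * y⁻¹ * r ^ (2 * n) := by rw [hyz, ← hD.z_cent ((hnorm y (hTn hy)).2 e he)]
  have hw0 : w ∉ ({1} : Set G) := fun e1 => hD.z_ne (by rw [← hsq, Set.mem_singleton_iff.1 e1, one_mul])
  have hte : IsConj t (t * e) := htu e he he2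
  have hte2 : t * e * (t * e) = 1 := by
    calc t * e * (t * e) = t * (e * t) * e := by group
      _ = t * (t * e) * e := by rw [h.comm (h.DT he)]
      _ = (t * t) * (e * e) := by group
      _ = 1 := by rw [h.tt, he2, one_mul]
  have hte1 : t * e ≠ 1 := fun e1 => h.tD (by rw [eq_inv_of_mul_eq_one_left e1]; exact inv_mem he)
  have hteS : t * e ∈ (S : Subgroup G) := mul_mem (hTS h.tT) (hTS (h.DT he))
  have hweR : ∀ v ∈ Subgroup.zpowers r, v * e ∉ Subgroup.zpowers r := fun v hv e1 =>
    heR ((mul_mem_cancel_left hv).1 e1)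
  rcases hyd e he with hec | ⟨hec, hez⟩
  · -- `y` centralises the reflection
    rw [hec] at hy'e
    have hc' : t * e * y' = y' * (t * e) := by
      rcases hy'd e he with e1 | ⟨e1, -⟩
      · exfalso
        exact hD.z_ne (mul_left_cancel (a := e) (by rw [← hy'e, e1, mul_one]))
      · rwa [h.comm (h.DT he)] at e1
    have h1 := (rule hy'c hfull' hteS hc' hte2 hte1
      (fun e1 => hy'T (e1 ▸ mul_mem h.tT (h.DT he)))).1 hte
    have hweD : w * e ∈ D := mul_mem hw he
    have hcy : w * e * y = y * (w * e) := by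
      have : y * (w * e) * y⁻¹ = w * e := by
        calc y * (w * e) * y⁻¹ = (y * w * y⁻¹) * (y * e * y⁻¹) := by group
          _ = w * e := by rw [hwc, hec]
      conv_lhs => rw [← this]
      group
    have hwe2 := (hD.refl _ hweD (hweR w hwR)).1
    have h2 := rule hyc hfull (hTS (h.DT hweD)) hcy hwe2 (fun e1 => hweR w hwR (e1 ▸ one_mem _))
      (fun e1 => hyT (e1 ▸ h.DT hweD))
    refine hnu _ hweD (h2.2 fun h3 => h1 ?_)
    rwa [hy', show y * t * w * (t * e) = y * (t * w * t * e) by group, ← h.comm (h.DT hw), mul_assoc w t,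
      h.tt, mul_one]
  · -- `y'` centralises the reflection
    have hc' : y' * e * y'⁻¹ = e := by rw [hy'e, hez, mul_assoc, hD.z_sq, mul_one]
    have hc2 : t * e * y = y * (t * e) := by rwa [h.comm (h.DT he)] at hec
    have h1 := (rule hyc hfull hteS hc2 hte2 hte1 (fun e1 => hyT (e1 ▸ mul_mem h.tT (h.DT he)))).1 hte
    have hweD : w⁻¹ * e ∈ D := mul_mem (inv_mem hw) he
    have hwy' : y' * w * y'⁻¹ = w := by
      rw [hy', show y * t * w * w * (y * t * w)⁻¹ = y * (t * w * t⁻¹) * y⁻¹ by group,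
        ← h.comm (h.DT hw), mul_inv_cancel_right, hwc]
    have hcy : w⁻¹ * e * y' = y' * (w⁻¹ * e) := by
      have : y' * (w⁻¹ * e) * y'⁻¹ = w⁻¹ * e := by
        calc y' * (w⁻¹ * e) * y'⁻¹ = (y' * w * y'⁻¹)⁻¹ * (y' * e * y'⁻¹) := by group
          _ = w⁻¹ * e := by rw [hwy', hc']
      conv_lhs => rw [← this]
      group
    have hr' := hweR _ (inv_mem hwR)
    have h2 := rule hy'c hfull' (hTS (h.DT hweD)) hcy (hD.refl _ hweD hr').1
      (fun e1 => hr' (e1 ▸ one_mem _)) (fun e1 => hy'T (e1 ▸ h.DT hweD))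
    refine hnu _ hweD (h2.2 fun h3 => h1 ?_)
    rwa [hy', show y * t * w * (w⁻¹ * e) = y * (t * e) by group] at h3

/-- Among the conjugates of `t` in a normalised coset, not a multiple of four in number, one has a full
centraliser. -/
theorem exists_full (S : Sylow 2 G) (hTS : T ≤ (S : Subgroup G))
    (hidx : T.relIndex (S : Subgroup G) = 2) (P : G → Prop) (hPS : ∀ y, P y → y ∈ (S : Subgroup G))
    (hPc : ∀ y, P y → IsConj t y) (hPT : ∀ y, P y → ∀ s ∈ (S : Subgroup G), P (s * y * s⁻¹))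
    (hcard : Nat.card {y : G // P y} % 4 = 2) :
    ∃ y, P y ∧ Nat.card T ≤ Nat.card ((S : Subgroup G) ⊓ Subgroup.centralizer ({y} : Set G) : Subgroup G) := by
  classical
  haveI : Fact (Nat.Prime 2) := ⟨Nat.prime_two⟩
  by_contra! hno
  letI : MulAction ↥(S : Subgroup G) {y : G // P y} :=
    { smul := fun s y => ⟨s.1 * y.1 * s.1⁻¹, hPT _ y.2 _ s.2⟩
      one_smul := fun y => Subtype.ext (by show (1 : G) * y.1 * 1⁻¹ = y.1; group)
      mul_smul := fun a b y => Subtype.ext (by
        show (a.1 * b.1) * y.1 * (a.1 * b.1)⁻¹ = a.1 * (b.1 * y.1 * b.1⁻¹) * a.1⁻¹; group) }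
  haveI : Finite (Quotient (MulAction.orbitRel ↥(S : Subgroup G) {y : G // P y})) := Quotient.finite _
  letI := Fintype.ofFinite (Quotient (MulAction.orbitRel ↥(S : Subgroup G) {y : G // P y}))
  have hS2 : Nat.card (S : Subgroup G) = 2 * Nat.card T := by
    have := Subgroup.index_mul_card (T.subgroupOf (S : Subgroup G))
    rw [show (T.subgroupOf (S : Subgroup G)).index = 2 from hidx,
      Nat.card_congr (Subgroup.subgroupOfEquivOfLe hTS).toEquiv] at this
    exact this.symm
  have h4 : ∀ a : {y : G // P y}, 4 ∣ Nat.card (MulAction.orbit ↥(S : Subgroup G) a) := by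
    intro a
    have hst : MulAction.stabilizer ↥(S : Subgroup G) a =
        (Subgroup.centralizer ({a.1} : Set G)).subgroupOf (S : Subgroup G) := by
      ext s
      rw [MulAction.mem_stabilizer_iff, Subgroup.mem_subgroupOf, Subgroup.mem_centralizer_singleton_iff]
      constructor
      · intro e
        have : s.1 * a.1 * s.1⁻¹ = a.1 := congrArg Subtype.val e
        calc s.1 * a.1 = s.1 * a.1 * s.1⁻¹ * s.1 := by group
          _ = a.1 * s.1 := by rw [this]
      · intro e
        refine Subtype.ext ?_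
        show s.1 * a.1 * s.1⁻¹ = a.1
        rw [e, mul_inv_cancel_right]
    have hlt : Nat.card (MulAction.stabilizer ↥(S : Subgroup G) a) < Nat.card T := by
      refine lt_of_eq_of_lt ?_ (hno a.1 a.2)
      rw [hst, ← Subgroup.inf_subgroupOf_left,
        Nat.card_congr (Subgroup.subgroupOfEquivOfLe inf_le_left).toEquiv]
    obtain ⟨i, hi⟩ := IsPGroup.iff_card.1 (S.isPGroup'.to_subgroup (MulAction.stabilizer ↥(S : Subgroup G) a))
    obtain ⟨j, hj⟩ := IsPGroup.iff_card.1 (S.isPGroup'.to_le hTS)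
    have hij : i < j := (Nat.pow_lt_pow_iff_right (by norm_num : 1 < 2)).1 (hi ▸ hj ▸ hlt)
    have ho := Subgroup.card_mul_index (MulAction.stabilizer ↥(S : Subgroup G) a)
    rw [hS2, hi, hj, MulAction.index_stabilizer] at ho
    obtain ⟨d, rfl⟩ : ∃ d, j = i + 1 + d := ⟨j - i - 1, by omega⟩
    refine ⟨2 ^ d, ?_⟩
    rw [Nat.card_coe_set_eq]
    refine Nat.eq_of_mul_eq_mul_left (show 0 < 2 ^ i by positivity) ?_
    rw [ho, pow_add, pow_add]; ring
  have h5 : 4 ∣ Nat.card (Σ ω : Quotient (MulAction.orbitRel ↥(S : Subgroup G) {y : G // P y}),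
      MulAction.orbit ↥(S : Subgroup G) ω.out) := by
    rw [Nat.card_sigma]; exact Finset.dvd_sum fun ω _ => h4 ω.out
  rw [← Nat.card_congr (MulAction.selfEquivSigmaOrbits ↥(S : Subgroup G) {y : G // P y})] at h5
  omega

/-- The dihedral case is impossible. -/
theorem dihedral_false [IsSimpleGroup G] (hna : ¬ IsMulCommutative G) : False := by
  classical
  haveI : Fact (Nat.Prime 2) := ⟨Nat.prime_two⟩
  obtain ⟨S, hTS⟩ := h.syl.isPGroup.exists_le_sylow
  by_cases hne : T = (S : Subgroup G)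
  · exact not_sylow h hD hna S hne
  obtain ⟨htu, hnu, hnorm⟩ := classes h hD S hTS hne
  obtain ⟨o, ho, hCo⟩ := h.card_C
  have hn0 := card_class h hD S hTS hne
  have hTpos : 0 < Nat.card T := Nat.card_pos
  -- the order of the Sylow subgroup
  obtain ⟨i, hi⟩ : ∃ i, T.relIndex (S : Subgroup G) = 2 ^ (i + 1) := by
    obtain ⟨k, hk⟩ := IsPGroup.iff_card.1 S.isPGroup'
    obtain ⟨j, -, hj⟩ := (Nat.dvd_prime_pow Nat.prime_two).1 (hk ▸ Subgroup.relIndex_dvd_card T (S : Subgroup G))
    rcases j with _ | j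
    · exact absurd (le_antisymm hTS (Subgroup.relIndex_eq_one.1 (by rw [hj, pow_zero]))) hne
    · exact ⟨j, hj⟩
  rcases Nat.eq_zero_or_pos i with hi0 | hi0
  swap
  · -- an odd permutation
    refine no_odd_perm hna h.tt T ?_ ?_
    · rw [← Subgroup.relIndex_mul_index hTS, hi]
      exact Dvd.dvd.mul_right (pow_dvd_pow 2 (show 2 ≤ i + 1 by omega)) _
    · have h1 := fix_count t T
      rw [hn0, hCo, mul_assoc] at h1
      rw [← Nat.eq_of_mul_eq_mul_left hTpos h1]
      obtain ⟨c, rfl⟩ := ho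
      have : (2 * c + 1) * (2 + 4 * n) = 4 * (c + 2 * c * n + n) + 2 := by ring
      omega
  subst hi0
  rw [zero_add, pow_one] at hi
  have hTn : (S : Subgroup G) ≤ Subgroup.normalizer (T : Set G) := by
    haveI : (T.subgroupOf (S : Subgroup G)).Normal := Subgroup.normal_of_index_eq_two hi
    exact Subgroup.normal_subgroupOf_iff_le_normalizer hTS |>.1 inferInstance
  have hDS : D ≤ (S : Subgroup G) := h.DT.trans hTS
  haveI hDn : (D.subgroupOf (S : Subgroup G)).Normal := ⟨fun x hx s => (hnorm s (hTn s.2)).2 x hx⟩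
  have hS2 : Nat.card (S : Subgroup G) = 2 * Nat.card T := by
    have := Subgroup.index_mul_card (T.subgroupOf (S : Subgroup G))
    rw [show (T.subgroupOf (S : Subgroup G)).index = 2 from hi,
      Nat.card_congr (Subgroup.subgroupOfEquivOfLe hTS).toEquiv] at this
    exact this.symm
  have hq4 : Nat.card (↥(S : Subgroup G) ⧸ D.subgroupOf (S : Subgroup G)) = 2 ^ 2 := by
    have := Subgroup.card_eq_card_quotient_mul_card_subgroup (D.subgroupOf (S : Subgroup G))
    rw [hS2, Nat.card_congr (Subgroup.subgroupOfEquivOfLe hDS).toEquiv, h.card_T] at this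
    exact (Nat.eq_of_mul_eq_mul_right Nat.card_pos (by rw [← this]; ring)).symm
  letI : CommGroup (↥(S : Subgroup G) ⧸ D.subgroupOf (S : Subgroup G)) :=
    { (inferInstance : Group (↥(S : Subgroup G) ⧸ D.subgroupOf (S : Subgroup G))) with
      mul_comm := (IsPGroup.commGroupOfCardEqPrimeSq hq4).mul_comm }
  set ψ := QuotientGroup.mk' (D.subgroupOf (S : Subgroup G))
  have hψ : ∀ {x : G} (hx : x ∈ (S : Subgroup G)), ψ ⟨x, hx⟩ = 1 ↔ x ∈ D := fun hx => by
    rw [QuotientGroup.mk'_apply, QuotientGroup.eq_one_iff, Subgroup.mem_subgroupOf]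
  set a := ψ ⟨t, hTS h.tT⟩ with ha
  have ha1 : a ≠ 1 := fun e => h.tD ((hψ _).1 e)
  have ha2 : a * a = 1 := by
    rw [ha, ← map_mul, ← map_one ψ]; exact congrArg ψ (Subtype.ext h.tt)
  by_cases hout : ∀ y ∈ (S : Subgroup G), IsConj t y → y ∈ T
  · -- all conjugates in `S` lie in the coset of `t`
    refine no_const_transfer hna S ψ h.ord a ha1 ha2 (fun y hy hyc => ?_) ?_
    · have hyT := hout y hy hyc
      have hd := (h.split y hyT).resolve_left fun hd => hnu _ hd hyc
      calc ψ ⟨y, hy⟩ = ψ (⟨y * t, hDS hd⟩ * ⟨t, hTS h.tT⟩) :=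
            congrArg ψ (Subtype.ext (by show y = y * t * t; rw [mul_assoc, h.tt, mul_one]))
        _ = a := by rw [map_mul, (hψ _).2 hd, one_mul]
    · have h1 := fix_count t (S : Subgroup G)
      have hc : Nat.card {y : G // IsConj t y ∧ y ∈ (S : Subgroup G)} = Nat.card {y : G // IsConj t y ∧ y ∈ T} :=
        Nat.card_congr (Equiv.subtypeEquivRight fun y => ⟨fun e => ⟨e.1, hout y e.2 e.1⟩, fun e => ⟨e.1, hTS e.2⟩⟩)
      rw [hc, hn0, hCo, hS2] at h1
      have h2 : o * (2 + 4 * n) = 2 * Nat.card {q : G ⧸ (S : Subgroup G) // t • q = q} :=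
        Nat.eq_of_mul_eq_mul_left hTpos (by rw [← mul_assoc, h1]; ring)
      obtain ⟨c, rfl⟩ := ho
      refine ⟨c + 2 * c * n + n, ?_⟩
      nlinarith
  push Not at hout
  obtain ⟨y₀, hy₀, hy₀c, hy₀T⟩ := hout
  set b := ψ ⟨y₀, hy₀⟩ with hb
  have hb2 : b * b = 1 := by
    rw [hb, ← map_mul, ← map_one ψ]
    exact congrArg ψ (Subtype.ext (invol_mul_self (conj_invol h.ord hy₀c)))
  have hb1 : b ≠ 1 := fun e => hy₀T (h.DT ((hψ _).1 e))
  have hTψ : ∀ {x : G} (hx : x ∈ (S : Subgroup G)), x ∈ T ↔ (ψ ⟨x, hx⟩ = 1 ∨ ψ ⟨x, hx⟩ = a) := by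
    intro x hx
    constructor
    · intro hxT
      rcases h.split x hxT with hd | hd
      · exact Or.inl ((hψ hx).2 hd)
      · refine Or.inr ?_
        calc ψ ⟨x, hx⟩ = ψ (⟨x * t, hDS hd⟩ * ⟨t, hTS h.tT⟩) :=
              congrArg ψ (Subtype.ext (by show x = x * t * t; rw [mul_assoc, h.tt, mul_one]))
          _ = a := by rw [map_mul, (hψ _).2 hd, one_mul]
    · rintro (e | e)
      · exact h.DT ((hψ hx).1 e)
      · have e' : ψ (⟨x, hx⟩ * ⟨t, hTS h.tT⟩) = 1 := by rw [map_mul, e, ha2]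
        have := h.DT ((hψ (mul_mem hx (hTS h.tT))).1 e')
        exact (mul_mem_cancel_right h.tT).1 this
  have hba : b ≠ a := fun e => hy₀T ((hTψ hy₀).2 (Or.inr e))
  -- the four cosets
  have hall : ∀ x : ↥(S : Subgroup G), ψ x = 1 ∨ ψ x = a ∨ ψ x = b ∨ ψ x = b * a := by
    intro x
    by_cases hxT : (x : G) ∈ T
    · rcases (hTψ x.2).1 hxT with e | e
      exacts [Or.inl e, Or.inr (Or.inl e)]
    · have := Subgroup.mul_mem_iff_of_index_two (show (T.subgroupOf (S : Subgroup G)).index = 2 from hi)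
        (a := x) (b := ⟨y₀, hy₀⟩)
      have hmem : (x : G) * y₀ ∈ T := this.2 (iff_of_false hxT hy₀T)
      rcases (hTψ (mul_mem x.2 hy₀)).1 hmem with e | e
      · right; right; left
        have e' : ψ x * b = 1 := by rw [hb, ← map_mul]; exact e
        calc ψ x = ψ x * (b * b) := by rw [hb2, mul_one]
          _ = b := by rw [← mul_assoc, e', one_mul]
      · right; right; right
        have e' : ψ x * b = a := by rw [hb, ← map_mul]; exact e
        calc ψ x = ψ x * (b * b) := by rw [hb2, mul_one]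
          _ = b * a := by rw [← mul_assoc, e', mul_comm]
  -- characters separating
  have hparity : ∀ c : ↥(S : Subgroup G) ⧸ D.subgroupOf (S : Subgroup G), c ≠ 1 → c ≠ a → c * c = 1 →
      Nat.card {y : G // IsConj t y ∧ ∃ hy : y ∈ (S : Subgroup G), ψ ⟨y, hy⟩ = c} % 4 = 2 := by
    intro c hc1 hca hc2
    set χ : ↥(S : Subgroup G) →* Multiplicative (ZMod 2) :=
      { toFun := fun x => if ψ x = 1 ∨ ψ x = c * a then 1 else Multiplicative.ofAdd 1
        map_one' := if_pos (Or.inl (map_one ψ))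
        map_mul' := by
          have hK : ∀ x z : ↥(S : Subgroup G),
              (ψ (x * z) = 1 ∨ ψ (x * z) = c * a) ↔
                ((ψ x = 1 ∨ ψ x = c * a) ↔ (ψ z = 1 ∨ ψ z = c * a)) := by
            set M : Subgroup ↥(S : Subgroup G) := (Subgroup.zpowers (c * a)).comap ψ
            have hca2 : c * a * (c * a) = 1 := by rw [mul_mul_mul_comm, hc2, ha2, one_mul]
            have hcard : Nat.card (Subgroup.zpowers (c * a)) = 2 := by
              rw [Nat.card_zpowers]
              refine orderOf_eq_prime (by rw [sq, hca2]) fun e => hca ?_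
              calc c = c * (a * a) := by rw [ha2, mul_one]
                _ = a := by rw [← mul_assoc, e, one_mul]
            have hM : ∀ x, x ∈ M ↔ (ψ x = 1 ∨ ψ x = c * a) := fun x => by
              show ψ x ∈ Subgroup.zpowers (c * a) ↔ _
              constructor
              · rintro ⟨k, hk⟩
                rw [← hk]
                show (c * a) ^ k = 1 ∨ (c * a) ^ k = c * a
                rcases Int.even_or_odd k with ⟨l, rfl⟩ | ⟨l, rfl⟩
                · left; rw [← two_mul, zpow_mul, zpow_two, hca2, one_zpow]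
                · right; rw [zpow_add, zpow_mul, zpow_two, hca2, one_zpow, one_mul, zpow_one]
              · rintro (e | e) <;> rw [e]
                exacts [one_mem _, Subgroup.mem_zpowers _]
            have hMi : M.index = 2 := by
              rw [Subgroup.index_comap_of_surjective _ (QuotientGroup.mk'_surjective _)]
              have := Subgroup.card_mul_index (Subgroup.zpowers (c * a))
              rw [hcard, hq4] at this
              omega
            intro x z
            rw [← hM, ← hM, ← hM]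
            exact Subgroup.mul_mem_iff_of_index_two hMi
          intro x z
          by_cases hx : ψ x = 1 ∨ ψ x = c * a <;> by_cases hz : ψ z = 1 ∨ ψ z = c * a
          · rw [if_pos hx, if_pos hz, if_pos ((hK x z).2 (iff_of_true hx hz)), one_mul]
          · rw [if_pos hx, if_neg hz, if_neg (fun e => hz (((hK x z).1 e).1 hx)), one_mul]
          · rw [if_neg hx, if_pos hz, if_neg (fun e => hx (((hK x z).1 e).2 hz)), mul_one]
          · rw [if_neg hx, if_neg hz, if_pos ((hK x z).2 (iff_of_false hx hz)), z2_mul] }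
    have hχ : ∀ x, χ x ≠ 1 ↔ (ψ x = a ∨ ψ x = c) := by
      intro x
      simp only [χ, MonoidHom.coe_mk, OneHom.coe_mk]
      have hcc : c * a ≠ a := fun e => hc1 (mul_eq_right.1 e)
      have hcc' : c * a ≠ c := fun e => ha1 (mul_eq_left.1 e)
      split_ifs with hx
      · refine iff_of_false (fun e => e rfl) ?_
        rintro (e | e) <;> rcases hx with e' | e'
        exacts [ha1 (e.symm.trans e'), hcc (e'.symm.trans e), hc1 (e.symm.trans e'), hcc' (e'.symm.trans e)]
      · refine iff_of_true z2_one_ne ?_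
        push Not at hx
        rcases hall x with e | e | e | e
        · exact absurd e hx.1
        · exact Or.inl e
        all_goals
          obtain ⟨⟨v, hv⟩, hvc⟩ := QuotientGroup.mk'_surjective (D.subgroupOf (S : Subgroup G)) c
          rcases hall ⟨v, hv⟩ with e' | e' | e' | e' <;> rw [show ψ ⟨v, hv⟩ = c from hvc] at e'
          · exact absurd e' hc1
          · exact absurd e' hca
          all_goals first
            | exact Or.inr (e.trans e'.symm)
            | exact absurd (by rw [e, e', mul_assoc, ha2, mul_one]) hx.2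
            | exact absurd (by rw [e, e']) hx.2
    have hperf : commutator G = ⊤ := by
      rcases (inferInstance : (commutator G).Normal).eq_bot_or_eq_top with e | e
      · refine absurd ⟨⟨fun x y => ?_⟩⟩ hna
        exact commutatorElement_eq_one_iff_mul_comm.1 (Subgroup.mem_bot.1
          (e ▸ Subgroup.commutator_mem_commutator (Subgroup.mem_top x) (Subgroup.mem_top y)))
      · exact e
    have hcount := FixedPointParity.count S χ t
    obtain ⟨f, hf⟩ := FixedPointParity.even_count hperf S χ h.ord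
    rw [hf, hCo, hS2] at hcount
    have hN : Nat.card {y : ↥(S : Subgroup G) // IsConj t (y : G) ∧ χ y ≠ 1} =
        Nat.card {y : G // IsConj t y ∧ y ∈ T} +
          Nat.card {y : G // IsConj t y ∧ ∃ hy : y ∈ (S : Subgroup G), ψ ⟨y, hy⟩ = c} := by
      rw [← Nat.card_sum]
      symm
      refine Nat.card_eq_of_bijective (Sum.elim
        (fun y => ⟨⟨y.1, hTS y.2.2⟩, y.2.1, (hχ _).2 (Or.inl ?_)⟩)
        (fun y => ⟨⟨y.1, y.2.2.1⟩, y.2.1, (hχ _).2 (Or.inr y.2.2.2)⟩)) ⟨?_, ?_⟩
      · rcases (hTψ (hTS y.2.2)).1 y.2.2 with e | e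
        · exact absurd y.2.1 (hnu _ ((hψ _).1 e))
        · exact e
      · intro u v e
        have e' := congrArg (fun z : {y : ↥(S : Subgroup G) // IsConj t (y : G) ∧ χ y ≠ 1} => ((z.1 : ↥(S : Subgroup G)) : G)) e
        rcases u with u | u <;> rcases v with v | v <;> simp only [Sum.elim_inl, Sum.elim_inr] at e'
        · exact congrArg Sum.inl (Subtype.ext e')
        · exfalso
          have := v.2.2.2
          have hvT : v.1 ∈ T := e' ▸ u.2.2
          rcases (hTψ v.2.2.1).1 hvT with e1 | e1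
          exacts [hc1 (this.symm.trans e1), hca (this.symm.trans e1)]
        · exfalso
          have := u.2.2.2
          have hvT : u.1 ∈ T := e'.symm ▸ v.2.2
          rcases (hTψ u.2.2.1).1 hvT with e1 | e1
          exacts [hc1 (this.symm.trans e1), hca (this.symm.trans e1)]
        · exact congrArg Sum.inr (Subtype.ext e')
      · rintro ⟨⟨x, hx⟩, hxc, hxχ⟩
        rcases (hχ _).1 hxχ with e | e
        · exact ⟨Sum.inl ⟨x, hxc, (hTψ hx).2 (Or.inr e)⟩, rfl⟩
        · exact ⟨Sum.inr ⟨x, hxc, hx, e⟩, rfl⟩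
    rw [hN, hn0] at hcount
    obtain ⟨e, rfl⟩ := ho
    set N := Nat.card {y : G // IsConj t y ∧ ∃ hy : y ∈ (S : Subgroup G), ψ ⟨y, hy⟩ = c}
    have h2 : (2 * e + 1) * (2 + 4 * n + N) = 4 * f :=
      Nat.eq_of_mul_eq_mul_left hTpos (by rw [← mul_assoc, hcount]; ring)
    have h3 : 4 ∣ (2 + 4 * n + N) := (Nat.Coprime.dvd_of_dvd_mul_left
      (Nat.Coprime.pow_left 2 (Nat.coprime_two_left.2 ⟨e, rfl⟩)) ⟨f, h2⟩ : 2 ^ 2 ∣ 2 + 4 * n + N)
    omega
  have hmove : ∀ c : ↥(S : Subgroup G) ⧸ D.subgroupOf (S : Subgroup G), ∀ y,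
      (IsConj t y ∧ ∃ hy : y ∈ (S : Subgroup G), ψ ⟨y, hy⟩ = c) → ∀ s ∈ (S : Subgroup G),
      (IsConj t (s * y * s⁻¹) ∧ ∃ hy : s * y * s⁻¹ ∈ (S : Subgroup G), ψ ⟨_, hy⟩ = c) := by
    rintro c y ⟨hyc, hy, e⟩ s hs
    refine ⟨(conj_iff s).2 hyc, mul_mem (mul_mem hs hy) (inv_mem hs), ?_⟩
    rw [show (⟨s * y * s⁻¹, _⟩ : ↥(S : Subgroup G)) = ⟨s, hs⟩ * ⟨y, hy⟩ * ⟨s, hs⟩⁻¹ from rfl, map_mul,
      map_mul, map_inv, mul_comm (ψ _), mul_inv_cancel_right, e]
  obtain ⟨y, ⟨hyc, hy, hye⟩, hyf⟩ := exists_full h hD S hTS hi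
    (fun y => IsConj t y ∧ ∃ hy : y ∈ (S : Subgroup G), ψ ⟨y, hy⟩ = b)
    (fun y hy => hy.2.1) (fun y hy => hy.1) (hmove b) (hparity b hb1 hba hb2)
  obtain ⟨y', ⟨hy'c, hy', hy'e⟩, hy'f⟩ := exists_full h hD S hTS hi
    (fun y => IsConj t y ∧ ∃ hy : y ∈ (S : Subgroup G), ψ ⟨y, hy⟩ = b * a)
    (fun y hy => hy.2.1) (fun y hy => hy.1) (hmove (b * a))
    (hparity (b * a) (fun e => hba (by
      calc b = b * (a * a) := by rw [ha2, mul_one]
        _ = a := by rw [← mul_assoc, e, one_mul]))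
      (fun e => hb1 (mul_eq_right.1 e)) (by rw [mul_mul_mul_comm, hb2, ha2, one_mul]))
  have hyT : y ∉ T := fun e => by
    rcases (hTψ hy).1 e with e1 | e1
    exacts [hb1 (hye.symm.trans e1), hba (hye.symm.trans e1)]
  refine no_two_full h hD S hTS hne hi hy hyT hyc hy'c hyf hy'f (w := t⁻¹ * y⁻¹ * y') ?_ (by group)
  refine (hψ (mul_mem (mul_mem (inv_mem (hTS h.tT)) (inv_mem hy)) hy')).1 ?_
  rw [show (⟨t⁻¹ * y⁻¹ * y', _⟩ : ↥(S : Subgroup G)) = ⟨t, hTS h.tT⟩⁻¹ * ⟨y, hy⟩⁻¹ * ⟨y', hy'⟩ from rfl,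
    map_mul, map_mul, map_inv, map_inv, hye, hy'e, ← ha, mul_assoc, ← mul_assoc b⁻¹, inv_mul_cancel,
    one_mul, inv_mul_cancel]

end Cfsg.Agent.Fusion.L2Cent
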