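import Cfsg.Agent.Lib.Fusion.L2Cent.Frame

/-!
# Towers over a group of order eight without translations: involutions and counting
-/

set_option autoImplicit false
set_option linter.style.haveILetI false
set_option linter.unusedSectionVars false

namespace Cfsg.Agent.Fusion.L2Cent

universe u

variable {G : Type u} [Group G]

theorem zmod2_sum_ne : ∀ a b : ZMod 2, a * b = 0 → (a = 0 ∧ b = 0) ∨ (a = 1 ∧ b = 0) ∨ (a = 0 ∧ b = 1) := by
  decide

theorem IsChar.smul {R : Subgroup G} {χ : G → ZMod 2} (h : IsChar R χ) (a : ZMod 2) :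
    IsChar R fun x => a * χ x := fun x hx y hy => by
  show a * χ (x * y) = a * χ x + a * χ y
  rw [h x hx y hy, mul_add]

/-- The involutions with coordinates `(1, 0)`. -/
def kindA (R : Subgroup G) (i j : G → ZMod 2) : Set G := {r | r ∈ R ∧ r * r = 1 ∧ i r = 1 ∧ j r = 0}

variable [Finite G] {t σ : G} {T D P W R : Subgroup G} {n m : ℕ} {i j χ : G → ZMod 2}

/-- An element of a two-group centralising a conjugate of `t` is an involution or trivial. -/
theorem ECent.cent_sq (h : ECent t T D n σ) {Q : Subgroup G} (hQ : IsPGroup 2 Q) {y z : G} (hy : IsConj t y)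
    (hz : z ∈ Q) (hc : z * y = y * z) : z * z = 1 := by
  haveI : Fact (Nat.Prime 2) := ⟨Nat.prime_two⟩
  obtain ⟨g, hg⟩ := isConj_iff.1 hy
  have hzp : IsPGroup 2 (Subgroup.zpowers (g⁻¹ * z * g)) :=
    (isPGroup_cj hQ g⁻¹).to_le (Subgroup.zpowers_le.2 (by simpa using conj_mem_cj (g := g⁻¹) hz))
  obtain ⟨c, -, hcT⟩ := h.syl.conj_le hzp (Subgroup.zpowers_le.2 (by
    rw [Subgroup.mem_centralizer_singleton_iff]
    rw [← hg] at hc
    calc g⁻¹ * z * g * t = g⁻¹ * (z * (g * t * g⁻¹)) * g := by group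
      _ = g⁻¹ * ((g * t * g⁻¹) * z) * g := by rw [hc]
      _ = t * (g⁻¹ * z * g) := by group))
  have h2 := h.sq_T (hcT (conj_mem_cj (Subgroup.mem_zpowers _)))
  rw [show c * (g⁻¹ * z * g) * c⁻¹ * (c * (g⁻¹ * z * g) * c⁻¹) = c * g⁻¹ * (z * z) * (c * g⁻¹)⁻¹ by group] at h2
  exact conj_eq_one_iff.1 h2

/-- An involution fixes as many cosets as there are, modulo two. -/
theorem fix_parity {x : G} (hx : orderOf x = 2) (X : Subgroup G) :
    Nat.card {q : G ⧸ X // x • q = q} % 2 = X.index % 2 := by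
  haveI : Fact (Nat.Prime 2) := ⟨Nat.prime_two⟩
  have hp : IsPGroup 2 (Subgroup.zpowers x) := IsPGroup.of_card (n := 1) (by rw [Nat.card_zpowers, hx, pow_one])
  have h1 := hp.card_modEq_card_fixedPoints (G ⧸ X)
  rw [Subgroup.index_eq_card]
  refine (h1.trans (congrArg (· % 2) (Nat.card_congr (Equiv.subtypeEquivRight fun q => ?_)))).symm
  constructor
  · exact fun hq => hq ⟨x, Subgroup.mem_zpowers x⟩
  · rintro hq ⟨y, hy⟩
    show y • q = q
    exact MulAction.mem_stabilizer_iff.1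
      (Subgroup.zpowers_le.2 (MulAction.mem_stabilizer_iff.2 hq : x ∈ MulAction.stabilizer G q) hy)

namespace Frame

section general

variable (h : ECent t T D n σ) (hf : Fused t T D) (hw : Tow t σ D m P W) (f : Frame t P W R i j χ)
include h hf hw f

theorem t_mem : t ∈ R := f.PR hw.tP

theorem normR {r : G} (hr : r ∈ R) : r ∈ Subgroup.normalizer (P : Set G) := f.syl.le hr

theorem conjP {r p : G} (hr : r ∈ R) (hp : p ∈ P) : r * p * r⁻¹ ∈ P :=
  (Subgroup.mem_normalizer_iff.1 (normR h hf hw f hr) p).1 hp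

theorem χ_tW {w : G} (hwW : w ∈ W) : χ (t * w) = 1 := by
  rw [f.hχ t (t_mem h hf hw f) w (f.PR (hw.le hwW)), f.χt, f.χW w hwW, add_zero]

theorem χ_P {y : G} (hy : y ∈ P) (hc : IsConj t y) : χ y = 1 := by
  rcases Tow.cases h hf hw hy with hW | ⟨w, hwW, rfl⟩
  · exact absurd hc (Tow.not_conj_W h hf hw hW)
  · exact χ_tW h hf hw f hwW

theorem mem_R_of_norm {S : Subgroup G} (hS : IsPGroup 2 S) (hRS : R ≤ S) {x : G} (hx : x ∈ S)
    (hxn : x ∈ Subgroup.normalizer (P : Set G)) : x ∈ R := by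
  haveI : Fact (Nat.Prime 2) := ⟨Nat.prime_two⟩
  rw [← f.syl.eq_of_le (hS.to_inf_left (K := Subgroup.normalizer (P : Set G))) (le_inf hRS f.syl.le) inf_le_right]
  exact ⟨hx, hxn⟩

/-- Exponent at least four: the class of `t` meets `R` in `P`, so `R` is a Sylow subgroup. -/
theorem big_false [IsSimpleGroup G] (hna : ¬ IsMulCommutative G) (hm : 2 ≤ m)
    (htr : ∀ u ∈ D, ∃ g ∈ Subgroup.normalizer (P : Set G), dlt t m g = u)
    (hrig : ∀ g ∈ Subgroup.normalizer (P : Set G), Triv D g → dlt t m g = 1) : False := by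
  haveI : Fact (Nat.Prime 2) := ⟨Nat.prime_two⟩
  have hcl : ∀ y ∈ R, IsConj t y → y ∈ P := by
    intro y hy hc
    by_contra hyP
    have hy2 := invol_mul_self (conj_invol h.ord hc)
    have hyN := normR h hf hw f hy
    obtain ⟨u, hu, huy⟩ : ∃ u ∈ D, y * u * y⁻¹ ≠ u := by
      by_contra! hall
      exact hyP (Tow.mem_P_of_stab h hf hw f.syl.isPGroup f.PR hy hyN (hrig y hyN hall))
    obtain ⟨w, hwW, rfl⟩ := hw.top u hu
    have hyw := Tow.normW h hf hw hyN hwW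
    set z := w * (y * w * y⁻¹) with hz
    have hzW : z ∈ W := mul_mem hwW hyw
    have hzz : z * z = 1 := h.cent_sq f.syl.isPGroup hc (f.PR (hw.le hzW)) (by
      have hyi : y⁻¹ = y := inv_eq_of_mul_eq_one_right hy2
      rw [hz, hyi]
      calc w * (y * w * y) * y = w * y * w * (y * y) := by group
        _ = (y * y) * w * y * w := by rw [hy2]; group
        _ = y * ((y * w * y) * w) := by group
        _ = y * (w * (y * w * y)) := by
            have hc' := hw.comm _ hyw _ hwW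
            rw [hyi] at hc'
            rw [hc'])
    refine Tow.sq_ne h hf hw hzW hm ?_ hzz
    rw [hz, Tow.pw_mul h hf hw hwW hyw, conj_pow]
    intro e
    refine huy ?_
    rw [← inv_eq_of_mul_eq_one_right e, h.inv_D hu]
  obtain ⟨S, hS⟩ := exists_sylow_eq f.syl.isPGroup fun S hRS x hx hxn => by
    refine mem_R_of_norm h hf hw f S.isPGroup' hRS hx (Tow.mem_normP h hf hw fun w hwW => ?_)
    obtain ⟨g, -, hg⟩ := Tow.conj_tW h hf hw htr hwW
    refine hcl _ ((Subgroup.mem_normalizer_iff.1 hxn _).1 (f.PR (mul_mem hw.tP (hw.le hwW)))) ?_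
    exact (conj_iff x).2 (isConj_iff.2 ⟨g, hg⟩)
  exact char_false hna S h.ord (hS ▸ t_mem h hf hw f) (hS ▸ f.hχ) fun y hy hc =>
    χ_P h hf hw f (hcl y (hS ▸ hy) hc) hc

end general

section small

variable (h : ECent t T D n σ) (hf : Fused t T D) (hw : Tow t σ D 1 T D) (hn : n = 3)
  (hrig : ∀ g ∈ Subgroup.normalizer (T : Set G), Triv D g → dlt t 1 g = 1) (f : Frame t T D R i j χ)
include h hf hw hn hrig f

theorem card_D8 : Nat.card ↥D = 8 := by rw [h.card, hn]; rfl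

theorem cent_D {x p : G} (hx : x ∈ R) (hxT : x ∉ T) (hp : p ∈ T) (hc : x * p = p * x) : p ∈ D := by
  rcases h.T_cases hp with hd | ⟨u, hu, rfl⟩
  · exact hd
  · exact absurd (f.free x hx u hu (by rw [hc, mul_inv_cancel_right])) hxT

theorem card_cent {x : G} (hx : x ∈ R) (hxT : x ∉ T) (hx2 : x * x ∈ T) :
    Nat.card (T ⊓ Subgroup.centralizer ({x} : Set G) : Subgroup G) = 4 := by
  classical
  have hxN := normR h hf hw f hx
  have hnd : ∀ d ∈ D, x * d * x⁻¹ ∈ D := fun d hd => Tow.normD h hf hw hxN hd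
  have hle : T ⊓ Subgroup.centralizer ({x} : Set G) = D ⊓ Subgroup.centralizer ({x} : Set G) := by
    refine le_antisymm (fun p hp => ⟨cent_D h hf hw hn hrig f hx hxT hp.1
      (Subgroup.mem_centralizer_singleton_iff.1 hp.2).symm, hp.2⟩) (inf_le_inf_right _ h.DT)
  rw [hle]
  let c : ↥D →* ↥D := MonoidHom.mk' (fun d => ⟨x * d.1 * x⁻¹ * d.1, mul_mem (hnd _ d.2) d.2⟩) (fun a b => Subtype.ext (by
    show x * (a * b : ↥D).1 * x⁻¹ * (a * b : ↥D).1 = (x * a.1 * x⁻¹ * a.1) * (x * b.1 * x⁻¹ * b.1)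
    rw [Subgroup.coe_mul]
    calc x * (a.1 * b.1) * x⁻¹ * (a.1 * b.1) = (x * a.1 * x⁻¹) * ((x * b.1 * x⁻¹) * a.1) * b.1 := by group
      _ = (x * a.1 * x⁻¹) * (a.1 * (x * b.1 * x⁻¹)) * b.1 := by rw [h.comm_D (hnd _ b.2) a.2]
      _ = _ := by group))
  have hker : ∀ d : ↥D, d ∈ c.ker ↔ x * d.1 = d.1 * x := by
    intro d
    rw [MonoidHom.mem_ker]
    constructor
    · intro e
      have e' : x * d.1 * x⁻¹ * d.1 = 1 := congrArg Subtype.val e
      calc x * d.1 = x * d.1 * x⁻¹ * d.1 * d.1⁻¹ * x := by group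
        _ = d.1 * x := by rw [e', h.inv_D d.2, one_mul]
    · intro e
      exact Subtype.ext (show x * d.1 * x⁻¹ * d.1 = 1 by rw [e, mul_inv_cancel_right, h.sq _ d.2])
  have hcard : Nat.card c.ker = Nat.card (D ⊓ Subgroup.centralizer ({x} : Set G) : Subgroup G) := by
    refine Nat.card_congr ⟨fun d => ⟨d.1.1, d.1.2, Subgroup.mem_centralizer_singleton_iff.2 ((hker d.1).1 d.2).symm⟩,
      fun d => ⟨⟨d.1, d.2.1⟩, (hker _).2 (Subgroup.mem_centralizer_singleton_iff.1 d.2.2).symm⟩,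
      fun d => rfl, fun d => rfl⟩
  rw [← hcard]
  have hrk : c.range ≤ c.ker := by
    rintro _ ⟨d, rfl⟩
    refine (hker _).2 ?_
    show x * (x * d.1 * x⁻¹ * d.1) = x * d.1 * x⁻¹ * d.1 * x
    have e2 : (x * x) * d.1 = d.1 * (x * x) := h.T_comm hx2 (h.DT d.2)
    calc x * (x * d.1 * x⁻¹ * d.1) = (x * x * d.1) * x⁻¹ * d.1 := by group
      _ = d.1 * (x * d.1) := by rw [e2]; group
      _ = (d.1 * (x * d.1 * x⁻¹)) * x := by group
      _ = ((x * d.1 * x⁻¹) * d.1) * x := by rw [h.comm_D d.2 (hnd _ d.2)]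
  have h1 := Subgroup.index_mul_card c.ker
  rw [Subgroup.index_ker, card_D8 h hf hw hn hrig f] at h1
  have h2 := Subgroup.card_le_of_le hrk
  have h3 : Nat.card c.ker ≠ 8 := by
    intro e
    have htop : c.ker = ⊤ := Subgroup.eq_top_of_card_eq _ (e.trans (card_D8 h hf hw hn hrig f).symm)
    refine hxT (Tow.mem_P_of_stab h hf hw f.syl.isPGroup f.PR hx hxN (hrig x hxN fun d hd => ?_))
    rw [(hker ⟨d, hd⟩).1 (htop ▸ Subgroup.mem_top _), mul_inv_cancel_right]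
  have h4 : Nat.card c.ker ≤ 8 := Nat.le_of_dvd (by norm_num) ⟨_, h1.symm.trans (mul_comm _ _)⟩
  interval_cases hk : Nat.card c.ker <;> omega

theorem exists_invol {x : G} (hx : x ∈ R) (hxT : x ∉ T) (hx2 : x * x ∈ T) :
    ∃ p ∈ T, x * p * (x * p) = 1 := by
  classical
  have hnT : ∀ p ∈ T, x⁻¹ * p * x ∈ T := fun p hp => by
    simpa using conjP h hf hw f (inv_mem hx) hp
  let c : ↥T →* ↥T := MonoidHom.mk' (fun p => ⟨x⁻¹ * p.1 * x * p.1, mul_mem (hnT _ p.2) p.2⟩) (fun a b => Subtype.ext (by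
    show x⁻¹ * (a * b : ↥T).1 * x * (a * b : ↥T).1 = (x⁻¹ * a.1 * x * a.1) * (x⁻¹ * b.1 * x * b.1)
    rw [Subgroup.coe_mul]
    calc x⁻¹ * (a.1 * b.1) * x * (a.1 * b.1) = (x⁻¹ * a.1 * x) * ((x⁻¹ * b.1 * x) * a.1) * b.1 := by group
      _ = (x⁻¹ * a.1 * x) * (a.1 * (x⁻¹ * b.1 * x)) * b.1 := by rw [h.T_comm (hnT _ b.2) a.2]
      _ = _ := by group))
  have hker : ∀ p : ↥T, p ∈ c.ker ↔ p.1 * x = x * p.1 := by
    intro p
    rw [MonoidHom.mem_ker]
    constructor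
    · intro e
      have e' : x⁻¹ * p.1 * x * p.1 = 1 := congrArg Subtype.val e
      calc p.1 * x = x * (x⁻¹ * p.1 * x * p.1) * p.1⁻¹ := by group
        _ = x * p.1 := by rw [e', mul_one, inv_eq_of_mul_eq_one_right (h.sq_T p.2)]
    · intro e
      refine Subtype.ext (show x⁻¹ * p.1 * x * p.1 = 1 from ?_)
      rw [mul_assoc x⁻¹ p.1 x, e, inv_mul_cancel_left, h.sq_T p.2]
  have h1 := Subgroup.index_mul_card c.ker
  rw [Subgroup.index_ker, h.toCent.card_T, card_D8 h hf hw hn hrig f] at h1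
  have hk4 : Nat.card c.ker = 4 := by
    rw [← card_cent h hf hw hn hrig f hx hxT hx2]
    exact Nat.card_congr ⟨fun d => ⟨d.1.1, d.1.2, Subgroup.mem_centralizer_singleton_iff.2 ((hker d.1).1 d.2)⟩,
      fun d => ⟨⟨d.1, d.2.1⟩, (hker _).2 (Subgroup.mem_centralizer_singleton_iff.1 d.2.2)⟩,
      fun d => rfl, fun d => rfl⟩
  have hrk : c.range ≤ c.ker := by
    rintro _ ⟨p, rfl⟩
    refine (hker _).2 ?_
    show x⁻¹ * p.1 * x * p.1 * x = x * (x⁻¹ * p.1 * x * p.1)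
    have e2 : (x * x) * p.1 = p.1 * (x * x) := h.T_comm hx2 p.2
    calc x⁻¹ * p.1 * x * p.1 * x = x⁻¹ * (p.1 * x * p.1 * x) := by group
      _ = x⁻¹ * ((p.1 * (x * x)) * (x⁻¹ * p.1 * x)) := by group
      _ = x⁻¹ * (((x * x) * p.1) * (x⁻¹ * p.1 * x)) := by rw [e2]
      _ = x * (p.1 * (x⁻¹ * p.1 * x)) := by group
      _ = x * ((x⁻¹ * p.1 * x) * p.1) := by rw [h.T_comm p.2 (hnT _ p.2)]
  have heq : c.range = c.ker := by
    refine Subgroup.eq_of_le_of_card_ge hrk ?_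
    rw [hk4] at h1 ⊢
    omega
  obtain ⟨p, hp⟩ : (⟨x * x, hx2⟩ : ↥T) ∈ c.range := heq ▸ (hker _).2 (by group)
  have hp' : x⁻¹ * p.1 * x * p.1 = x * x := congrArg Subtype.val hp
  refine ⟨p.1, p.2, ?_⟩
  calc x * p.1 * (x * p.1) = (x * x) * (x⁻¹ * p.1 * x * p.1) := by group
    _ = 1 := by rw [hp']; exact h.sq_T hx2

theorem coset_D {r r' : G} (hr : r ∈ R) (hrT : r ∉ T) (h1 : r * r = 1) (h2 : r' * r' = 1)
    (hd : r⁻¹ * r' ∈ T) : r⁻¹ * r' ∈ D := by
  refine cent_D h hf hw hn hrig f hr hrT hd ?_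
  have hp2 := h.sq_T hd
  generalize hpd : r⁻¹ * r' = p at hd hp2 ⊢
  have h3 : r' = r * p := by rw [← hpd, mul_inv_cancel_left]
  rw [h3] at h2
  calc r * p = r * p * (r * p * (r * p)) := by rw [h2, mul_one]
    _ = (r * p) * (r * p) * r * p := by group
    _ = r * p := by rw [h2, one_mul]
    _ = (r * p * (r * p)) * p⁻¹ * r⁻¹ := by group
    _ = p * r := by rw [h2, one_mul, inv_eq_of_mul_eq_one_right hp2, inv_eq_of_mul_eq_one_right h1]

/-- The conjugates under `R` of a conjugate of `t` in `R`. -/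
theorem orbit_ge {y : G} (hc : IsConj t y) :
    8 ≤ ({x : G | ∃ r ∈ R, r * y * r⁻¹ = x} : Set G).ncard := by
  classical
  haveI : Fact (Nat.Prime 2) := ⟨Nat.prime_two⟩
  set O : Set G := {x : G | ∃ r ∈ R, r * y * r⁻¹ = x}
  let g : ↥R → ↥O := fun r => ⟨r.1 * y * r.1⁻¹, r.1, r.2, rfl⟩
  have hsp : ∀ x : ↥O, ∃ s : ↥R, s.1 * y * s.1⁻¹ = x.1 := fun x => let ⟨r, hr, e⟩ := x.2; ⟨⟨r, hr⟩, e⟩
  choose s hs using hsp
  have hmem : ∀ r : ↥R, (s (g r)).1⁻¹ * r.1 ∈ (R ⊓ Subgroup.centralizer ({y} : Set G) : Subgroup G) := by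
    intro r
    refine ⟨R.mul_mem (R.inv_mem (s (g r)).2) r.2, Subgroup.mem_centralizer_singleton_iff.2 ?_⟩
    have e : (s (g r)).1 * y * (s (g r)).1⁻¹ = r.1 * y * r.1⁻¹ := hs (g r)
    calc (s (g r)).1⁻¹ * r.1 * y = (s (g r)).1⁻¹ * (r.1 * y * r.1⁻¹) * r.1 := by group
      _ = y * ((s (g r)).1⁻¹ * r.1) := by rw [← e]; group
  have hle := Nat.card_le_card_of_injective (fun r : ↥R => (g r, (⟨_, hmem r⟩ :
    (R ⊓ Subgroup.centralizer ({y} : Set G) : Subgroup G)))) (fun a b e => by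
      have e1 : g a = g b := congrArg Prod.fst e
      have e2 : (s (g a)).1⁻¹ * a.1 = (s (g b)).1⁻¹ * b.1 :=
        congrArg (fun p : ↥O × (R ⊓ Subgroup.centralizer ({y} : Set G) : Subgroup G) => (p.2 : G)) e
      rw [e1] at e2
      exact Subtype.ext (mul_left_cancel e2))
  have h16 := h.toCent.card_cent_le f.syl.isPGroup hc
  rw [Nat.card_prod, f.card, h.toCent.card_T, card_D8 h hf hw hn hrig f, Nat.card_coe_set_eq] at hle
  rw [h.toCent.card_T, card_D8 h hf hw hn hrig f] at h16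
  nlinarith

theorem coset_le {y : G} (hy : y ∈ R) (hyT : y ∉ T) (hy2 : y * y = 1) :
    ({r : G | r * r = 1 ∧ y⁻¹ * r ∈ T} : Set G).ncard ≤ 4 := by
  rw [← card_cent h hf hw hn hrig f hy hyT (hy2 ▸ one_mem T), ← Nat.card_coe_set_eq]
  have hyi : y⁻¹ = y := inv_eq_of_mul_eq_one_right hy2
  have key : ∀ r : G, r * r = 1 → y⁻¹ * r ∈ T → y⁻¹ * r * y = y * (y⁻¹ * r) := by
    intro r hr2 hd
    have hpi := inv_eq_of_mul_eq_one_right (h.sq_T hd)
    rw [mul_inv_rev, inv_eq_of_mul_eq_one_right hr2, inv_inv, hyi] at hpi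
    rw [hyi]
    calc y * r * y = r * y * y := by rw [hpi]
      _ = r := by rw [mul_assoc, hy2, mul_one]
      _ = y * (y * r) := by rw [← mul_assoc, hy2, one_mul]
  refine Nat.card_le_card_of_injective (fun r => ⟨y⁻¹ * r.1, r.2.2,
    Subgroup.mem_centralizer_singleton_iff.2 ?_⟩) (fun a b e => Subtype.ext (mul_left_cancel (congrArg Subtype.val e)))
  exact key r.1 r.2.1 r.2.2

/-- A conjugate of `t` in `R` lies in `T` or has exactly one coordinate. -/
theorem class_cases {y : G} (hy : y ∈ R) (hc : IsConj t y) :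
    y ∈ T ∨ (i y = 1 ∧ j y = 0) ∨ (i y = 0 ∧ j y = 1) := by
  refine or_iff_not_imp_left.2 fun hyT => ?_
  have hy2 := invol_mul_self (conj_invol h.ord hc)
  rcases zmod2_sum_ne _ _ ((f.invol y hy).1 (hy2 ▸ one_mem T)) with ⟨a, b⟩ | e
  · exfalso
    have h8 := orbit_ge h hf hw hn hrig f hc
    have hsub : {x : G | ∃ r ∈ R, r * y * r⁻¹ = x} ⊆ {r : G | r * r = 1 ∧ y⁻¹ * r ∈ T} := by
      rintro _ ⟨r, hr, rfl⟩
      refine ⟨?_, f.two y hy _ (mul_mem (mul_mem hr hy) (inv_mem hr)) a b ?_ ?_ hyT fun e => hyT ?_⟩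
      · rw [show r * y * r⁻¹ * (r * y * r⁻¹) = r * (y * y) * r⁻¹ by group, hy2]; group
      · rw [f.hi.conj hr hy, a]
      · rw [f.hj.conj hr hy, b]
      · have := conjP h hf hw f (inv_mem hr) e
        rwa [show r⁻¹ * (r * y * r⁻¹) * r⁻¹⁻¹ = y by group] at this
    have := Set.ncard_le_ncard hsub (Set.toFinite _)
    have := coset_le h hf hw hn hrig f hy hyT hy2
    omega
  · exact e

theorem notT_of_i {y : G} (hiy : i y = 1) : y ∉ T := fun e => zero_ne_one ((f.iP y e).symm.trans hiy)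

/-- One conjugate with coordinates `(1, 0)` makes them all conjugate, and there are eight of them. -/
theorem kind_facts {y : G} (hy : y ∈ R) (hc : IsConj t y) (hiy : i y = 1) (hjy : j y = 0) :
    (∀ r ∈ kindA R i j, ∃ s ∈ R, s * y * s⁻¹ = r) ∧ (kindA R i j).ncard = 8 := by
  have hy2 := invol_mul_self (conj_invol h.ord hc)
  obtain ⟨c, hcR, hcT, hic, hjc⟩ := f.centre
  have hycR := mul_mem hy hcR
  have hiyc : i (y * c) = 1 := by rw [f.hi y hy c hcR, hiy, hic, add_zero]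
  have hjyc : j (y * c) = 0 := by rw [f.hj y hy c hcR, hjy, hjc, add_zero]
  obtain ⟨p, hp, hp2⟩ := exists_invol h hf hw hn hrig f hycR (notT_of_i h hf hw hn hrig f hiyc)
    ((f.invol _ hycR).2 (by rw [hjyc, mul_zero]))
  set y' := y * c * p with hy'
  have hy'R : y' ∈ R := mul_mem hycR (f.PR hp)
  have hiy' : i y' = 1 := by rw [f.hi _ hycR p (f.PR hp), hiyc, f.iP p hp, add_zero]
  have hjy' : j y' = 0 := by rw [f.hj _ hycR p (f.PR hp), hjyc, f.jP p hp, add_zero]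
  have hsub : kindA R i j ⊆ {r : G | r * r = 1 ∧ y⁻¹ * r ∈ T} ∪ {r : G | r * r = 1 ∧ y'⁻¹ * r ∈ T} := by
    rintro r ⟨hr, hr2, hir, hjr⟩
    by_cases e : y⁻¹ * r ∈ T
    · exact Or.inl ⟨hr2, e⟩
    refine Or.inr ⟨hr2, ?_⟩
    have e' : y⁻¹ * y' ∉ T := fun e' => hcT (by
      rw [hy', show y⁻¹ * (y * c * p) = c * p by group] at e'
      exact (mul_mem_cancel_right hp).1 e')
    have hz : ∀ q ∈ R, i q = 1 → j q = 0 → i (y⁻¹ * q) = 0 ∧ j (y⁻¹ * q) = 0 := fun q hq a b =>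
      ⟨by rw [f.hi _ (inv_mem hy) q hq, f.hi.inv hy, hiy, a, zmod2_add_self],
        by rw [f.hj _ (inv_mem hy) q hq, f.hj.inv hy, hjy, b, add_zero]⟩
    have h2 := f.two _ (mul_mem (inv_mem hy) hy'R) _ (mul_mem (inv_mem hy) hr) (hz y' hy'R hiy' hjy').1
      (hz y' hy'R hiy' hjy').2 (hz r hr hir hjr).1 (hz r hr hir hjr).2 e' e
    rwa [show (y⁻¹ * y')⁻¹ * (y⁻¹ * r) = y'⁻¹ * r by group] at h2
  have h8 := orbit_ge h hf hw hn hrig f hc
  have hO : {x : G | ∃ r ∈ R, r * y * r⁻¹ = x} ⊆ kindA R i j := by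
    rintro _ ⟨r, hr, rfl⟩
    refine ⟨mul_mem (mul_mem hr hy) (inv_mem hr), ?_, by rw [f.hi.conj hr hy, hiy],
      by rw [f.hj.conj hr hy, hjy]⟩
    rw [show r * y * r⁻¹ * (r * y * r⁻¹) = r * (y * y) * r⁻¹ by group, hy2]; group
  have h44 : (kindA R i j).ncard ≤ 8 := by
    refine le_trans (Set.ncard_le_ncard hsub (Set.toFinite _)) (le_trans (Set.ncard_union_le _ _) ?_)
    have a := coset_le h hf hw hn hrig f hy (notT_of_i h hf hw hn hrig f hiy) hy2
    have b := coset_le h hf hw hn hrig f hy'R (notT_of_i h hf hw hn hrig f hiy') hp2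
    omega
  have heq := Set.eq_of_subset_of_ncard_le hO (by omega) (Set.toFinite _)
  refine ⟨fun r hr => ?_, ?_⟩
  · rw [← heq] at hr
    exact hr
  · have := Set.ncard_le_ncard hO (Set.toFinite _)
    omega

/-- The character may be taken to be one on all conjugates of `t` in `R`. -/
theorem adjust : ∃ χ' : G → ZMod 2, Frame t T D R i j χ' ∧ ∀ y ∈ R, IsConj t y → χ' y = 1 := by
  classical
  obtain ⟨a, ha⟩ : ∃ a : ZMod 2, ∀ y ∈ R, IsConj t y → i y = 1 → j y = 0 → χ y + a = 1 := by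
    by_cases hex : ∃ y ∈ R, IsConj t y ∧ i y = 1 ∧ j y = 0
    · obtain ⟨y₀, hy₀, hc₀, hi₀, hj₀⟩ := hex
      refine ⟨1 + χ y₀, fun y hy hc hiy hjy => ?_⟩
      obtain ⟨s, hs, e⟩ := (kind_facts h hf hw hn hrig f hy₀ hc₀ hi₀ hj₀).1 y
        ⟨hy, invol_mul_self (conj_invol h.ord hc), hiy, hjy⟩
      rw [← e, f.hχ.conj hs hy₀, add_left_comm, zmod2_add_self, add_zero]
    · push Not at hex
      exact ⟨0, fun y hy hc hiy hjy => absurd hjy (hex y hy hc hiy)⟩
  obtain ⟨b, hb⟩ : ∃ b : ZMod 2, ∀ y ∈ R, IsConj t y → i y = 0 → j y = 1 → χ y + b = 1 := by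
    by_cases hex : ∃ y ∈ R, IsConj t y ∧ i y = 0 ∧ j y = 1
    · obtain ⟨y₀, hy₀, hc₀, hi₀, hj₀⟩ := hex
      refine ⟨1 + χ y₀, fun y hy hc hiy hjy => ?_⟩
      obtain ⟨s, hs, e⟩ := (kind_facts h hf hw hn hrig f.swap hy₀ hc₀ hj₀ hi₀).1 y
        ⟨hy, invol_mul_self (conj_invol h.ord hc), hjy, hiy⟩
      rw [← e, f.hχ.conj hs hy₀, add_left_comm, zmod2_add_self, add_zero]
    · push Not at hex
      exact ⟨0, fun y hy hc hiy hjy => absurd hjy (hex y hy hc hiy)⟩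
  refine ⟨fun x => χ x + (a * i x + b * j x), { f with
    hχ := f.hχ.add ((f.hi.smul a).add (f.hj.smul b))
    χt := by
      show χ t + (a * i t + b * j t) = 1
      rw [f.χt, f.iP t h.tT, f.jP t h.tT, mul_zero, mul_zero, add_zero, add_zero]
    χW := fun w hwW => by
      show χ w + (a * i w + b * j w) = 0
      rw [f.χW w hwW, f.iP w (h.DT hwW), f.jP w (h.DT hwW), mul_zero, mul_zero, add_zero, add_zero] },
    fun y hy hc => ?_⟩
  show χ y + (a * i y + b * j y) = 1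
  rcases class_cases h hf hw hn hrig f hy hc with hP | ⟨e, e'⟩ | ⟨e, e'⟩
  · rw [f.iP y hP, f.jP y hP, mul_zero, mul_zero, add_zero, add_zero]
    exact χ_P h hf hw f hP hc
  · rw [e, e', mul_one, mul_zero, add_zero]
    exact ha y hy hc e e'
  · rw [e, e', mul_one, mul_zero, zero_add]
    exact hb y hy hc e e'

end small

end Frame

end Cfsg.Agent.Fusion.L2Cent
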