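import Cfsg.Agent.Lib.Fusion.L2Cent.Eight

/-!
# Towers over a group of order eight without translations: the transfer
-/

set_option autoImplicit false
set_option linter.style.haveILetI false
set_option linter.unusedSectionVars false

namespace Cfsg.Agent.Fusion.L2Cent

universe u

variable {G : Type u} [Group G]

/-- The embedding of `ZMod 2` into `ZMod 4`. -/
def up4 (a : ZMod 2) : ZMod 4 := if a = 0 then 0 else 2

theorem up4_add : ∀ a b : ZMod 2, up4 (a + b) = up4 a + up4 b := by decide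

theorem up4_one : up4 1 = 2 := by decide

theorem up4_zero : up4 0 = 0 := by decide

theorem two_add_two4 : (2 : ZMod 4) + 2 = 0 := by decide

theorem one_add_one4 : (1 : ZMod 4) + 1 = 2 := by decide

theorem two_ne4 : Multiplicative.ofAdd (2 : ZMod 4) ≠ 1 := by decide

/-- An invariant character extends to an overgroup of index two, with values in `ZMod 4`. -/
theorem exists_ext {S R : Subgroup G} (hidx : R.relIndex S = 2) (hRS : R ≤ S) {χ : G → ZMod 2}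
    (hχ : IsChar R χ) {g : G} (hg : g ∈ S) (hgR : g ∉ R) (hinv : ∀ r ∈ R, χ (g * r * g⁻¹) = χ r)
    (ε : ZMod 4) (hε : ε + ε = up4 (χ (g * g))) :
    ∃ ψ : ↥S →* Multiplicative (ZMod 4), ∀ s : ↥S, (s.1 ∈ R → ψ s = Multiplicative.ofAdd (up4 (χ s.1))) ∧
      (s.1 ∉ R → ψ s = Multiplicative.ofAdd (ε + up4 (χ (g⁻¹ * s.1)))) := by
  classical
  have hn : ∀ x ∈ S, ∀ r ∈ R, x * r * x⁻¹ ∈ R := fun x hx r hr => by
    have hN : (R.subgroupOf S).Normal := Subgroup.normal_of_index_eq_two hidx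
    exact hN.conj_mem ⟨r, hRS hr⟩ hr ⟨x, hx⟩
  have hiff : ∀ a b : ↥S, a.1 * b.1 ∈ R ↔ (a.1 ∈ R ↔ b.1 ∈ R) := fun a b =>
    Subgroup.mul_mem_iff_of_index_two (show (R.subgroupOf S).index = 2 from hidx) (a := a) (b := b)
  have hout : ∀ s : ↥S, s.1 ∉ R → g⁻¹ * s.1 ∈ R := fun s hs =>
    (hiff ⟨g⁻¹, inv_mem hg⟩ s).2 (iff_of_false (fun e => hgR (inv_inv g ▸ inv_mem e)) hs)
  let F : ↥S → ZMod 4 := fun s => if s.1 ∈ R then up4 (χ s.1) else ε + up4 (χ (g⁻¹ * s.1))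
  have hF : ∀ a b : ↥S, F (a * b) = F a + F b := by
    intro a b
    simp only [F, Subgroup.coe_mul]
    by_cases ha : a.1 ∈ R <;> by_cases hb : b.1 ∈ R
    · rw [if_pos ((hiff a b).2 (iff_of_true ha hb)), if_pos ha, if_pos hb, hχ _ ha _ hb, up4_add]
    · have hb' := hout b hb
      have hc := hn _ (inv_mem hg) _ ha
      rw [inv_inv] at hc
      rw [if_neg (fun e => hb (((hiff a b).1 e).1 ha)), if_pos ha, if_neg hb,
        show g⁻¹ * (a.1 * b.1) = (g⁻¹ * a.1 * g) * (g⁻¹ * b.1) by group, hχ _ hc _ hb', up4_add]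
      have e := hinv _ hc
      rw [show g * (g⁻¹ * a.1 * g) * g⁻¹ = a.1 by group] at e
      rw [← e]; ring
    · rw [if_neg (fun e => ha (((hiff a b).1 e).2 hb)), if_neg ha, if_pos hb,
        show g⁻¹ * (a.1 * b.1) = (g⁻¹ * a.1) * b.1 by group, hχ _ (hout a ha) _ hb, up4_add]
      ring
    · have ha' := hout a ha
      have hb' := hout b hb
      have hgg : g * g ∈ R := (hiff ⟨g, hg⟩ ⟨g, hg⟩).2 Iff.rfl
      have hc := hn _ (inv_mem hg) _ ha'
      rw [inv_inv] at hc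
      have e := hinv _ hc
      rw [show g * (g⁻¹ * (g⁻¹ * a.1) * g) * g⁻¹ = g⁻¹ * a.1 by group] at e
      rw [if_pos ((hiff a b).2 (iff_of_false ha hb)), if_neg ha, if_neg hb,
        show a.1 * b.1 = (g * g) * ((g⁻¹ * (g⁻¹ * a.1) * g) * (g⁻¹ * b.1)) by group,
        hχ _ hgg _ (mul_mem hc hb'), hχ _ hc _ hb', up4_add, up4_add, ← hε, ← e]
      ring
  refine ⟨MonoidHom.mk' (fun s => Multiplicative.ofAdd (F s)) (fun a b => by rw [hF a b]; rfl),
    fun s => ⟨fun hs => ?_, fun hs => ?_⟩⟩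
  · show Multiplicative.ofAdd (F s) = _
    simp only [F, if_pos hs]
  · show Multiplicative.ofAdd (F s) = _
    simp only [F, if_neg hs]

variable [Finite G] {t σ : G} {T D R : Subgroup G} {n : ℕ} {i j χ : G → ZMod 2}

namespace Frame

variable (h : ECent t T D n σ) (hf : Fused t T D) (hw : Tow t σ D 1 T D) (hn : n = 3)
  (hrig : ∀ g ∈ Subgroup.normalizer (T : Set G), Triv D g → dlt t 1 g = 1)
include h hf hw hn hrig

theorem card_tD : ((fun u => t * u) '' (D : Set G)).ncard = 8 := by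
  rw [Set.ncard_image_of_injective _ (mul_right_injective t), ← Nat.card_coe_set_eq, SetLike.coe_sort_coe, h.card, hn]
  rfl

theorem tD_conj {y : G} (hy : y ∈ (fun u => t * u) '' (D : Set G)) : IsConj t y ∧ y ∈ T := by
  obtain ⟨u, hu, rfl⟩ := hy
  obtain ⟨x, -, hx⟩ := hf.conj u hu
  exact ⟨isConj_iff.2 ⟨x, hx⟩, mul_mem h.tT (h.DT hu)⟩

theorem mem_tD {y : G} (hy : y ∈ T) (hc : IsConj t y) : y ∈ (fun u => t * u) '' (D : Set G) := by
  rcases h.T_cases hy with hd | ⟨u, hu, rfl⟩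
  · exact absurd hc (hf.notD y hd)
  · exact ⟨u, hu, rfl⟩

variable (f : Frame t T D R i j χ)
include f

/-- Only one kind of conjugates outside `T`, and `R` of index two in a Sylow subgroup. -/
theorem one_kind_false [IsSimpleGroup G] (hna : ¬ IsMulCommutative G)
    (hχ1 : ∀ y ∈ R, IsConj t y → χ y = 1) {y₀ : G} (hy₀ : y₀ ∈ R) (hc₀ : IsConj t y₀) (hi₀ : i y₀ = 1)
    (hj₀ : j y₀ = 0) (hone : ∀ y ∈ R, IsConj t y → y ∈ T ∨ y ∈ kindA R i j) (S : Sylow 2 G)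
    (hRS : R ≤ (S : Subgroup G)) (hidx : R.relIndex (S : Subgroup G) = 2) : False := by
  classical
  haveI : Fact (Nat.Prime 2) := ⟨Nat.prime_two⟩
  obtain ⟨hA, hA8⟩ := kind_facts h hf hw hn hrig f hy₀ hc₀ hi₀ hj₀
  have hAc : ∀ r ∈ kindA R i j, IsConj t r := fun r hr => by
    obtain ⟨s, -, e⟩ := hA r hr
    exact e ▸ (conj_iff s).2 hc₀
  have hAT : ∀ r ∈ kindA R i j, r ∉ T := fun r hr => notT_of_i h hf hw hn hrig f hr.2.2.1
  have hRN : ∀ r ∈ R, r ∈ Subgroup.normalizer (T : Set G) := fun r hr => normR h hf hw f hr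
  have hn' : ∀ x ∈ (S : Subgroup G), ∀ r ∈ R, x * r * x⁻¹ ∈ R := fun x hx r hr => by
    have hN : (R.subgroupOf (S : Subgroup G)).Normal := Subgroup.normal_of_index_eq_two hidx
    exact hN.conj_mem ⟨r, hRS hr⟩ hr ⟨x, hx⟩
  have hsqR : ∀ x ∈ (S : Subgroup G), x * x ∈ R := fun x hx =>
    (Subgroup.mul_mem_iff_of_index_two (show (R.subgroupOf (S : Subgroup G)).index = 2 from hidx)
      (a := ⟨x, hx⟩) (b := ⟨x, hx⟩)).2 Iff.rfl
  -- outside `R` the two sets of conjugates are interchanged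
  have hswap : ∀ g ∈ (S : Subgroup G), g ∉ R → (∀ u ∈ D, g * (t * u) * g⁻¹ ∈ kindA R i j) ∧
      ∀ r ∈ kindA R i j, ∃ u ∈ D, g * (t * u) * g⁻¹ = r := by
    intro g hg hgR
    have hcl : ∀ u ∈ D, g * (t * u) * g⁻¹ ∈ T ∨ g * (t * u) * g⁻¹ ∈ kindA R i j := fun u hu =>
      hone _ (hn' g hg _ (f.PR (mul_mem h.tT (h.DT hu))))
        ((conj_iff g).2 (tD_conj h hf hw hn hrig ⟨u, hu, rfl⟩).1)
    have hex : ∃ u ∈ D, g * (t * u) * g⁻¹ ∈ kindA R i j := by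
      by_contra! hno
      exact hgR (mem_R_of_norm h hf hw f S.isPGroup' hRS hg
        (Tow.mem_normP h hf hw fun u hu => (hcl u hu).resolve_right (hno u hu)))
    obtain ⟨u₁, hu₁, hu₁A⟩ := hex
    have hall : ∀ u ∈ D, g * (t * u) * g⁻¹ ∈ kindA R i j := by
      intro u hu
      refine (hcl u hu).resolve_left fun hT => ?_
      obtain ⟨v, hv, hve⟩ := mem_tD h hf hw hn hrig hT ((conj_iff g).2 (tD_conj h hf hw hn hrig ⟨u, hu, rfl⟩).1)
      refine hAT _ hu₁A (f.free _ hu₁A.1 v hv ?_)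
      rw [show t * v = g * (t * u) * g⁻¹ from hve]
      have hcm : (t * u₁) * (t * u) = (t * u) * (t * u₁) :=
        h.T_comm (mul_mem h.tT (h.DT hu₁)) (mul_mem h.tT (h.DT hu))
      calc g * (t * u₁) * g⁻¹ * (g * (t * u) * g⁻¹) * (g * (t * u₁) * g⁻¹)⁻¹
          = g * ((t * u₁) * (t * u) * (t * u₁)⁻¹) * g⁻¹ := by group
        _ = g * (t * u) * g⁻¹ := by rw [hcm, mul_inv_cancel_right]
    refine ⟨hall, ?_⟩
    have heq : (fun x => g * x * g⁻¹) '' ((fun u => t * u) '' (D : Set G)) = kindA R i j := by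
      refine Set.eq_of_subset_of_ncard_le ?_ ?_ (Set.toFinite _)
      · rintro _ ⟨_, ⟨u, hu, rfl⟩, rfl⟩
        exact hall u hu
      · rw [hA8, Set.ncard_image_of_injective _ (fun a b e => mul_left_cancel (mul_right_cancel e)),
          card_tD h hf hw hn hrig]
    intro r hr
    rw [← heq] at hr
    obtain ⟨_, ⟨u, hu, rfl⟩, e⟩ := hr
    exact ⟨u, hu, e⟩
  have hTgen : ∀ g ∈ (S : Subgroup G), g ∉ R → ∀ p ∈ T, g * p * g⁻¹ ∈ R ∧ j (g * p * g⁻¹) = 0 ∧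
      χ (g * p * g⁻¹) = χ p := by
    intro g hg hgR p hp
    have hbase : ∀ u ∈ D, g * (t * u) * g⁻¹ ∈ R ∧ j (g * (t * u) * g⁻¹) = 0 ∧ χ (g * (t * u) * g⁻¹) = 1 :=
      fun u hu =>
        let hk := (hswap g hg hgR).1 u hu
        ⟨hk.1, hk.2.2.2, hχ1 _ hk.1 (hAc _ hk)⟩
    rcases h.T_cases hp with hd | ⟨u, hu, rfl⟩
    · obtain ⟨a1, a2, a3⟩ := hbase 1 (one_mem D)
      obtain ⟨b1, b2, b3⟩ := hbase p hd
      rw [show g * p * g⁻¹ = (g * (t * 1) * g⁻¹)⁻¹ * (g * (t * p) * g⁻¹) by group]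
      refine ⟨mul_mem (inv_mem a1) b1, ?_, ?_⟩
      · rw [f.hj _ (inv_mem a1) _ b1, f.hj.inv a1, a2, b2, add_zero]
      · rw [f.hχ _ (inv_mem a1) _ b1, f.hχ.inv a1, a3, b3, f.χW p hd, zmod2_add_self]
    · obtain ⟨a1, a2, a3⟩ := hbase u hu
      exact ⟨a1, a2, by rw [a3, χ_tW h hf hw f hu]⟩
  -- the elements with vanishing second coordinate
  have hdec : ∀ g ∈ (S : Subgroup G), g ∉ R → ∀ r ∈ R, j r = 0 → ∃ p ∈ T, ∃ p' ∈ T, r = g * p' * g⁻¹ * p := by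
    intro g hg hgR
    have hcase : ∀ r ∈ R, i r = 1 → j r = 0 → ∃ a ∈ cj T g, a⁻¹ * r ∈ T := by
      intro r hr hir hjr
      obtain ⟨p, hp, hp2⟩ := exists_invol h hf hw hn hrig f hr (notT_of_i h hf hw hn hrig f hir)
        ((f.invol r hr).2 (by rw [hjr, mul_zero]))
      have hk : r * p ∈ kindA R i j := ⟨mul_mem hr (f.PR hp), hp2, by rw [f.hi r hr p (f.PR hp), hir, f.iP p hp,
        add_zero], by rw [f.hj r hr p (f.PR hp), hjr, f.jP p hp, add_zero]⟩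
      obtain ⟨u, hu, e⟩ := (hswap g hg hgR).2 _ hk
      refine ⟨r * p, e ▸ conj_mem_cj (mul_mem h.tT (h.DT hu)), ?_⟩
      rw [show (r * p)⁻¹ * r = p⁻¹ by group]
      exact inv_mem hp
    intro r hr hjr
    obtain ⟨a, ha, hd⟩ : ∃ a ∈ cj T g, a⁻¹ * r ∈ T := by
      rcases zmod2_cases (i r) with e | e
      · obtain ⟨u, hu, e0⟩ := (hswap g hg hgR).2 y₀ ⟨hy₀, invol_mul_self (conj_invol h.ord hc₀), hi₀, hj₀⟩
        obtain ⟨a, ha, hd⟩ := hcase (y₀ * r) (mul_mem hy₀ hr) (by rw [f.hi _ hy₀ r hr, hi₀, e, add_zero])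
          (by rw [f.hj _ hy₀ r hr, hj₀, hjr, add_zero])
        refine ⟨y₀⁻¹ * a, mul_mem (inv_mem (e0 ▸ conj_mem_cj (mul_mem h.tT (h.DT hu)))) ha, ?_⟩
        rwa [show (y₀⁻¹ * a)⁻¹ * r = a⁻¹ * (y₀ * r) by group]
      · exact hcase r hr e hjr
    refine ⟨a⁻¹ * r, hd, g⁻¹ * a * g, mem_cj.1 ha, ?_⟩
    group
  have hinvJ : ∀ g ∈ (S : Subgroup G), g ∉ R → ∀ r ∈ R, j r = 0 →
      j (g * r * g⁻¹) = 0 ∧ χ (g * r * g⁻¹) = χ r := by
    intro g hg hgR r hr hjr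
    obtain ⟨p, hp, p', hp', rfl⟩ := hdec g hg hgR r hr hjr
    obtain ⟨a1, a2, a3⟩ := hTgen g hg hgR p hp
    obtain ⟨b1, b2, b3⟩ := hTgen g hg hgR p' hp'
    have hgg := hsqR g hg
    have hq : g * (g * p' * g⁻¹) * g⁻¹ = (g * g) * p' * (g * g)⁻¹ := by group
    have hqT : (g * g) * p' * (g * g)⁻¹ ∈ T := conjP h hf hw f hgg hp'
    rw [show g * (g * p' * g⁻¹ * p) * g⁻¹ = (g * (g * p' * g⁻¹) * g⁻¹) * (g * p * g⁻¹) by group, hq,
      f.hj _ (f.PR hqT) _ a1, f.hχ _ (f.PR hqT) _ a1, f.hχ _ b1 p (f.PR hp), f.jP _ hqT, a2, a3, b3,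
      f.hχ.conj hgg (f.PR hp'), add_zero]
    exact ⟨rfl, rfl⟩
  have hj1 : ∀ g ∈ (S : Subgroup G), g ∉ R → ∀ r ∈ R, j (g * r * g⁻¹) = j r := by
    intro g hg hgR r hr
    rcases zmod2_cases (j r) with e | e
    · rw [e]; exact (hinvJ g hg hgR r hr e).1
    · rcases zmod2_cases (j (g * r * g⁻¹)) with e' | e'
      · exfalso
        have h1 := (hinvJ g⁻¹ (inv_mem hg) (fun e => hgR (inv_inv g ▸ inv_mem e)) _ (hn' g hg r hr) e').1
        rw [show g⁻¹ * (g * r * g⁻¹) * g⁻¹⁻¹ = r by group, e] at h1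
        exact zero_ne_one h1.symm
      · rw [e, e']
  obtain ⟨r₀, hr₀, hir₀, hjr₀⟩ := f.surj 0 1
  have hr₀T : r₀ ∉ T := fun e => zero_ne_one ((f.jP _ e).symm.trans hjr₀)
  obtain ⟨p₀, hp₀, hp₀2⟩ := exists_invol h hf hw hn hrig f hr₀ hr₀T ((f.invol r₀ hr₀).2 (by rw [hir₀, zero_mul]))
  set b₀ := r₀ * p₀ with hb₀
  have hb₀R : b₀ ∈ R := mul_mem hr₀ (f.PR hp₀)
  have hib₀ : i b₀ = 0 := by rw [f.hi r₀ hr₀ p₀ (f.PR hp₀), hir₀, f.iP _ hp₀, add_zero]
  have hjb₀ : j b₀ = 1 := by rw [f.hj r₀ hr₀ p₀ (f.PR hp₀), hjr₀, f.jP _ hp₀, add_zero]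
  have hb₀T : ∀ {x : G}, j x = 1 → x ∉ T := fun hx e => zero_ne_one ((f.jP _ e).symm.trans hx)
  have hsame : ∀ r ∈ R, r * r = 1 → i r = 0 → j r = 1 → χ r = χ b₀ := by
    intro r hr hr2 hir hjr
    have key : ∀ b ∈ R, b * b = 1 → j b = 1 → b⁻¹ * r ∈ T → χ r = χ b := by
      intro b hb hb2 hjb hd
      have hD := coset_D h hf hw hn hrig f hb (hb₀T hjb) hb2 hr2 hd
      rw [show r = b * (b⁻¹ * r) by group, f.hχ b hb _ (f.PR hd), f.χW _ hD, add_zero]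
    by_cases e : b₀⁻¹ * r ∈ T
    · exact key b₀ hb₀R hp₀2 hjb₀ e
    set b₁ := y₀ * b₀ * y₀⁻¹ with hb₁
    have hb₁R : b₁ ∈ R := mul_mem (mul_mem hy₀ hb₀R) (inv_mem hy₀)
    rw [key b₁ hb₁R ?_ (by rw [f.hj.conj hy₀ hb₀R, hjb₀]) ?_, f.hχ.conj hy₀ hb₀R]
    · rw [hb₁, show y₀ * b₀ * y₀⁻¹ * (y₀ * b₀ * y₀⁻¹) = y₀ * (b₀ * b₀) * y₀⁻¹ by group, hp₀2]; group
    · have hz : ∀ q ∈ R, i q = 0 → j q = 1 → i (b₀⁻¹ * q) = 0 ∧ j (b₀⁻¹ * q) = 0 := fun q hq a b =>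
        ⟨by rw [f.hi _ (inv_mem hb₀R) q hq, f.hi.inv hb₀R, hib₀, a, add_zero],
          by rw [f.hj _ (inv_mem hb₀R) q hq, f.hj.inv hb₀R, hjb₀, b, zmod2_add_self]⟩
      have hib₁ : i b₁ = 0 := by rw [f.hi.conj hy₀ hb₀R, hib₀]
      have hjb₁ : j b₁ = 1 := by rw [f.hj.conj hy₀ hb₀R, hjb₀]
      have hne : b₀⁻¹ * b₁ ∉ T := fun e1 => f.comm y₀ hy₀ b₀ hb₀R hi₀ hj₀ hib₀ hjb₀ (by
        have := conjP h hf hw f hb₀R e1
        rwa [show b₀ * (b₀⁻¹ * b₁) * b₀⁻¹ = y₀ * b₀ * y₀⁻¹ * b₀⁻¹ by rw [hb₁]; group] at this)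
      have h2 := f.two _ (mul_mem (inv_mem hb₀R) hb₁R) _ (mul_mem (inv_mem hb₀R) hr) (hz b₁ hb₁R hib₁ hjb₁).1
        (hz b₁ hb₁R hib₁ hjb₁).2 (hz r hr hir hjr).1 (hz r hr hir hjr).2 hne e
      rwa [show (b₀⁻¹ * b₁)⁻¹ * (b₀⁻¹ * r) = b₁⁻¹ * r by group] at h2
  have hinv : ∀ g ∈ (S : Subgroup G), g ∉ R → ∀ r ∈ R, χ (g * r * g⁻¹) = χ r := by
    intro g hg hgR r hr
    rcases zmod2_cases (j r) with e | e
    · exact (hinvJ g hg hgR r hr e).2
    have hgb : g * b₀ * g⁻¹ * (g * b₀ * g⁻¹) = 1 := by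
      rw [show g * b₀ * g⁻¹ * (g * b₀ * g⁻¹) = g * (b₀ * b₀) * g⁻¹ by group, hp₀2]; group
    have hgbR := hn' g hg b₀ hb₀R
    have hjgb : j (g * b₀ * g⁻¹) = 1 := (hj1 g hg hgR b₀ hb₀R).trans hjb₀
    have higb : i (g * b₀ * g⁻¹) = 0 := by
      have h1 := (f.invol _ hgbR).1 (hgb ▸ one_mem T)
      rwa [hjgb, mul_one] at h1
    have hrb : j (b₀⁻¹ * r) = 0 := by
      rw [f.hj _ (inv_mem hb₀R) r hr, f.hj.inv hb₀R, hjb₀, e, zmod2_add_self]
    have hq := (hinvJ g hg hgR _ (mul_mem (inv_mem hb₀R) hr) hrb).2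
    conv_lhs => rw [show g * r * g⁻¹ = (g * b₀ * g⁻¹) * (g * (b₀⁻¹ * r) * g⁻¹) by group,
      f.hχ _ hgbR _ (hn' g hg _ (mul_mem (inv_mem hb₀R) hr)), hq, hsame _ hgbR hgb higb hjgb]
    rw [← f.hχ b₀ hb₀R _ (mul_mem (inv_mem hb₀R) hr), mul_inv_cancel_left]
  -- inverted elements with vanishing second coordinate
  have hzero : ∀ g ∈ (S : Subgroup G), g ∉ R → g * g = 1 → ∀ w ∈ R, j w = 0 → g * w * g⁻¹ = w⁻¹ → χ w = 0 := by
    intro g hg hgR hg2 w hwR hjw hgw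
    obtain ⟨p, hp, p', hp', rfl⟩ := hdec g hg hgR w hwR hjw
    have hgi : g⁻¹ = g := inv_eq_of_mul_eq_one_right hg2
    have hpi := inv_eq_of_mul_eq_one_right (h.sq_T hp)
    have hp'i := inv_eq_of_mul_eq_one_right (h.sq_T hp')
    have hu : g * (p * p') * g⁻¹ = p * p' := by
      rw [hgi] at hgw ⊢
      have e1 : g * (g * p' * g * p) * g = p' * (g * p * g) := by
        calc g * (g * p' * g * p) * g = (g * g) * p' * g * p * g := by group
          _ = p' * (g * p * g) := by rw [hg2]; group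
      have e2 : (g * p' * g * p)⁻¹ = p * (g * p' * g) := by
        simp only [mul_inv_rev, hgi, hpi, hp'i, mul_assoc]
      rw [e1, e2] at hgw
      calc g * (p * p') * g = g * (p' * p) * g := by rw [h.T_comm hp hp']
        _ = (g * p' * g) * (g * p * g) := by
            symm
            calc g * p' * g * (g * p * g) = g * p' * (g * g) * p * g := by group
              _ = g * (p' * p) * g := by rw [hg2]; group
        _ = (p * p) * (g * p' * g) * (g * p * g) := by rw [h.sq_T hp, one_mul]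
        _ = p * (p' * (g * p * g)) * (g * p * g) := by rw [hgw]; group
        _ = p * p' * (g * (p * ((g * g) * p)) * g) := by group
        _ = p * p' := by rw [hg2, one_mul, h.sq_T hp, mul_one, hg2, mul_one]
    have hd : p * p' ∈ D := by
      rcases h.T_cases (mul_mem hp hp') with hd | ⟨u, huD, e⟩
      · exact hd
      · exfalso
        rw [e] at hu
        exact hAT _ ((hswap g hg hgR).1 u huD) (by rw [hu]; exact mul_mem h.tT (h.DT huD))
    obtain ⟨b1, -, b3⟩ := hTgen g hg hgR p' hp'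
    rw [f.hχ _ b1 p (f.PR hp), b3, ← f.hχ p' (f.PR hp') p (f.PR hp), h.T_comm hp' hp]
    exact f.χW _ hd
  -- choose the character, extend it and transfer
  obtain ⟨χ', hχ', hχ'T, hinv', g, ε, hg, hgR, hε, hεout⟩ : ∃ χ' : G → ZMod 2, IsChar R χ' ∧
      (∀ y ∈ R, IsConj t y → χ' y = 1) ∧
      (∀ g ∈ (S : Subgroup G), g ∉ R → ∀ r ∈ R, χ' (g * r * g⁻¹) = χ' r) ∧
      ∃ (g : G) (ε : ZMod 4), g ∈ (S : Subgroup G) ∧ g ∉ R ∧ ε + ε = up4 (χ' (g * g)) ∧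
        ∀ y ∈ (S : Subgroup G), y ∉ R → IsConj t y → ε + up4 (χ' (g⁻¹ * y)) = 2 := by
    by_cases hex : ∃ y ∈ (S : Subgroup G), y ∉ R ∧ IsConj t y
    · obtain ⟨y₁, hy₁, hy₁R, hy₁c⟩ := hex
      have hy₁2 := invol_mul_self (conj_invol h.ord hy₁c)
      have hy₁i : y₁⁻¹ = y₁ := inv_eq_of_mul_eq_one_right hy₁2
      have hin : ∀ y ∈ (S : Subgroup G), y ∉ R → y₁⁻¹ * y ∈ R := fun y hy hyR =>
        (Subgroup.mul_mem_iff_of_index_two (show (R.subgroupOf (S : Subgroup G)).index = 2 from hidx)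
          (a := ⟨y₁⁻¹, inv_mem hy₁⟩) (b := ⟨y, hy⟩)).2
          (iff_of_false (fun e => hy₁R (inv_inv y₁ ▸ inv_mem (show y₁⁻¹ ∈ R from e))) hyR)
      have hpair : ∀ a b : G, a * a = 1 → b * b = 1 → a * (a⁻¹ * b) * a⁻¹ = (a⁻¹ * b)⁻¹ := by
        intro a b ha hb
        rw [mul_inv_rev, inv_inv, inv_eq_of_mul_eq_one_right ha, inv_eq_of_mul_eq_one_right hb]
        calc a * (a * b) * a = (a * a) * b * a := by group
          _ = b * a := by rw [ha, one_mul]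
      obtain ⟨β, hβ⟩ : ∃ β : ZMod 2, ∀ y ∈ (S : Subgroup G), y ∉ R → IsConj t y →
          χ (y₁⁻¹ * y) + β * j (y₁⁻¹ * y) = 0 := by
        by_cases hw0 : ∃ y ∈ (S : Subgroup G), y ∉ R ∧ IsConj t y ∧ j (y₁⁻¹ * y) = 1
        · obtain ⟨y₂, hy₂, hy₂R, hy₂c, hj₂⟩ := hw0
          refine ⟨χ (y₁⁻¹ * y₂), fun y hy hyR hyc => ?_⟩
          have hyR' := hin y hy hyR
          rcases zmod2_cases (j (y₁⁻¹ * y)) with e | e
          · rw [e, mul_zero, add_zero]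
            exact hzero y₁ hy₁ hy₁R hy₁2 _ hyR' e (hpair _ _ hy₁2 (invol_mul_self (conj_invol h.ord hyc)))
          · have hy₂R' := hin y₂ hy₂ hy₂R
            have hd : y₂⁻¹ * y = (y₁⁻¹ * y₂)⁻¹ * (y₁⁻¹ * y) := by group
            have h0 : χ (y₂⁻¹ * y) = 0 := by
              refine hzero y₂ hy₂ hy₂R (invol_mul_self (conj_invol h.ord hy₂c)) _
                (hd ▸ mul_mem (inv_mem hy₂R') hyR') ?_
                (hpair _ _ (invol_mul_self (conj_invol h.ord hy₂c)) (invol_mul_self (conj_invol h.ord hyc)))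
              rw [hd, f.hj _ (inv_mem hy₂R') _ hyR', f.hj.inv hy₂R', hj₂, e, zmod2_add_self]
            rw [hd, f.hχ _ (inv_mem hy₂R') _ hyR', f.hχ.inv hy₂R'] at h0
            rw [e, mul_one, add_comm]
            exact h0
        · push Not at hw0
          refine ⟨0, fun y hy hyR hyc => ?_⟩
          rw [zero_mul, add_zero]
          exact hzero y₁ hy₁ hy₁R hy₁2 _ (hin y hy hyR)
            ((zmod2_cases _).resolve_right (hw0 y hy hyR hyc)) (hpair _ _ hy₁2 (invol_mul_self (conj_invol h.ord hyc)))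
      refine ⟨fun x => χ x + β * j x, f.hχ.add (f.hj.smul β), fun y hy hc => ?_, fun g hg hgR r hr => ?_,
        y₁, 2, hy₁, hy₁R, ?_, fun y hy hyR hyc => ?_⟩
      · show χ y + β * j y = 1
        rw [hχ1 y hy hc]
        rcases hone y hy hc with e | e
        · rw [f.jP y e, mul_zero, add_zero]
        · rw [e.2.2.2, mul_zero, add_zero]
      · show χ (g * r * g⁻¹) + β * j (g * r * g⁻¹) = χ r + β * j r
        rw [hinv g hg hgR r hr, hj1 g hg hgR r hr]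
      · show (2 : ZMod 4) + 2 = up4 (χ (y₁ * y₁) + β * j (y₁ * y₁))
        rw [hy₁2, f.hχ.one, f.hj.one, mul_zero, add_zero, up4_zero, two_add_two4]
      · show (2 : ZMod 4) + up4 (χ (y₁⁻¹ * y) + β * j (y₁⁻¹ * y)) = 2
        rw [hβ y hy hyR hyc, up4_zero, add_zero]
    · push Not at hex
      obtain ⟨g, hg, hgR⟩ := SetLike.exists_of_lt (lt_of_le_of_ne hRS (fun e => by
        rw [e, Subgroup.relIndex_self] at hidx; omega))
      obtain ⟨ε, hε⟩ : ∃ ε : ZMod 4, ε + ε = up4 (χ (g * g)) := by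
        rcases zmod2_cases (χ (g * g)) with e | e
        · exact ⟨0, by rw [e, up4_zero, add_zero]⟩
        · exact ⟨1, by rw [e, up4_one, one_add_one4]⟩
      exact ⟨χ, f.hχ, hχ1, hinv, g, ε, hg, hgR, hε, fun y hy hyR hyc => absurd hyc (hex y hy hyR)⟩
  obtain ⟨ψ, hψ⟩ := exists_ext hidx hRS hχ' hg hgR (hinv' g hg hgR) ε hε
  refine no_const_transfer hna S ψ h.ord (Multiplicative.ofAdd (2 : ZMod 4)) two_ne4
    (by rw [← ofAdd_add, two_add_two4, ofAdd_zero]) (fun y hy hc => ?_) ?_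
  · by_cases hyR : y ∈ R
    · rw [(hψ ⟨y, hy⟩).1 hyR, hχ'T y hyR hc, up4_one]
    · rw [(hψ ⟨y, hy⟩).2 hyR, hεout y hy hyR hc]
  · rw [Nat.odd_iff, fix_parity h.ord, ← Nat.odd_iff]
    exact Nat.not_even_iff_odd.1 fun e => S.not_dvd_index (even_iff_two_dvd.1 e)

omit f in
/-- The exponent two case. -/
theorem small_false [IsSimpleGroup G] (hna : ¬ IsMulCommutative G) (f₀ : Frame t T D R i j χ) : False := by
  classical
  haveI : Fact (Nat.Prime 2) := ⟨Nat.prime_two⟩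
  obtain ⟨χ', f, hχ1⟩ := adjust h hf hw hn hrig f₀
  obtain ⟨S, hRS⟩ := f.syl.isPGroup.exists_le_sylow
  have ht : t ∈ R := f.PR h.tT
  by_cases hSR : (S : Subgroup G) = R
  · exact char_false hna S h.ord (hRS ht) (hSR ▸ f.hχ) fun y hy hc => hχ1 y (hSR ▸ hy) hc
  obtain ⟨k, hk⟩ : ∃ k, R.relIndex (S : Subgroup G) = 2 ^ (k + 1) := by
    obtain ⟨a, ha⟩ := IsPGroup.iff_card.1 S.isPGroup'
    obtain ⟨b, -, hb⟩ := (Nat.dvd_prime_pow Nat.prime_two).1 (ha ▸ Subgroup.relIndex_dvd_card R (S : Subgroup G))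
    rcases b with _ | b
    · exact absurd (le_antisymm (Subgroup.relIndex_eq_one.1 (by rw [hb, pow_zero])) hRS) hSR
    · exact ⟨b, hb⟩
  have hindex := Subgroup.relIndex_mul_index hRS
  have hev : 2 ∣ R.index := by rw [← hindex, hk, pow_succ']; exact Dvd.dvd.mul_right (dvd_mul_right 2 _) _
  set fix := Nat.card {q : G ⧸ R // t • q = q} with hfix
  have hfev : fix % 2 = 0 := by
    rw [hfix, fix_parity h.ord]
    exact Nat.mod_eq_zero_of_dvd hev
  obtain ⟨o, ho, hoc⟩ := h.toCent.card_C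
  have hcount := fix_count t R
  have hD8 := card_D8 h hf hw hn hrig f
  rw [hoc, f.card, h.toCent.card_T, hD8] at hcount
  set Cl : Set G := {y | IsConj t y ∧ y ∈ R}
  have hCl : Nat.card {y : G // IsConj t y ∧ y ∈ R} = Cl.ncard := Nat.card_coe_set_eq Cl
  rw [hCl] at hcount
  set tD : Set G := (fun u => t * u) '' (D : Set G) with htD
  have h8 : tD.ncard = 8 := card_tD h hf hw hn hrig
  have htDCl : tD ⊆ Cl := fun y hy => ⟨(tD_conj h hf hw hn hrig hy).1, f.PR (tD_conj h hf hw hn hrig hy).2⟩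
  have hoo : ¬ 2 ∣ o := fun e => Nat.not_even_iff_odd.2 ho (even_iff_two_dvd.2 e)
  have hdisj : ∀ i' j' : G → ZMod 2, Frame t T D R i' j' χ' → Disjoint tD (kindA R i' j') := fun i' j' f' =>
    Set.disjoint_left.2 fun y hy hk => notT_of_i h hf hw hn hrig f' hk.2.2.1 (tD_conj h hf hw hn hrig hy).2
  have hsubA : ∀ i' j' : G → ZMod 2, Frame t T D R i' j' χ' → ∀ y₀ ∈ R, IsConj t y₀ → i' y₀ = 1 → j' y₀ = 0 →
      kindA R i' j' ⊆ Cl := fun i' j' f' y₀ hy₀ hc a b r hr => by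
    obtain ⟨s, -, e⟩ := (kind_facts h hf hw hn hrig f' hy₀ hc a b).1 r hr
    exact ⟨e ▸ (conj_iff s).2 hc, hr.1⟩
  have hmemCl : ∀ y ∈ Cl, y ∈ tD ∨ y ∈ kindA R i j ∨ y ∈ kindA R j i := by
    rintro y ⟨hc, hy⟩
    rcases class_cases h hf hw hn hrig f hy hc with e | ⟨a, b⟩ | ⟨a, b⟩
    · exact Or.inl (mem_tD h hf hw hn hrig e hc)
    · exact Or.inr (Or.inl ⟨hy, invol_mul_self (conj_invol h.ord hc), a, b⟩)
    · exact Or.inr (Or.inr ⟨hy, invol_mul_self (conj_invol h.ord hc), b, a⟩)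
  -- one kind is impossible
  have hfinish : ∀ (i' j' : G → ZMod 2), Frame t T D R i' j' χ' → ∀ y₀ ∈ R, IsConj t y₀ → i' y₀ = 1 →
      j' y₀ = 0 → (∀ y ∈ Cl, y ∈ tD ∨ y ∈ kindA R i' j') → False := by
    intro i' j' f' y₀ hy₀ hc a b hsub
    have heq : Cl = tD ∪ kindA R i' j' :=
      Set.Subset.antisymm hsub (Set.union_subset htDCl (hsubA i' j' f' y₀ hy₀ hc a b))
    have h16 : Cl.ncard = 16 := by
      rw [heq, Set.ncard_union_eq (hdisj i' j' f') (Set.toFinite _) (Set.toFinite _), h8,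
        (kind_facts h hf hw hn hrig f' hy₀ hc a b).2]
    rw [h16] at hcount
    have hfo : fix = 2 * o := by rw [hfix]; omega
    by_cases h4 : 4 ∣ R.index
    · exact no_odd_perm hna (x := t) h.toCent.tt R h4 (by rw [← hfix]; omega)
    have hk0 : k = 0 := by
      by_contra hk0
      refine h4 ?_
      rw [← hindex, hk]
      exact Dvd.dvd.mul_right ((show (4 : ℕ) = 2 ^ 2 by rfl) ▸ pow_dvd_pow 2 (by omega)) _
    refine one_kind_false h hf hw hn hrig f' hna hχ1 hy₀ hc a b (fun y hy hcy => ?_) S hRS (by rw [hk, hk0]; rfl)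
    rcases hsub y ⟨hcy, hy⟩ with e | e
    · exact Or.inl (tD_conj h hf hw hn hrig e).2
    · exact Or.inr e
  by_cases hA : ∃ y ∈ R, IsConj t y ∧ i y = 1 ∧ j y = 0
  all_goals by_cases hB : ∃ y ∈ R, IsConj t y ∧ j y = 1 ∧ i y = 0
  · obtain ⟨a, ha, hac, a1, a0⟩ := hA
    obtain ⟨b, hb, hbc, b1, b0⟩ := hB
    have heq : Cl = (tD ∪ kindA R i j) ∪ kindA R j i := by
      refine Set.Subset.antisymm (fun y hy => ?_) ?_
      · rcases hmemCl y hy with e | e | e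
        exacts [Or.inl (Or.inl e), Or.inl (Or.inr e), Or.inr e]
      · exact Set.union_subset (Set.union_subset htDCl (hsubA i j f a ha hac a1 a0))
          (hsubA j i f.swap b hb hbc b1 b0)
    have hd2 : Disjoint (tD ∪ kindA R i j) (kindA R j i) :=
      Set.disjoint_union_left.2 ⟨hdisj j i f.swap, Set.disjoint_left.2 fun y hy hk =>
        zero_ne_one (hy.2.2.2.symm.trans hk.2.2.1)⟩
    have h24 : Cl.ncard = 24 := by
      rw [heq, Set.ncard_union_eq hd2 (Set.toFinite _) (Set.toFinite _),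
        Set.ncard_union_eq (hdisj i j f) (Set.toFinite _) (Set.toFinite _), h8,
        (kind_facts h hf hw hn hrig f ha hac a1 a0).2, (kind_facts h hf hw hn hrig f.swap hb hbc b1 b0).2]
    rw [h24] at hcount
    omega
  · obtain ⟨a, ha, hac, a1, a0⟩ := hA
    refine hfinish i j f a ha hac a1 a0 fun y hy => ?_
    rcases hmemCl y hy with e | e | e
    · exact Or.inl e
    · exact Or.inr e
    · exact absurd ⟨y, hy.2, hy.1, e.2.2.1, e.2.2.2⟩ hB
  · obtain ⟨b, hb, hbc, b1, b0⟩ := hB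
    refine hfinish j i f.swap b hb hbc b1 b0 fun y hy => ?_
    rcases hmemCl y hy with e | e | e
    · exact Or.inl e
    · exact absurd ⟨y, hy.2, hy.1, e.2.2.1, e.2.2.2⟩ hA
    · exact Or.inr e
  · have heq : Cl = tD := Set.Subset.antisymm (fun y hy => by
      rcases hmemCl y hy with e | e | e
      · exact e
      · exact absurd ⟨y, hy.2, hy.1, e.2.2.1, e.2.2.2⟩ hA
      · exact absurd ⟨y, hy.2, hy.1, e.2.2.1, e.2.2.2⟩ hB) htDCl
    rw [heq, h8] at hcount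
    omega

end Frame

end Cfsg.Agent.Fusion.L2Cent
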