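import Cfsg.Agent.Lib.Fusion.L2Cent.Tower

/-!
# A two-group inducing a Sylow subgroup of the automorphism group of a group of order eight

Coordinates along an invariant flag, and a character separating `t` from `W`.
-/

set_option autoImplicit false
set_option linter.style.haveILetI false
set_option linter.unusedSectionVars false

namespace Cfsg.Agent.Fusion.L2Cent

universe u

variable {G : Type u} [Group G]

/-- `R / P` is dihedral of order eight with coordinates `i`, `j` and acts freely on the classes. -/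
structure Frame (t : G) (P W R : Subgroup G) (i j χ : G → ZMod 2) : Prop where
  syl : SylIn 2 R (Subgroup.normalizer (P : Set G))
  PR : P ≤ R
  card : Nat.card R = 8 * Nat.card P
  free : ∀ x ∈ R, ∀ w ∈ W, x * (t * w) * x⁻¹ = t * w → x ∈ P
  hi : IsChar R i
  hj : IsChar R j
  hχ : IsChar R χ
  iP : ∀ x ∈ P, i x = 0
  jP : ∀ x ∈ P, j x = 0
  χt : χ t = 1
  χW : ∀ w ∈ W, χ w = 0
  centre : ∃ c ∈ R, c ∉ P ∧ i c = 0 ∧ j c = 0
  two : ∀ r ∈ R, ∀ r' ∈ R, i r = 0 → j r = 0 → i r' = 0 → j r' = 0 → r ∉ P → r' ∉ P → r⁻¹ * r' ∈ P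
  invol : ∀ r ∈ R, r * r ∈ P ↔ i r * j r = 0
  surj : ∀ a b : ZMod 2, ∃ r ∈ R, i r = a ∧ j r = b
  comm : ∀ r ∈ R, ∀ s ∈ R, i r = 1 → j r = 0 → i s = 0 → j s = 1 → r * s * r⁻¹ * s⁻¹ ∉ P

theorem Frame.swap {t : G} {P W R : Subgroup G} {i j χ : G → ZMod 2} (h : Frame t P W R i j χ) :
    Frame t P W R j i χ where
  syl := h.syl
  PR := h.PR
  card := h.card
  free := h.free
  hi := h.hj
  hj := h.hi
  hχ := h.hχ
  iP := h.jP
  jP := h.iP
  χt := h.χt
  χW := h.χW
  centre := let ⟨c, hc, hcP, a, b⟩ := h.centre; ⟨c, hc, hcP, b, a⟩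
  two := fun r hr r' hr' a b a' b' => h.two r hr r' hr' b a b' a'
  invol := fun r hr => by rw [mul_comm (j r)]; exact h.invol r hr
  surj := fun a b => let ⟨r, hr, e, e'⟩ := h.surj b a; ⟨r, hr, e', e⟩
  comm := fun r hr s hs a b a' b' e => h.comm s hs r hr b' a' b a (by
    rw [show s * r * s⁻¹ * r⁻¹ = (r * s * r⁻¹ * s⁻¹)⁻¹ by group]; exact inv_mem e)

/-- An element to the power of a bit. -/
def pe (v : G) (a : ZMod 2) : G := if a = 0 then 1 else v

theorem pe_add {v : G} (hv : v * v = 1) (a b : ZMod 2) : pe v (a + b) = pe v a * pe v b := by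
  rcases zmod2_cases a with rfl | rfl <;> rcases zmod2_cases b with rfl | rfl <;>
    simp [pe, hv, zmod2_add_self]

theorem zmod2_eq : ∀ c d : ZMod 2, c + d = 0 → c = d := by decide

theorem zmod2_sqk : ∀ a b : ZMod 2, 0 = a + (b + a) → b = 0 := by decide

theorem zmod2_mul_one : ∀ a b : ZMod 2, a * b = 1 → a = 1 ∧ b = 1 := by decide

theorem zmod2_one_mul_one : (1 : ZMod 2) * 1 ≠ 0 := by decide

theorem zmod2_cube : ∀ a : ZMod 2, a + (1 * 1 + a) + (0 * 1 + a) = a + 1 := by decide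

theorem zmod2_succ : ∀ a b : ZMod 2, a = b ∨ a = b + 1 := by decide

theorem zmod2_zero_ne : (0 : ZMod 2) ≠ 1 := by decide

theorem zmod2_comm : ∀ p q : ZMod 2, p + (1 * 1 + q) ≠ q + (0 * 0 + p) := by decide

variable [Finite G] {t σ : G} {T D P W : Subgroup G} {n m : ℕ}

namespace Tow

variable (h : ECent t T D n σ) (hf : Fused t T D) (hw : Tow t σ D m P W)
include h hf hw

theorem exists_frame (hn : n = 3)
    (hrig : ∀ g ∈ Subgroup.normalizer (P : Set G), Triv D g → dlt t m g = 1)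
    (h8 : ∀ R : Subgroup G, P ≤ R → SylIn 2 R (Subgroup.normalizer (P : Set G)) →
      Nat.card R = 8 * Nat.card P) :
    ∃ R i j χ, Frame t P W R i j χ := by
  classical
  haveI : Fact (Nat.Prime 2) := ⟨Nat.prime_two⟩
  obtain ⟨R, hR, hPR⟩ := Fusion.exists_sylIn_ge (p := 2) hw.pg (P_le_norm h hf hw)
  have hcard := h8 R hPR hR
  have hRN : ∀ r ∈ R, r ∈ Subgroup.normalizer (P : Set G) := fun r hr => hR.le hr
  have hD8 : Nat.card ↥D = 8 := by rw [h.card, hn]; rfl
  have htriv : ∀ r ∈ R, Triv D r → r ∈ P := fun r hr ht' =>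
    mem_P_of_stab h hf hw hR.isPGroup hPR hr (hRN r hr) (hrig r (hRN r hr) ht')
  have hPn : ∀ r ∈ R, ∀ p ∈ P, r * p * r⁻¹ ∈ P := fun r hr p hp =>
    (Subgroup.mem_normalizer_iff.1 (hRN r hr) p).1 hp
  have hnd : ∀ r ∈ R, ∀ u ∈ D, r * u * r⁻¹ ∈ D := fun r hr u hu => normD h hf hw (hRN r hr) hu
  -- the classes
  have hsame : ∀ r ∈ R, ∀ s ∈ R, dlt t m r = dlt t m s → r⁻¹ * s ∈ P := fun r hr s hs e =>
    mem_P_of_stab h hf hw hR.isPGroup hPR (mul_mem (inv_mem hr) hs) (hRN _ (mul_mem (inv_mem hr) hs)) (by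
      rw [dlt_mul h hf hw (inv_mem (hRN r hr)) (hRN s hs), ← e,
        ← dlt_mul h hf hw (inv_mem (hRN r hr)) (hRN r hr), inv_mul_cancel,
        dlt_comm h hf hw (c := (1 : G)) (by simp)])
  have hsurj : ∀ u ∈ D, ∃ r ∈ R, dlt t m r = u := by
    by_contra! hne
    obtain ⟨u₀, hu₀, hu₀r⟩ := hne
    let f : ↥R → {u : ↥D // u ≠ ⟨u₀, hu₀⟩} := fun r =>
      ⟨⟨dlt t m r.1, dlt_mem h hf hw (hRN _ r.2)⟩, fun e => hu₀r r.1 r.2 (congrArg Subtype.val e)⟩
    let s : {u : ↥D // u ≠ ⟨u₀, hu₀⟩} → G := fun u =>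
      if hu : ∃ r : ↥R, f r = u then hu.choose.1 else 1
    have hs : ∀ r : ↥R, (s (f r))⁻¹ * r.1 ∈ P := fun r => by
      have hu : ∃ r' : ↥R, f r' = f r := ⟨r, rfl⟩
      simp only [s, dif_pos hu]
      exact hsame _ hu.choose.2 _ r.2 (congrArg (fun u => (u.1 : G)) hu.choose_spec)
    have hle := Nat.card_le_card_of_injective (fun r : ↥R => (f r, (⟨_, hs r⟩ : ↥P))) (fun a b e => by
      have e1 : f a = f b := congrArg Prod.fst e
      have e2 : (s (f a))⁻¹ * a.1 = (s (f b))⁻¹ * b.1 :=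
        congrArg (fun p : {u : ↥D // u ≠ ⟨u₀, hu₀⟩} × ↥P => (p.2 : G)) e
      rw [e1] at e2
      exact Subtype.ext (mul_left_cancel e2))
    have h7 : Nat.card {u : ↥D // u ≠ ⟨u₀, hu₀⟩} = 7 := by
      show Nat.card ↥{u : ↥D | u ≠ ⟨u₀, hu₀⟩} = 7
      rw [Nat.card_coe_set_eq, show {u : ↥D | u ≠ ⟨u₀, hu₀⟩} = Set.univ \ {⟨u₀, hu₀⟩} by ext x; simp,
        Set.ncard_sdiff_singleton_of_mem (Set.mem_univ _), Set.ncard_univ, hD8]
    rw [Nat.card_prod, hcard, h7] at hle
    have := Nat.card_pos (α := ↥P)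
    omega
  have hfree : ∀ x ∈ R, ∀ w ∈ W, x * (t * w) * x⁻¹ = t * w → x ∈ P := by
    intro x hx w hwW hfix
    obtain ⟨r, hr, hru⟩ := hsurj _ (pw_mem h hf hw hwW)
    have h1 : dlt t m x * (x * w ^ 2 ^ (m - 1) * x⁻¹) = w ^ 2 ^ (m - 1) := by
      unfold dlt
      rw [← conj_pow, ← pw_mul h hf hw (wg h hf hw (hRN x hx)) (normW h hf hw (hRN x hx) hwW),
        show t * (x * t * x⁻¹) * (x * w * x⁻¹) = t * (x * (t * w) * x⁻¹) by group, hfix, ← mul_assoc,
        h.toCent.tt, one_mul]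
    rw [← hru, ← dlt_mul h hf hw (hRN x hx) (hRN r hr)] at h1
    have h2 := hPn r hr _ (hsame r hr _ (mul_mem hx hr) h1.symm)
    rwa [show r * (r⁻¹ * (x * r)) * r⁻¹ = x by group] at h2
  -- the flag
  letI : MulAction ↥R ↥D :=
    { smul := fun r u => ⟨r.1 * u.1 * r.1⁻¹, hnd _ r.2 _ u.2⟩
      one_smul := fun u => Subtype.ext (show ((1 : ↥R) : G) * u.1 * ((1 : ↥R) : G)⁻¹ = u.1 by simp)
      mul_smul := fun a b u => Subtype.ext (show ((a * b : ↥R) : G) * u.1 * ((a * b : ↥R) : G)⁻¹ =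
          a.1 * (b.1 * u.1 * b.1⁻¹) * a.1⁻¹ by rw [Subgroup.coe_mul]; group) }
  have hsm : ∀ (r : ↥R) (u : ↥D), ((r • u : ↥D) : G) = r.1 * u.1 * r.1⁻¹ := fun r u => rfl
  obtain ⟨zD, hzfix, hz1'⟩ := hR.isPGroup.exists_fixed_point_of_prime_dvd_card_of_fixed_point ↥D
    (show 2 ∣ Nat.card ↥D by omega)
    (show (1 : ↥D) ∈ MulAction.fixedPoints ↥R ↥D from fun r => Subtype.ext (by rw [hsm]; simp))
  obtain ⟨z, hz⟩ := zD
  have hz1 : z ≠ 1 := fun e => hz1' (Subtype.ext e.symm)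
  have hzr : ∀ r ∈ R, r * z * r⁻¹ = z := fun r hr => congrArg Subtype.val (hzfix ⟨r, hr⟩)
  have hzz := h.sq z hz
  obtain ⟨y, hy, hy1, hyz, hyr⟩ : ∃ y ∈ D, y ≠ 1 ∧ y ≠ z ∧
      ∀ r ∈ R, r * y * r⁻¹ = y ∨ r * y * r⁻¹ = y * z := by
    have hsix : Set.ncard ((D : Set G) \ {1, z}) = 6 := by
      rw [Set.ncard_sdiff (by rintro x (rfl | rfl); exacts [one_mem D, hz]) (Set.toFinite _),
        Set.ncard_pair hz1.symm, ← Nat.card_coe_set_eq, SetLike.coe_sort_coe, hD8]
    let O : G → Set G := fun a => {x | ∃ r ∈ R, r * a * r⁻¹ = x}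
    have hOsub : ∀ a ∈ (D : Set G) \ {1, z}, O a ⊆ (D : Set G) \ {1, z} := by
      rintro a ⟨ha, hane⟩ _ ⟨r, hr, rfl⟩
      refine ⟨hnd r hr a ha, ?_⟩
      rintro (e | e)
      · exact hane (Or.inl (conj_eq_one_iff.1 e))
      · refine hane (Or.inr ?_)
        calc a = r⁻¹ * (r * a * r⁻¹) * r := by group
          _ = r⁻¹ * z * r⁻¹⁻¹ := by rw [e, inv_inv]
          _ = z := hzr _ (inv_mem hr)
    have hOpow : ∀ a ∈ D, ∃ k, (O a).ncard = 2 ^ k := by
      intro a ha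
      have he : O a = Subtype.val '' MulAction.orbit ↥R (⟨a, ha⟩ : ↥D) := by
        ext x
        constructor
        · rintro ⟨r, hr, rfl⟩
          exact ⟨(⟨r, hr⟩ : ↥R) • (⟨a, ha⟩ : ↥D), ⟨⟨r, hr⟩, rfl⟩, rfl⟩
        · rintro ⟨_, ⟨r, rfl⟩, rfl⟩
          exact ⟨r.1, r.2, rfl⟩
      rw [he, Set.ncard_image_of_injective _ Subtype.val_injective, ← MulAction.index_stabilizer]
      exact hR.isPGroup.index _
    obtain ⟨a, ha, hO2⟩ : ∃ a ∈ (D : Set G) \ {1, z}, (O a).ncard ≤ 2 := by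
      obtain ⟨a, ha⟩ : ((D : Set G) \ {1, z}).Nonempty := Set.nonempty_of_ncard_ne_zero (by omega)
      by_cases hle : (O a).ncard ≤ 2
      · exact ⟨a, ha, hle⟩
      obtain ⟨k, hk⟩ := hOpow a ha.1
      have h6 : (O a).ncard ≤ 6 := hsix ▸ Set.ncard_le_ncard (hOsub a ha) (Set.toFinite _)
      have h4 : (O a).ncard = 4 := by
        have hk3 : k < 3 := by
          by_contra hc
          have : 2 ^ 3 ≤ 2 ^ k := Nat.pow_le_pow_right two_pos (by omega)
          omega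
        interval_cases k <;> omega
      obtain ⟨b, hb, hbO⟩ : ∃ b ∈ (D : Set G) \ {1, z}, b ∉ O a := by
        by_contra! hall
        have := Set.ncard_le_ncard hall (Set.toFinite _)
        omega
      refine ⟨b, hb, ?_⟩
      have hsub : O b ⊆ ((D : Set G) \ {1, z}) \ O a := by
        rintro _ ⟨r, hr, rfl⟩
        refine ⟨hOsub b hb ⟨r, hr, rfl⟩, ?_⟩
        rintro ⟨s, hs, e⟩
        refine hbO ⟨r⁻¹ * s, mul_mem (inv_mem hr) hs, ?_⟩
        calc r⁻¹ * s * a * (r⁻¹ * s)⁻¹ = r⁻¹ * (s * a * s⁻¹) * r := by group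
          _ = b := by rw [e]; group
      have := Set.ncard_le_ncard hsub (Set.toFinite _)
      rw [Set.ncard_sdiff (hOsub a ha) (Set.toFinite _), hsix, h4] at this
      exact this
    have haO : a ∈ O a := ⟨1, one_mem R, by simp⟩
    have hab : ∀ b ∈ O a, b ≠ a → ∀ r ∈ R, r * (a * b) * r⁻¹ = a * b := by
      intro b hb hba r hr
      have hO : O a = {a, b} := (Set.eq_of_subset_of_ncard_le
        (by rintro x (rfl | rfl); exacts [haO, hb]) (by rw [Set.ncard_pair hba.symm]; exact hO2)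
        (Set.toFinite _)).symm
      have hba' : b * a = a * b := h.comm_D (hOsub a ha hb).1 ha.1
      have e : ∀ x ∈ O a, r * x * r⁻¹ = a ∨ r * x * r⁻¹ = b := by
        rintro _ ⟨s, hs, rfl⟩
        have h1 : r * (s * a * s⁻¹) * r⁻¹ ∈ O a := ⟨r * s, mul_mem hr hs, by group⟩
        rwa [hO] at h1
      rw [show r * (a * b) * r⁻¹ = (r * a * r⁻¹) * (r * b * r⁻¹) by group]
      rcases e a haO with e1 | e1 <;> rcases e b hb with e2 | e2
      · exact absurd (mul_left_cancel (mul_right_cancel (e1.trans e2.symm))).symm hba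
      · rw [e1, e2]
      · rw [e1, e2, hba']
      · exact absurd (mul_left_cancel (mul_right_cancel (e1.trans e2.symm))).symm hba
    by_cases hz' : ∀ r ∈ R, r * a * r⁻¹ = a ∨ r * a * r⁻¹ = a * z
    · exact ⟨a, ha.1, fun e => ha.2 (Or.inl e), fun e => ha.2 (Or.inr e), hz'⟩
    push Not at hz'
    obtain ⟨r, hr, hne1, hne2⟩ := hz'
    set b := r * a * r⁻¹ with hb
    have hbD : b ∈ D := hnd r hr a ha.1
    refine ⟨a * b, mul_mem ha.1 hbD, fun e => hne1 ?_, fun e => hne2 ?_,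
      fun s hs => Or.inl (hab b ⟨r, hr, rfl⟩ hne1 s hs)⟩
    · rw [← inv_eq_of_mul_eq_one_right e, h.inv_D ha.1]
    · rw [← e, ← mul_assoc, h.sq a ha.1, one_mul]
  have hyy := h.sq y hy
  have hyzD : y * z ≠ 1 := fun e => hyz (by rw [← inv_eq_of_mul_eq_one_left e, h.inv_D hz])
  have huniq : ∀ a b : ZMod 2, pe y a * pe z b = 1 → a = 0 ∧ b = 0 := by
    intro a b e
    rcases zmod2_cases a with rfl | rfl <;> rcases zmod2_cases b with rfl | rfl <;>
      simp [pe] at e ⊢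
    exacts [hz1 e, hy1 e, hyzD e]
  have huniq' : ∀ a b a' b' : ZMod 2, pe y a * pe z b = pe y a' * pe z b' → a = a' ∧ b = b' := by
    intro a b a' b' e
    have hzd : ∀ c, pe z c ∈ D := fun c => by rcases zmod2_cases c with rfl | rfl <;> simp [pe, hz]
    have hyd : ∀ c, pe y c ∈ D := fun c => by rcases zmod2_cases c with rfl | rfl <;> simp [pe, hy]
    have h1 := huniq (a + a') (b + b') (by
      rw [pe_add hyy, pe_add hzz]
      calc pe y a * pe y a' * (pe z b * pe z b') = pe y a * (pe y a' * pe z b) * pe z b' := by group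
        _ = pe y a * (pe z b * pe y a') * pe z b' := by rw [h.comm_D (hyd a') (hzd b)]
        _ = (pe y a * pe z b) * (pe y a' * pe z b') := by group
        _ = (pe y a * pe z b) * (pe y a * pe z b) := by rw [e]
        _ = 1 := h.sq _ (mul_mem (hyd a) (hzd b)))
    exact ⟨zmod2_eq _ _ h1.1, zmod2_eq _ _ h1.2⟩
  have hpD : ∀ a b : ZMod 2, pe y a * pe z b ∈ D := fun a b => by
    rcases zmod2_cases a with rfl | rfl <;> rcases zmod2_cases b with rfl | rfl <;>
      simp [pe, hy, hz, mul_mem hy hz]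
  set pl : Set G := Set.range fun p : ZMod 2 × ZMod 2 => pe y p.1 * pe z p.2 with hpl
  obtain ⟨x, hx, hxpl⟩ : ∃ x ∈ D, x ∉ pl := by
    by_contra! hall
    have h1 := Set.ncard_le_ncard (show (D : Set G) ⊆ pl from hall) (Set.toFinite _)
    rw [← Nat.card_coe_set_eq, SetLike.coe_sort_coe, hD8, hpl, ← Set.image_univ] at h1
    have h2 := Set.ncard_image_le (f := fun p : ZMod 2 × ZMod 2 => pe y p.1 * pe z p.2)
      (s := Set.univ) (Set.toFinite _)
    rw [Set.ncard_univ, Nat.card_prod, Nat.card_zmod] at h2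
    omega
  have hdec : ∀ d ∈ D, d ∈ pl ∨ ∃ a b, d = x * (pe y a * pe z b) := by
    intro d hd
    let f : ZMod 2 × ZMod 2 × ZMod 2 → ↥D := fun p =>
      ⟨pe x p.1 * (pe y p.2.1 * pe z p.2.2), mul_mem (by
        rcases zmod2_cases p.1 with e | e <;> simp [pe, e, hx]) (hpD _ _)⟩
    have hfinj : Function.Injective f := by
      rintro ⟨c, a, b⟩ ⟨c', a', b'⟩ e
      have e' : pe x c * (pe y a * pe z b) = pe x c' * (pe y a' * pe z b') := congrArg Subtype.val e
      have hcc : c = c' := by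
        rcases zmod2_cases c with rfl | rfl <;> rcases zmod2_cases c' with rfl | rfl
        · rfl
        · refine absurd ⟨(a' + a, b' + b), ?_⟩ hxpl
          rw [show pe x 0 = 1 by simp [pe], show pe x 1 = x by simp [pe], one_mul] at e'
          show pe y (a' + a) * pe z (b' + b) = x
          have hc := h.comm_D (hpD a' b') (hpD a b)
          have hyd : ∀ c, pe y c ∈ D := fun c => by rcases zmod2_cases c with rfl | rfl <;> simp [pe, hy]
          have hzd : ∀ c, pe z c ∈ D := fun c => by rcases zmod2_cases c with rfl | rfl <;> simp [pe, hz]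
          rw [pe_add hyy, pe_add hzz]
          calc pe y a' * pe y a * (pe z b' * pe z b) = pe y a' * (pe y a * pe z b') * pe z b := by group
            _ = pe y a' * (pe z b' * pe y a) * pe z b := by rw [h.comm_D (hyd a) (hzd b')]
            _ = (pe y a' * pe z b') * (pe y a * pe z b) := by group
            _ = (pe y a' * pe z b') * (x * (pe y a' * pe z b')) := by rw [show pe y a * pe z b = _ from e']
            _ = x * ((pe y a' * pe z b') * (pe y a' * pe z b')) := by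
                rw [← mul_assoc, h.comm_D (hpD a' b') hx, mul_assoc]
            _ = x := by rw [h.sq _ (hpD a' b'), mul_one]
        · refine absurd ⟨(a + a', b + b'), ?_⟩ hxpl
          rw [show pe x 0 = 1 by simp [pe], show pe x 1 = x by simp [pe], one_mul] at e'
          show pe y (a + a') * pe z (b + b') = x
          have hyd : ∀ c, pe y c ∈ D := fun c => by rcases zmod2_cases c with rfl | rfl <;> simp [pe, hy]
          have hzd : ∀ c, pe z c ∈ D := fun c => by rcases zmod2_cases c with rfl | rfl <;> simp [pe, hz]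
          rw [pe_add hyy, pe_add hzz]
          calc pe y a * pe y a' * (pe z b * pe z b') = pe y a * (pe y a' * pe z b) * pe z b' := by group
            _ = pe y a * (pe z b * pe y a') * pe z b' := by rw [h.comm_D (hyd a') (hzd b)]
            _ = (pe y a * pe z b) * (pe y a' * pe z b') := by group
            _ = (pe y a * pe z b) * (x * (pe y a * pe z b)) := by rw [show pe y a' * pe z b' = _ from e'.symm]
            _ = x * ((pe y a * pe z b) * (pe y a * pe z b)) := by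
                rw [← mul_assoc, h.comm_D (hpD a b) hx, mul_assoc]
            _ = x := by rw [h.sq _ (hpD a b), mul_one]
        · rfl
      subst hcc
      obtain ⟨ha, hb⟩ := huniq' _ _ _ _ (mul_left_cancel e')
      rw [ha, hb]
    obtain ⟨⟨c, a, b⟩, e⟩ := ((Nat.bijective_iff_injective_and_card f).2 ⟨hfinj, by
      rw [Nat.card_prod, Nat.card_prod, Nat.card_zmod, hD8]⟩).2 ⟨d, hd⟩
    have e' : pe x c * (pe y a * pe z b) = d := congrArg Subtype.val e
    rcases zmod2_cases c with rfl | rfl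
    · exact Or.inl ⟨(a, b), by simpa [pe] using e'⟩
    · exact Or.inr ⟨a, b, by simpa [pe] using e'.symm⟩
  -- the coordinates
  have hpez : ∀ r ∈ R, ∀ c, r * pe z c * r⁻¹ = pe z c := fun r hr c => by
    rcases zmod2_cases c with rfl | rfl
    · simp [pe]
    · simpa [pe] using hzr r hr
  have hi₀ : ∀ r, ∃ a : ZMod 2, r ∈ R → r * y * r⁻¹ = y * pe z a := fun r => by
    by_cases hr : r ∈ R
    · rcases hyr r hr with e | e
      · exact ⟨0, fun _ => by simpa [pe] using e⟩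
      · exact ⟨1, fun _ => by simpa [pe] using e⟩
    · exact ⟨0, fun h' => absurd h' hr⟩
  choose i hi using hi₀
  have hpey : ∀ r ∈ R, ∀ c, r * pe y c * r⁻¹ = pe y c * pe z (i r * c) := fun r hr c => by
    rcases zmod2_cases c with rfl | rfl
    · simp [pe]
    · simpa [pe] using hi r hr
  have hj₀ : ∀ r, ∃ p : ZMod 2 × ZMod 2, r ∈ R → r * x * r⁻¹ = x * (pe y p.1 * pe z p.2) := fun r => by
    by_cases hr : r ∈ R
    · rcases hdec _ (hnd r hr x hx) with ⟨⟨a, b⟩, e⟩ | ⟨a, b, e⟩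
      · refine absurd ⟨(a, i r⁻¹ * a + b), ?_⟩ hxpl
        show pe y a * pe z (i r⁻¹ * a + b) = x
        have e0 : pe y a * pe z b = r * x * r⁻¹ := e
        calc pe y a * pe z (i r⁻¹ * a + b)
            = (pe y a * pe z (i r⁻¹ * a)) * (r⁻¹ * pe z b * r⁻¹⁻¹) := by
              rw [pe_add hzz, hpez _ (inv_mem hr), mul_assoc]
          _ = r⁻¹ * (pe y a * pe z b) * r⁻¹⁻¹ := by rw [← hpey _ (inv_mem hr)]; group
          _ = x := by rw [e0]; group
      · exact ⟨(a, b), fun _ => e⟩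
    · exact ⟨(0, 0), fun h' => absurd h' hr⟩
  choose jk hjk using hj₀
  set j := fun r => (jk r).1 with hjdef
  set k := fun r => (jk r).2 with hkdef
  have hjk' : ∀ r ∈ R, r * x * r⁻¹ = x * (pe y (j r) * pe z (k r)) := hjk
  have hichar : IsChar R i := fun r hr s hs => by
    have e : (r * s) * y * (r * s)⁻¹ = y * (pe z (i r) * pe z (i s)) := by
      calc r * s * y * (r * s)⁻¹ = r * (s * y * s⁻¹) * r⁻¹ := by group
        _ = (r * y * r⁻¹) * (r * pe z (i s) * r⁻¹) := by rw [hi s hs]; group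
        _ = _ := by rw [hi r hr, hpez r hr, mul_assoc]
    rw [hi _ (mul_mem hr hs), ← pe_add hzz] at e
    exact (huniq' 0 _ 0 _ (by rw [mul_left_cancel e])).2
  have hjmul : ∀ r ∈ R, ∀ s ∈ R, r * s * x * (r * s)⁻¹ =
      x * (pe y (j r + j s) * pe z (k r + (i r * j s + k s))) := by
    intro r hr s hs
    have hzd : ∀ c, pe z c ∈ D := fun c => by rcases zmod2_cases c with rfl | rfl <;> simp [pe, hz]
    have hyd : ∀ c, pe y c ∈ D := fun c => by rcases zmod2_cases c with rfl | rfl <;> simp [pe, hy]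
    calc r * s * x * (r * s)⁻¹ = r * (s * x * s⁻¹) * r⁻¹ := by group
      _ = (r * x * r⁻¹) * ((r * pe y (j s) * r⁻¹) * (r * pe z (k s) * r⁻¹)) := by rw [hjk' s hs]; group
      _ = x * (pe y (j r) * (pe z (k r) * pe y (j s)) * (pe z (i r * j s) * pe z (k s))) := by
          rw [hjk' r hr, hpey r hr, hpez r hr]; group
      _ = x * ((pe y (j r) * pe y (j s)) * (pe z (k r) * (pe z (i r * j s) * pe z (k s)))) := by
          rw [h.comm_D (hzd _) (hyd _)]; group
      _ = _ := by rw [← pe_add hyy, ← pe_add hzz, ← pe_add hzz]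
  have hjuniq : ∀ r ∈ R, ∀ s ∈ R, j (r * s) = j r + j s ∧ k (r * s) = k r + (i r * j s + k s) :=
    fun r hr s hs => huniq' _ _ _ _ (mul_left_cancel ((hjk' _ (mul_mem hr hs)).symm.trans (hjmul r hr s hs)))
  have hjchar : IsChar R j := fun r hr s hs => (hjuniq r hr s hs).1
  have hkerP : ∀ r ∈ R, i r = 0 → j r = 0 → k r = 0 → r ∈ P := by
    intro r hr e1 e2 e3
    refine htriv r hr fun d hd => ?_
    have hplane : ∀ a b, r * (pe y a * pe z b) * r⁻¹ = pe y a * pe z b := fun a b => by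
      rw [show r * (pe y a * pe z b) * r⁻¹ = (r * pe y a * r⁻¹) * (r * pe z b * r⁻¹) by group, hpey r hr,
        hpez r hr, e1, zero_mul]
      simp [pe]
    rcases hdec d hd with ⟨⟨a, b⟩, rfl⟩ | ⟨a, b, rfl⟩
    · exact hplane a b
    · rw [show r * (x * (pe y a * pe z b)) * r⁻¹ = (r * x * r⁻¹) * (r * (pe y a * pe z b) * r⁻¹) by group,
        hplane, hjk' r hr, e2, e3]
      simp [pe]
  have hP0 : ∀ r ∈ P, i r = 0 ∧ j r = 0 ∧ k r = 0 := by
    intro r hr
    have hrR := hPR hr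
    have a1 := hi r hrR
    rw [triv_P h hf hw hr y hy] at a1
    have a2 := hjk' r hrR
    rw [triv_P h hf hw hr x hx] at a2
    exact ⟨(huniq 0 _ (by simpa [pe] using left_eq_mul.1 a1)).2, huniq _ _ (left_eq_mul.1 a2)⟩
  have hall : ∀ a b c : ZMod 2, ∃ r ∈ R, i r = a ∧ j r = b ∧ k r = c := by
    by_contra! hne
    obtain ⟨a, b, c, habc⟩ := hne
    let f : ↥R → {p : ZMod 2 × ZMod 2 × ZMod 2 // p ≠ (a, b, c)} := fun r =>
      ⟨(i r.1, j r.1, k r.1), fun e => habc r.1 r.2 (congrArg (·.1) e) (congrArg (·.2.1) e) (congrArg (·.2.2) e)⟩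
    have hff : ∀ r s : ↥R, f r = f s → r.1⁻¹ * s.1 ∈ P := by
      intro r s e
      have e' := congrArg Subtype.val e
      have ei : i r.1 = i s.1 := congrArg (·.1) e'
      have ej : j r.1 = j s.1 := congrArg (·.2.1) e'
      have ek : k r.1 = k s.1 := congrArg (·.2.2) e'
      have hr' := inv_mem r.2
      obtain ⟨-, hk1⟩ := hjuniq _ hr' _ r.2
      obtain ⟨-, hk2⟩ := hjuniq _ hr' _ s.2
      rw [inv_mul_cancel, (hP0 1 (one_mem P)).2.2, ej, ek] at hk1
      refine hkerP _ (mul_mem hr' s.2) ?_ ?_ (hk2.trans hk1.symm)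
      · rw [hichar _ hr' _ s.2, hichar.inv r.2, ei, zmod2_add_self]
      · rw [hjchar _ hr' _ s.2, hjchar.inv r.2, ej, zmod2_add_self]
    let s : {p : ZMod 2 × ZMod 2 × ZMod 2 // p ≠ (a, b, c)} → G := fun u =>
      if hu : ∃ r : ↥R, f r = u then hu.choose.1 else 1
    have hs : ∀ r : ↥R, (s (f r))⁻¹ * r.1 ∈ P := fun r => by
      have hu : ∃ r' : ↥R, f r' = f r := ⟨r, rfl⟩
      simp only [s, dif_pos hu]
      exact hff _ _ hu.choose_spec
    have hle := Nat.card_le_card_of_injective (fun r : ↥R => (f r, (⟨_, hs r⟩ : ↥P))) (fun r r' e => by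
      have e1 : f r = f r' := congrArg Prod.fst e
      have e2 : (s (f r))⁻¹ * r.1 = (s (f r'))⁻¹ * r'.1 :=
        congrArg (fun p : {p : ZMod 2 × ZMod 2 × ZMod 2 // p ≠ (a, b, c)} × ↥P => (p.2 : G)) e
      rw [e1] at e2
      exact Subtype.ext (mul_left_cancel e2))
    have h7 : Nat.card {p : ZMod 2 × ZMod 2 × ZMod 2 // p ≠ (a, b, c)} = 7 := by
      show Nat.card ↥{p : ZMod 2 × ZMod 2 × ZMod 2 | p ≠ (a, b, c)} = 7
      rw [Nat.card_coe_set_eq, show {p : ZMod 2 × ZMod 2 × ZMod 2 | p ≠ (a, b, c)} = Set.univ \ {(a, b, c)} by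
          ext p; simp,
        Set.ncard_sdiff_singleton_of_mem (Set.mem_univ _), Set.ncard_univ, Nat.card_prod, Nat.card_prod,
        Nat.card_zmod]
    rw [Nat.card_prod, hcard, h7] at hle
    have := Nat.card_pos (α := ↥P)
    omega
  have hinvol : ∀ r ∈ R, r * r ∈ P ↔ i r * j r = 0 := by
    intro r hr
    have h2 := (hjuniq r hr r hr).2
    constructor
    · intro hp
      rw [(hP0 _ hp).2.2] at h2
      exact zmod2_sqk _ _ h2
    · intro e
      refine hkerP _ (mul_mem hr hr) (hichar.sq hr) (hjchar.sq hr) ?_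
      rw [h2, e, zero_add, zmod2_add_self]
  -- the character
  obtain ⟨v, hv, hvi, hvj, -⟩ := hall 1 1 0
  have hWn : ∀ r ∈ R, ∀ w ∈ W, r * w * r⁻¹ ∈ W := fun r hr w hwW => normW h hf hw (hRN r hr) hwW
  have hpW : ∀ r ∈ R, r * r ∈ P → r * r ∈ W := by
    intro r hr hp
    rcases cases h hf hw hp with hW | ⟨w, hwW, e⟩
    · exact hW
    exfalso
    have hrP := hfree r hr w hwW (by rw [← e]; group)
    exact hw.tW ((mul_mem_cancel_right hwW).1 (e ▸ split_sq h hf hw hrP))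
  have hv4 : v * v * (v * v) ∈ W := by
    refine hpW _ (mul_mem hv hv) ((hinvol _ (mul_mem hv hv)).2 ?_)
    rw [hichar.sq hv, zero_mul]
  let Φ : Subgroup G :=
    { carrier := {g | g ∈ R ∧ (g ∈ W ∨ g * (v * v) ∈ W)}
      one_mem' := ⟨one_mem R, Or.inl (one_mem W)⟩
      mul_mem' := fun {a b} ha hb => ⟨mul_mem ha.1 hb.1, by
        rcases ha.2 with a1 | a1 <;> rcases hb.2 with b1 | b1
        · exact Or.inl (mul_mem a1 b1)
        · exact Or.inr (by rw [mul_assoc]; exact mul_mem a1 b1)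
        · refine Or.inr ?_
          rw [show a * b * (v * v) = (a * (v * v)) * ((v * v)⁻¹ * b * (v * v)⁻¹⁻¹) by simp [mul_assoc]]
          exact mul_mem a1 (hWn _ (inv_mem (mul_mem hv hv)) b b1)
        · refine Or.inl ?_
          rw [show a * b = (a * (v * v)) * ((v * v)⁻¹ * (b * (v * v)) * (v * v)⁻¹⁻¹) * (v * v * (v * v))⁻¹ by group]
          exact mul_mem (mul_mem a1 (hWn _ (inv_mem (mul_mem hv hv)) _ b1)) (inv_mem hv4)⟩
      inv_mem' := fun {a} ha => ⟨inv_mem ha.1, by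
        rcases ha.2 with a1 | a1
        · exact Or.inl (inv_mem a1)
        · refine Or.inr ?_
          rw [show a⁻¹ * (v * v) = ((v * v) * (a * (v * v))⁻¹ * (v * v)⁻¹) * (v * v * (v * v)) by simp [mul_assoc]]
          exact mul_mem (hWn _ (mul_mem hv hv) _ (inv_mem a1)) hv4⟩ }
  have hWΦ : W ≤ Φ := fun w hwW => ⟨hPR (hw.le hwW), Or.inl hwW⟩
  have hv2Φ : v * v ∈ Φ := ⟨mul_mem hv hv, Or.inr hv4⟩
  have htΦ : t ∉ Φ := by
    rintro ⟨-, e | e⟩
    · exact hw.tW e
    · have h1 : v * v ∈ P := (mul_mem_cancel_left hw.tP).1 (hw.le e)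
      have := (hinvol v hv).1 h1
      rw [hvi, hvj] at this
      exact zmod2_one_mul_one this
  have hsqΦ : ∀ r ∈ R, r * r ∈ Φ := by
    intro r hr
    rcases zmod2_cases (i r * j r) with e | e
    · exact hWΦ (hpW r hr ((hinvol r hr).2 e))
    obtain ⟨hi1, hj1⟩ := zmod2_mul_one _ _ e
    -- `r` is `v` or `v ^ 3` modulo `P`
    obtain ⟨w, hwv, hrw⟩ : ∃ w, (w = v ∨ w = v * v * v) ∧ w⁻¹ * r ∈ P := by
      have hv3 : v * v * v ∈ R := mul_mem (mul_mem hv hv) hv
      have hk3 : k (v * v * v) = k v + 1 := by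
        rw [(hjuniq _ (mul_mem hv hv) v hv).2, (hjuniq v hv v hv).2, hichar.sq hv, hvi, hvj]
        exact zmod2_cube _
      have hmem : ∀ w ∈ R, i w = 1 → j w = 1 → k r = k w → w⁻¹ * r ∈ P := by
        intro w hwR a b c
        obtain ⟨-, hk1⟩ := hjuniq _ (inv_mem hwR) _ hwR
        obtain ⟨-, hk2⟩ := hjuniq _ (inv_mem hwR) _ hr
        rw [inv_mul_cancel, (hP0 1 (one_mem P)).2.2, b, ← c] at hk1
        rw [hj1] at hk2
        refine hkerP _ (mul_mem (inv_mem hwR) hr) ?_ ?_ (hk2.trans hk1.symm)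
        · rw [hichar _ (inv_mem hwR) _ hr, hichar.inv hwR, a, hi1, zmod2_add_self]
        · rw [hjchar _ (inv_mem hwR) _ hr, hjchar.inv hwR, b, hj1, zmod2_add_self]
      rcases zmod2_succ (k r) (k v) with e1 | e1
      · exact ⟨v, Or.inl rfl, hmem v hv hvi hvj e1⟩
      · refine ⟨v * v * v, Or.inr rfl, hmem _ hv3 ?_ ?_ (e1.trans hk3.symm)⟩
        · rw [hichar _ (mul_mem hv hv) _ hv, hichar.sq hv, hvi, zero_add]
        · rw [hjchar _ (mul_mem hv hv) _ hv, hjchar.sq hv, hvj, zero_add]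
    have hwR : w ∈ R := by rcases hwv with rfl | rfl <;> simp [mul_mem, hv]
    have hw2 : w * w ∈ Φ := by
      rcases hwv with rfl | rfl
      · exact hv2Φ
      · rw [show v * v * v * (v * v * v) = v * v * (v * v * (v * v)) by group]
        exact mul_mem hv2Φ (hWΦ hv4)
    set p := w⁻¹ * r
    rw [show r * r = (w * w) * ((w⁻¹ * p * w⁻¹⁻¹) * p) by simp only [p]; group]
    refine mul_mem hw2 (hWΦ ?_)
    have hp' := hPn _ (inv_mem hwR) p hrw
    rcases hw.split p hrw with hW | hWt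
    · exact mul_mem (hWn _ (inv_mem hwR) p hW) hW
    · rcases hw.split _ hp' with hW' | hW't
      · exfalso
        have := hWn _ hwR _ hW'
        rw [show w * (w⁻¹ * p * w⁻¹⁻¹) * w⁻¹ = p by group] at this
        exact hw.tW ((mul_mem_cancel_left this).1 hWt)
      · rw [show w⁻¹ * p * w⁻¹⁻¹ * p = (w⁻¹ * p * w⁻¹⁻¹ * t) * (t⁻¹ * (p * t) * t⁻¹) by group]
        refine mul_mem hW't ?_
        rw [ti h hf hw, inv' h hf hw hWt]
        exact inv_mem hWt
  obtain ⟨χ, hχ, hχt, hχΦ⟩ := exists_char (Φ := Φ) (fun g hg => hg.1) (hPR hw.tP) htΦ hsqΦ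
  refine ⟨R, i, j, χ, hR, hPR, hcard, hfree, hichar, hjchar, hχ, fun r hr => (hP0 r hr).1,
    fun r hr => (hP0 r hr).2.1, hχt, fun w hwW => hχΦ w (hWΦ hwW), ?_, ?_, hinvol, fun a b => ?_, ?_⟩
  · obtain ⟨c, hc, a, b, e⟩ := hall 0 0 1
    exact ⟨c, hc, fun hp => by rw [(hP0 c hp).2.2] at e; exact zmod2_zero_ne e, a, b⟩
  · intro r hr s hs a b a' b' hr' hs'
    have hk1 : ∀ q ∈ R, i q = 0 → j q = 0 → q ∉ P → k q = 1 := fun q hq a b hq' =>
      (zmod2_cases (k q)).resolve_left fun e => hq' (hkerP q hq a b e)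
    obtain ⟨-, e1⟩ := hjuniq _ (inv_mem hr) _ hr
    obtain ⟨-, e2⟩ := hjuniq _ (inv_mem hr) _ hs
    rw [inv_mul_cancel, (hP0 1 (one_mem P)).2.2, b, hk1 r hr a b hr'] at e1
    rw [b', hk1 s hs a' b' hs'] at e2
    refine hkerP _ (mul_mem (inv_mem hr) hs) ?_ ?_ (e2.trans e1.symm)
    · rw [hichar _ (inv_mem hr) _ hs, hichar.inv hr, a, a', zmod2_add_self]
    · rw [hjchar _ (inv_mem hr) _ hs, hjchar.inv hr, b, b', zmod2_add_self]
  · obtain ⟨r, hr, a', b', -⟩ := hall a b 0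
    exact ⟨r, hr, a', b'⟩
  · intro r hr s hs a b a' b' hp
    have e1 := (hjuniq r hr s hs).2
    have e2 := (hjuniq s hs r hr).2
    have e3 := (hjuniq _ (hPR hp) _ (mul_mem hs hr)).2
    rw [show r * s * r⁻¹ * s⁻¹ * (s * r) = r * s by group, (hP0 _ hp).1, (hP0 _ hp).2.2, zero_mul, zero_add,
      zero_add, e1, e2, a, b, a', b'] at e3
    exact zmod2_comm _ _ e3

end Tow

end Cfsg.Agent.Fusion.L2Cent
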