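import Cfsg.Agent.Lib.Fusion.L2Cent.Tower
import Cfsg.Agent.Lib.Perm.SingerPoint.Linear

/-!
# Towers without translations

If whatever centralises `D` fixes the classes, the automiser of `D` has order 168 and `|D| = 8`.
-/

set_option autoImplicit false
set_option linter.style.haveILetI false
set_option linter.unusedSectionVars false

namespace Cfsg.Agent.Fusion.L2Cent

universe u

variable {G : Type u} [Group G]

/-- Conjugation on a subgroup. -/
def conjOn (N D : Subgroup G) (hnd : ∀ g ∈ N, ∀ u ∈ D, g * u * g⁻¹ ∈ D) : ↥N →* MulAut ↥D where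
  toFun g :=
    { toFun := fun u => ⟨g.1 * u.1 * g.1⁻¹, hnd _ g.2 _ u.2⟩
      invFun := fun u => ⟨g.1⁻¹ * u.1 * g.1, by simpa using hnd _ (inv_mem g.2) _ u.2⟩
      left_inv := fun u => Subtype.ext (by group)
      right_inv := fun u => Subtype.ext (by group)
      map_mul' := fun u v => Subtype.ext (by simp only [Subgroup.coe_mul]; group) }
  map_one' := MulEquiv.ext fun u => Subtype.ext (by simp)
  map_mul' a b := MulEquiv.ext fun u => Subtype.ext (by
    show (a * b : ↥N).1 * u.1 * (a * b : ↥N).1⁻¹ = a.1 * (b.1 * u.1 * b.1⁻¹) * a.1⁻¹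
    rw [Subgroup.coe_mul]; group)

theorem conjOn_apply (N D : Subgroup G) (hnd : ∀ g ∈ N, ∀ u ∈ D, g * u * g⁻¹ ∈ D) (g : ↥N) (u : ↥D) :
    ((conjOn N D hnd g u : ↥D) : G) = g.1 * u.1 * g.1⁻¹ := rfl

theorem conjOn_eq_one (N D : Subgroup G) (hnd : ∀ g ∈ N, ∀ u ∈ D, g * u * g⁻¹ ∈ D) (g : ↥N) :
    conjOn N D hnd g = 1 ↔ Triv D g.1 := by
  constructor
  · intro e u hu
    exact congrArg Subtype.val (DFunLike.congr_fun e (⟨u, hu⟩ : ↥D))
  · exact fun e => MulEquiv.ext fun u => Subtype.ext (e u.1 u.2)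

variable [Finite G] {t σ : G} {T D P W : Subgroup G} {n m : ℕ}

namespace Tow

variable (h : ECent t T D n σ) (hf : Fused t T D) (hw : Tow t σ D m P W)
include h hf hw

set_option maxHeartbeats 1000000 in
-- the proof combines the rank-two count with the application of the linear lemma
/-- The two-part of the automiser. -/
theorem rigid (htr : ∀ u ∈ D, ∃ g ∈ Subgroup.normalizer (P : Set G), dlt t m g = u)
    (hrig : ∀ g ∈ Subgroup.normalizer (P : Set G), Triv D g → dlt t m g = 1) :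
    n = 3 ∧ ∀ R : Subgroup G, P ≤ R → SylIn 2 R (Subgroup.normalizer (P : Set G)) →
      Nat.card R = 8 * Nat.card P := by
  classical
  haveI : Fact (Nat.Prime 2) := ⟨Nat.prime_two⟩
  set N := Subgroup.normalizer (P : Set G) with hN
  have hnd : ∀ g ∈ N, ∀ u ∈ D, g * u * g⁻¹ ∈ D := fun g hg u hu => normD h hf hw hg hu
  set ρ := conjOn N D hnd with hρ
  letI : CommGroup ↥D :=
    { (inferInstance : Group ↥D) with mul_comm := fun a b => Subtype.ext (h.comm_D a.2 b.2) }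
  letI : MulAction ↥N ↥D :=
    { smul := fun g u => ⟨dlt t m g.1 * (g.1 * u.1 * g.1⁻¹), mul_mem (dlt_mem h hf hw g.2) (hnd _ g.2 _ u.2)⟩
      one_smul := fun u => Subtype.ext (by
        show dlt t m ((1 : ↥N) : G) * ((1 : ↥N).1 * u.1 * (1 : ↥N).1⁻¹) = u
        rw [Subgroup.coe_one, dlt_comm h hf hw (c := (1 : G)) (by simp)]; simp)
      mul_smul := fun a b u => Subtype.ext (by
        show dlt t m (a * b : ↥N).1 * ((a * b : ↥N).1 * u.1 * (a * b : ↥N).1⁻¹) =
          dlt t m a.1 * (a.1 * (dlt t m b.1 * (b.1 * u.1 * b.1⁻¹)) * a.1⁻¹)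
        rw [Subgroup.coe_mul, dlt_mul h hf hw a.2 b.2]; group) }
  have hsm : ∀ (g : ↥N) (u : ↥D), ((g • u : ↥D) : G) = dlt t m g.1 * (g.1 * u.1 * g.1⁻¹) := fun g u => rfl
  have hsm1 : ∀ g : ↥N, ((g • (1 : ↥D) : ↥D) : G) = dlt t m g.1 := fun g => by rw [hsm]; simp
  have hker : ∀ g : ↥N, ρ g = 1 → dlt t m g.1 = 1 := fun g e => hrig g.1 g.2 ((conjOn_eq_one N D hnd g).1 e)
  set σN : ↥N := ⟨σ, σ_norm h hf hw⟩
  set S := Subgroup.zpowers (ρ σN) with hS
  have hρσ : ∀ (i : ℕ) (u : ↥D), ((((ρ σN) ^ i) u : ↥D) : G) = σ ^ i * u * (σ ^ i)⁻¹ := fun i u => by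
    rw [← map_pow, hρ, conjOn_apply]; rfl
  have hStr : ∀ u v : ↥D, u ≠ 1 → v ≠ 1 → ∃ s ∈ S, s u = v := fun u v hu hv => by
    obtain ⟨i, hi⟩ := h.trans u.1 u.2 (fun e => hu (Subtype.ext e)) v.1 v.2 (fun e => hv (Subtype.ext e))
    exact ⟨_, Subgroup.pow_mem _ (Subgroup.mem_zpowers _) i, Subtype.ext (by rw [hρσ, hi])⟩
  choose g hgN hgd using fun u : ↥D => htr u.1 u.2
  -- the rank is not two
  rcases h.two_le.lt_or_eq with hn | hn
  swap
  · exfalso
    have hc4 : Nat.card ↥D = 4 := by rw [h.card, ← hn]; rfl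
    obtain ⟨u₀, hu₀, hu₀1, -⟩ := h.exists_third (one_mem D)
    obtain ⟨v₀, hv₀, hv₀1, hv₀u⟩ := h.exists_third hu₀
    set Q := {x : ↥D // x ≠ 1}
    have hQ : Nat.card Q = 3 := by
      show Nat.card ↥{x : ↥D | x ≠ 1} = 3
      rw [Nat.card_coe_set_eq, show ({x : ↥D | x ≠ 1} : Set ↥D) = Set.univ \ {1} by ext x; simp,
        Set.ncard_sdiff_singleton_of_mem (Set.mem_univ _), Set.ncard_univ, hc4]
    have hne : ∀ (f : MulAut ↥D) {x : G} (hx : x ∈ D), x ≠ 1 → f ⟨x, hx⟩ ≠ 1 := fun f x hx hx1 e =>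
      hx1 (congrArg Subtype.val ((map_eq_one_iff f f.injective).1 e))
    have hle : Nat.card (MulAut ↥D) ≤ 9 := by
      refine le_of_le_of_eq (Nat.card_le_card_of_injective
        (fun f : MulAut ↥D => ((⟨f ⟨u₀, hu₀⟩, hne f hu₀ hu₀1⟩, ⟨f ⟨v₀, hv₀⟩, hne f hv₀ hv₀1⟩) : Q × Q)) ?_)
        (by rw [Nat.card_prod, hQ])
      intro f f' e
      have e1 := congrArg (fun p : Q × Q => p.1.1) e
      have e2 := congrArg (fun p : Q × Q => p.2.1) e
      have hE : MonoidHom.eqLocus f.toMonoidHom f'.toMonoidHom = ⊤ := by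
        set E := MonoidHom.eqLocus f.toMonoidHom f'.toMonoidHom
        refine Subgroup.eq_top_of_card_eq _ ?_
        have h1 : Set.ncard ({1, ⟨u₀, hu₀⟩, ⟨v₀, hv₀⟩} : Set ↥D) ≤ Nat.card E := by
          rw [show Nat.card E = (E : Set ↥D).ncard from Nat.card_coe_set_eq _]
          refine Set.ncard_le_ncard ?_ (Set.toFinite _)
          rintro x (rfl | rfl | rfl)
          exacts [one_mem _, e1, e2]
        rw [Set.ncard_insert_of_notMem, Set.ncard_pair] at h1
        · have h2 := Subgroup.card_subgroup_dvd_card E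
          rw [hc4] at h2 ⊢
          have h3 := Nat.le_of_dvd (by norm_num) h2
          have h4 : Nat.card E ≠ 3 := fun e3 => by rw [e3] at h2; norm_num at h2
          omega
        · exact fun e => hv₀u (congrArg Subtype.val e).symm
        · rintro (e | e)
          exacts [hu₀1 (congrArg Subtype.val e).symm, hv₀1 (congrArg Subtype.val e).symm]
      exact MulEquiv.ext fun x => (show x ∈ MonoidHom.eqLocus f.toMonoidHom f'.toMonoidHom from
        hE ▸ Subgroup.mem_top x)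
    have hinj : Function.Injective fun p : ↥D × ↥S => ρ ⟨g p.1, hgN p.1⟩ * p.2.1 := by
      rintro ⟨u, s, hs⟩ ⟨u', s', hs'⟩ e
      have key : ∀ (w : ↥D) (r : MulAut ↥D), r ∈ S → ∃ k : ↥N, ρ ⟨g w, hgN w⟩ * r = ρ k ∧ k • (1 : ↥D) = w := by
        intro w r hr
        obtain ⟨i, rfl⟩ := (Submonoid.mem_powers_iff _ _).1 (mem_powers_iff_mem_zpowers.2 hr)
        refine ⟨⟨g w, hgN w⟩ * σN ^ i, by rw [map_mul, map_pow], ?_⟩
        rw [mul_smul, show σN ^ i • (1 : ↥D) = 1 from Subtype.ext (by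
          rw [hsm1]
          exact dlt_comm h hf hw (Subgroup.mem_centralizer_singleton_iff.1 (pow_mem h.σC i)))]
        exact Subtype.ext (by rw [hsm1]; exact hgd w)
      obtain ⟨k, hk, hku⟩ := key u s hs
      obtain ⟨k', hk', hku'⟩ := key u' s' hs'
      have hkk : ρ (k'⁻¹ * k) = 1 := by
        have e' : ρ ⟨g u, hgN u⟩ * s = ρ ⟨g u', hgN u'⟩ * s' := e
        rw [map_mul, map_inv, ← hk, ← hk', e', inv_mul_cancel]
      have hfix : (k'⁻¹ * k) • (1 : ↥D) = 1 := Subtype.ext (by rw [hsm1]; exact hker _ hkk)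
      have huu : u = u' := by rw [← hku, ← hku']; exact inv_smul_eq_iff.1 (by rw [← mul_smul]; exact hfix)
      subst huu
      exact Prod.ext rfl (Subtype.ext (mul_left_cancel (show ρ ⟨g u, hgN u⟩ * s = ρ ⟨g u, hgN u⟩ * s' from e)))
    have h12 := Nat.card_le_card_of_injective _ hinj
    have hS3 : 3 ≤ Nat.card S := by
      rw [← hQ]
      refine Nat.card_le_card_of_surjective
        (fun s : ↥S => (⟨s.1 ⟨u₀, hu₀⟩, hne s.1 hu₀ hu₀1⟩ : Q)) fun v => ?_
      obtain ⟨s, hs, e⟩ := hStr ⟨u₀, hu₀⟩ v.1 (fun e => hu₀1 (congrArg Subtype.val e)) v.2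
      exact ⟨⟨s, hs⟩, Subtype.ext e⟩
    rw [Nat.card_prod, hc4] at h12
    omega
  -- the centraliser of `t` in the normaliser
  have hstab : ∀ x : ↥N, x ∈ MulAction.stabilizer ↥N (1 : ↥D) → ∃ c : ↥N, c.1 * t = t * c.1 ∧ ρ c = ρ x := by
    intro x hx
    have h1 : dlt t m x.1 = 1 := by rw [← hsm1, MulAction.mem_stabilizer_iff.1 hx]; rfl
    obtain ⟨v, hv, hc⟩ := stab h hf hw x.2 h1
    set vN : ↥N := ⟨v, P_le_norm h hf hw (hw.le hv)⟩
    refine ⟨vN * x, hc, ?_⟩
    rw [map_mul, (conjOn_eq_one N D hnd vN).2 (triv_P h hf hw (hw.le hv)), one_mul]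
  have hCN : ∀ c : ↥N, c.1 * t = t * c.1 →
      c.1 ∈ Subgroup.centralizer ({t} : Set G) ∧ c.1 ∈ Subgroup.normalizer (T : Set G) := by
    intro c hc
    refine ⟨Subgroup.mem_centralizer_singleton_iff.2 hc, mem_normalizer_of_cj_le fun x hx => ?_⟩
    have hx' := mem_cj.1 hx
    have h1 : x ∈ P := by
      rw [show x = c.1 * (c.1⁻¹ * x * c.1) * c.1⁻¹ by group]
      exact (Subgroup.mem_normalizer_iff.1 c.2 _).1 (T_le h hf hw hx')
    refine mem_T_of_comm h hf hw h1 ?_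
    have h2 := h.toCent.comm hx'
    have h3 : c.1⁻¹ * t * c.1 = t := by rw [mul_assoc, ← hc, inv_mul_cancel_left]
    calc x * t = c.1 * ((c.1⁻¹ * x * c.1) * (c.1⁻¹ * t * c.1)) * c.1⁻¹ := by group
      _ = c.1 * ((c.1⁻¹ * t * c.1) * (c.1⁻¹ * x * c.1)) * c.1⁻¹ := by rw [h3, h2]
      _ = t * x := by group
  have hcyc : IsCyclic S := inferInstance
  have hSle : S ≤ (MulAction.stabilizer ↥N (1 : ↥D)).map ρ := by
    rw [hS, Subgroup.zpowers_le]
    refine ⟨σN, MulAction.mem_stabilizer_iff.2 (Subtype.ext ?_), rfl⟩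
    rw [hsm1]
    exact dlt_comm h hf hw (Subgroup.mem_centralizer_singleton_iff.1 h.σC)
  have hnor : (MulAction.stabilizer ↥N (1 : ↥D)).map ρ ≤ Subgroup.normalizer (S : Set (MulAut ↥D)) := by
    rintro _ ⟨x, hx, rfl⟩
    obtain ⟨c, hct, hcx⟩ := hstab x hx
    obtain ⟨hcD, j, hj⟩ := h.normC c.1 (hCN c hct).1 (hCN c hct).2
    rw [← hcx]
    refine mem_normalizer_of_cj_le ?_
    show Subgroup.map _ (Subgroup.zpowers (ρ σN)) ≤ _
    rw [MonoidHom.map_zpowers, Subgroup.zpowers_le]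
    have : ρ c * ρ σN * (ρ c)⁻¹ = (ρ σN) ^ j := by
      refine MulEquiv.ext fun u => Subtype.ext ?_
      rw [← map_inv, ← map_mul, ← map_mul, hρσ, hρ, conjOn_apply]
      have h4 := hj (c.1⁻¹ * u.1 * c.1) (by simpa using hnd _ (inv_mem c.2) _ u.2)
      rw [show c.1 * (c.1⁻¹ * u.1 * c.1) * c.1⁻¹ = u.1 by group] at h4
      rw [← h4]
      simp only [Subgroup.coe_mul, Subgroup.coe_inv, show (σN : G) = σ from rfl]
      group
    show ρ c * ρ σN * (ρ c)⁻¹ ∈ S
    rw [this]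
    exact Subgroup.pow_mem _ (Subgroup.mem_zpowers _) j
  have hodd : Odd (Nat.card ((MulAction.stabilizer ↥N (1 : ↥D)).map ρ)) := by
    refine Nat.not_even_iff_odd.1 fun he => ?_
    obtain ⟨z, ho⟩ := exists_prime_orderOf_dvd_card' 2 (even_iff_two_dvd.1 he)
    obtain ⟨x, hx, hxz⟩ := z.2
    rw [← Subgroup.orderOf_coe, ← hxz] at ho
    obtain ⟨c, hct, hcx⟩ := hstab x hx
    rw [← hcx] at ho
    obtain ⟨a, b, hb, hab⟩ := Nat.exists_eq_two_pow_mul_odd (n := orderOf c) (orderOf_pos c).ne'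
    have hcb : ρ (c ^ b) ≠ 1 := by
      obtain ⟨k, hk⟩ := hb
      rw [map_pow, hk, pow_succ, pow_mul, pow_two, ← sq, show ρ c ^ 2 = 1 by rw [← ho, pow_orderOf_eq_one],
        one_pow, one_mul]
      intro e
      rw [e, orderOf_one] at ho
      omega
    have hc2 : IsPGroup 2 (Subgroup.zpowers (c.1 ^ b)) := by
      have h2 : (c.1 ^ b) ^ 2 ^ a = 1 := by
        rw [← pow_mul, show b * 2 ^ a = orderOf c by rw [hab, mul_comm], ← Subgroup.orderOf_coe, pow_orderOf_eq_one]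
      obtain ⟨i, -, hi⟩ := (Nat.dvd_prime_pow Nat.prime_two).1 (orderOf_dvd_of_pow_eq_one h2)
      exact IsPGroup.of_card (n := i) (by rw [Nat.card_zpowers, hi])
    obtain ⟨hcC, hcT⟩ := hCN c hct
    have hsup : T ⊔ Subgroup.zpowers (c.1 ^ b) = T :=
      h.syl.eq_of_le (h.syl.isPGroup.to_sup_of_normal_left' hc2 (Subgroup.zpowers_le.2 (pow_mem hcT b)))
        le_sup_left (sup_le h.syl.le (Subgroup.zpowers_le.2 (pow_mem hcC b)))
    have hcbT : c.1 ^ b ∈ T := by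
      rw [← hsup]; exact le_sup_right (α := Subgroup G) (Subgroup.mem_zpowers (c.1 ^ b))
    refine hcb ((conjOn_eq_one N D hnd _).2 ?_)
    exact triv_P h hf hw (T_le h hf hw hcbT)
  have htrans : MulAction.IsPretransitive ↥N ↥D := by
    refine ⟨fun x y => ?_⟩
    have key : ∀ w : ↥D, ∃ k : ↥N, k • (1 : ↥D) = w := fun w =>
      ⟨⟨g w, hgN w⟩, Subtype.ext (by rw [hsm1]; exact hgd w)⟩
    obtain ⟨a, rfl⟩ := key x
    obtain ⟨b, rfl⟩ := key y
    exact ⟨b * a⁻¹, by rw [mul_smul, inv_smul_smul]⟩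
  obtain ⟨hn3, h168⟩ := Perm.SingerPoint.linear hn (1 : ↥D) h.card htrans
    (fun u => Subtype.ext (h.sq u.1 u.2)) h.card ρ (fun x e => Subtype.ext (by rw [hsm1]; exact hker x e))
    S hcyc hStr hSle hnor hodd (fun b hb c hc => by
      obtain ⟨i, hi⟩ := h.trans b.1 b.2 (fun e => hb (Subtype.ext e)) c.1 c.2 (fun e => hc (Subtype.ext e))
      have h0 : dlt t m (σ ^ i) = 1 :=
        dlt_comm h hf hw (Subgroup.mem_centralizer_singleton_iff.1 (pow_mem h.σC i))
      refine ⟨σN ^ i, by rw [map_pow]; exact Subgroup.pow_mem _ (Subgroup.mem_zpowers _) i,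
        Subtype.ext (by rw [hsm1]; exact h0), Subtype.ext ?_⟩
      rw [hsm]
      show dlt t m (σ ^ i) * (σ ^ i * b.1 * (σ ^ i)⁻¹) = c.1
      rw [h0, one_mul, hi])
  refine ⟨hn3, fun R hPR hR => ?_⟩
  set ψ : ↥(R.subgroupOf N) →* MulAut ↥D := ρ.comp (R.subgroupOf N).subtype with hψ
  have hRN : Nat.card (R.subgroupOf N) = Nat.card R := Nat.card_congr (Subgroup.subgroupOfEquivOfLe hR.le).toEquiv
  have hkerR : ψ.ker = (P.subgroupOf N).subgroupOf (R.subgroupOf N) := by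
    ext x
    rw [MonoidHom.mem_ker, Subgroup.mem_subgroupOf, Subgroup.mem_subgroupOf]
    constructor
    · intro e
      exact mem_P_of_stab h hf hw hR.isPGroup hPR (Subgroup.mem_subgroupOf.1 x.2) x.1.2 (hker x.1 e)
    · exact fun e => (conjOn_eq_one N D hnd _).2 (triv_P h hf hw e)
  have hcard := Subgroup.index_mul_card ψ.ker
  rw [hRN, Subgroup.index_ker, hkerR, Nat.card_congr (Subgroup.subgroupOfEquivOfLe
      (show P.subgroupOf N ≤ R.subgroupOf N from Subgroup.comap_mono hPR)).toEquiv,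
    Nat.card_congr (Subgroup.subgroupOfEquivOfLe (P_le_norm h hf hw)).toEquiv] at hcard
  rw [← hcard]
  congr 1
  have hrange : ψ.range = (R.subgroupOf N).map ρ := by rw [hψ, MonoidHom.range_comp, Subgroup.range_subtype]
  rw [hrange]
  set Z := (R.subgroupOf N).map ρ
  obtain ⟨k, hk⟩ := IsPGroup.iff_card.1 ((hR.isPGroup.comap_subtype (K := N)).map ρ)
  have hodd2 : ¬ 2 ∣ 168 / Nat.card Z := by
    intro hd
    refine hR.not_dvd ?_
    have h1 : Z.subgroupOf ρ.range = (R.subgroupOf N).map ρ.rangeRestrict := by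
      ext z
      constructor
      · rintro ⟨y, hy, hyz⟩
        exact ⟨y, hy, Subtype.ext hyz⟩
      · rintro ⟨y, hy, rfl⟩
        exact ⟨y, hy, rfl⟩
    have h2 : (Z.subgroupOf ρ.range).index ∣ (R.subgroupOf N).index := by
      rw [h1]
      exact Subgroup.index_map_dvd _ ρ.rangeRestrict_surjective
    have h3 := Subgroup.index_mul_card (Z.subgroupOf ρ.range)
    rw [Nat.card_congr (Subgroup.subgroupOfEquivOfLe (Subgroup.map_le_range ρ _)).toEquiv, h168] at h3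
    rw [← h3, Nat.mul_div_cancel _ Nat.card_pos] at hd
    exact hd.trans h2
  have hd168 : Nat.card Z ∣ 168 := h168 ▸ Subgroup.card_dvd_of_le (Subgroup.map_le_range ρ _)
  have hk' : k ≤ 7 := by
    by_contra hlt
    have h5 := Nat.le_of_dvd (by norm_num) (hk ▸ hd168)
    have h6 : 2 ^ 8 ≤ 2 ^ k := Nat.pow_le_pow_right two_pos (by omega)
    omega
  have hk2 : Nat.card Z = 2 ^ k := hk
  rw [hk2] at hodd2 hd168 ⊢
  interval_cases k <;> simp_all (config := { decide := true })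

end Tow

end Cfsg.Agent.Fusion.L2Cent
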