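import Cfsg.Agent.Lib.Fusion.L2Cent.Classes

/-!
# Towers with translations: the next level
-/

set_option autoImplicit false
set_option linter.style.haveILetI false
set_option linter.unusedSectionVars false

namespace Cfsg.Agent.Fusion.L2Cent

universe u

variable {G : Type u} [Group G] [Finite G] {t σ : G} {T D P R U W : Subgroup G} {n m : ℕ}

namespace Trans

variable (h : ECent t T D n σ) (hf : Fused t T D) (hw : Tow t σ D m P W) (hr : Trans t σ D m P R U W)
include h hf hw hr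

/-- Without inverted elements outside `W` the group `R` would be a Sylow subgroup. -/
theorem exists_inverted [IsSimpleGroup G] (hna : ¬ IsMulCommutative G) :
    ∃ x ∈ U, x ∉ W ∧ t * x * t⁻¹ = x⁻¹ := by
  classical
  haveI : Fact (Nat.Prime 2) := ⟨Nat.prime_two⟩
  by_contra! hno
  have htr : ∀ u ∈ D, ∃ g ∈ Subgroup.normalizer (P : Set G), dlt t m g = u := fun u hu =>
    let ⟨x, hx, hxu⟩ := hr.surj u hu
    ⟨x, normU h hf hw hr hx, hxu⟩
  have hcl : ∀ y ∈ R, IsConj t y → y ∈ P := by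
    intro y hy hc
    rcases hr.split y hy with hyU | hyt
    · exact absurd hc (not_conj_U h hf hw hr hyU)
    have hy2 := invol_mul_self (conj_invol h.ord hc)
    have hinvd : t * (y * t) * t⁻¹ = (y * t)⁻¹ := by
      rw [mul_inv_rev, inv_eq_of_mul_eq_one_right hy2, Tow.ti h hf hw,
        show t * (y * t) * t = t * y * (t * t) by group, h.toCent.tt, mul_one]
    have hW : y * t ∈ W := by_contra fun e => hno _ hyt e hinvd
    rw [show y = y * t * t⁻¹ by group]
    exact mul_mem (hw.le hW) (inv_mem hw.tP)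
  obtain ⟨S, hS⟩ := exists_sylow_eq hr.pg fun S hRS x hx hxn => by
    have hxP : x ∈ Subgroup.normalizer (P : Set G) := Tow.mem_normP h hf hw fun w hwW => by
      obtain ⟨g, -, hg⟩ := Tow.conj_tW h hf hw htr hwW
      refine hcl _ ((Subgroup.mem_normalizer_iff.1 hxn _).1 (hr.PR (mul_mem hw.tP (hw.le hwW)))) ?_
      exact (conj_iff x).2 (isConj_iff.2 ⟨g, hg⟩)
    obtain ⟨r, hrU, hrd⟩ := hr.surj _ (Tow.dlt_mem h hf hw hxP)
    have hrN := normU h hf hw hr hrU
    have h1 : dlt t m (r⁻¹ * x) = 1 := by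
      rw [Tow.dlt_triv_mul h hf hw (inv_mem hrN) hxP (hr.triv _ (inv_mem (hr.le hrU))), dlt_inv' h hf hw hr hrU,
        hrd, h.sq _ (Tow.dlt_mem h hf hw hxP)]
    exact (mul_mem_cancel_left (inv_mem (hr.le hrU))).1
      (hr.PR (Tow.mem_P_of_stab h hf hw S.isPGroup' (hr.PR.trans hRS)
        (mul_mem (inv_mem (hRS (hr.le hrU))) hx) (mul_mem (inv_mem hrN) hxP) h1))
  obtain ⟨χ, hχ, hχt, hχU⟩ := exists_char hr.le (hr.PR hw.tP) hr.tU fun x hx => by
    rcases hr.split x hx with hxU | hxt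
    · exact hr.WU (sq_mem h hf hw hr hxU)
    · obtain ⟨hxR, htR⟩ : x ∈ R ∧ t ∈ R := ⟨hx, hr.PR hw.tP⟩
      have hxx : dlt t m (x * x) = 1 := by
        rw [Tow.dlt_triv_mul h hf hw (hr.norm x hxR) (hr.norm x hxR) (hr.triv x hxR),
          h.sq _ (Tow.dlt_mem h hf hw (hr.norm x hxR))]
      rcases hr.split _ (mul_mem hxR hxR) with e | e
      · exact e
      exfalso
      -- `U` has index two in `R`
      refine hr.tU ((mul_mem_cancel_left (show x * x ∈ U from ?_)).1 e)
      rw [show x * x = (x * t) * (t⁻¹ * (x * t) * t) * (t * t)⁻¹ by group, h.toCent.tt, inv_one, mul_one]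
      refine mul_mem hxt ?_
      have hn : (U.subgroupOf R).Normal := Subgroup.normal_of_index_eq_two (Subgroup.index_eq_two_iff.2
        ⟨⟨t, htR⟩, fun b => by
          simp only [Subgroup.mem_subgroupOf, Subgroup.coe_mul]
          rcases hr.split b b.2 with hb | hb
          · exact Or.inr ⟨hb, fun hb' => hr.tU ((mul_mem_cancel_left hb).1 hb')⟩
          · exact Or.inl ⟨hb, fun hb' => hr.tU ((mul_mem_cancel_left hb').1 hb)⟩⟩)
      have := hn.conj_mem ⟨x * t, hr.le hxt⟩ hxt ⟨t⁻¹, inv_mem htR⟩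
      simpa [Subgroup.mem_subgroupOf] using this
  refine char_false hna S h.ord (hS ▸ hr.PR hw.tP) (hS ▸ hχ) fun y hy hc => ?_
  rcases Tow.cases h hf hw (hcl y (hS ▸ hy) hc) with hW | ⟨w, hwW, rfl⟩
  · exact absurd hc (Tow.not_conj_W h hf hw hW)
  · rw [hχ t (hr.PR hw.tP) w (hr.le (hr.WU hwW)), hχt, hχU w (hr.WU hwW), add_zero]

theorem dlt_inverted {x : G} (hx : x ∈ U) (hi : t * x * t⁻¹ = x⁻¹) : (x * x) ^ 2 ^ (m - 1) = dlt t m x := by
  have h1 : t * (x * t * x⁻¹) = (x * x)⁻¹ := by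
    rw [mul_inv_rev]
    calc t * (x * t * x⁻¹) = t * x * t⁻¹ * (t * t) * x⁻¹ := by group
      _ = x⁻¹ * x⁻¹ := by rw [hi, h.toCent.tt, mul_one]
  show _ = (t * (x * t * x⁻¹)) ^ 2 ^ (m - 1)
  rw [h1, inv_pow, h.inv_D (Tow.pw_mem h hf hw (sq_mem h hf hw hr hx))]

/-- The next level of the tower. -/
theorem next [IsSimpleGroup G] (hna : ¬ IsMulCommutative G) :
    Tow t σ D (m + 1) R U ∧ Nat.card P < Nat.card R := by
  classical
  obtain ⟨x₀, hx₀, hx₀W, hx₀i⟩ := exists_inverted h hf hw hr hna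
  have hx₀1 : dlt t m x₀ ≠ 1 := fun e => hx₀W (class_one h hf hw hr hx₀ e)
  have hrep : ∀ u ∈ D, ∃ x ∈ U, t * x * t⁻¹ = x⁻¹ ∧ dlt t m x = u := by
    intro u hu
    rcases eq_or_ne u 1 with rfl | hu1
    · exact ⟨1, one_mem U, by group, Tow.dlt_comm h hf hw (by simp)⟩
    obtain ⟨i, hi⟩ := h.trans _ (dlt_memU h hf hw hr hx₀) hx₀1 u hu hu1
    refine ⟨σ ^ i * x₀ * (σ ^ i)⁻¹, ?_, ?_, (Tow.dlt_conj_σ h hf hw i (normU h hf hw hr hx₀)).trans hi⟩
    · clear hi
      induction i with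
      | zero => simpa using hx₀
      | succ i ih =>
        rw [pow_succ', show σ * σ ^ i * x₀ * (σ * σ ^ i)⁻¹ = σ * (σ ^ i * x₀ * (σ ^ i)⁻¹) * σ⁻¹ by group]
        exact hr.σU _ ih
    · have e := h.σpow_t i
      calc t * (σ ^ i * x₀ * (σ ^ i)⁻¹) * t⁻¹
          = (σ ^ i * t * (σ ^ i)⁻¹) * (σ ^ i * x₀ * (σ ^ i)⁻¹) * (σ ^ i * t * (σ ^ i)⁻¹)⁻¹ := by rw [e]
        _ = σ ^ i * (t * x₀ * t⁻¹) * (σ ^ i)⁻¹ := by group
        _ = (σ ^ i * x₀ * (σ ^ i)⁻¹)⁻¹ := by rw [hx₀i]; group
  have hcen : ∀ w ∈ W, ∀ x ∈ U, x * w = w * x := by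
    have hk : ∀ k ≤ m, ∀ w ∈ W, w ^ 2 ^ k = 1 → ∀ x ∈ U, x * w = w * x := by
      intro k
      induction k with
      | zero =>
        intro _ w _ hw1 x _
        rw [pow_zero, pow_one] at hw1
        rw [hw1, mul_one, one_mul]
      | succ k ih =>
        intro hk w hwW hw1
        have hlo := ih (by omega)
        set ph : G → G → G := fun x w => w⁻¹ * (x * w * x⁻¹) with hph
        have hnW : ∀ {x w : G}, x ∈ U → w ∈ W → x * w * x⁻¹ ∈ W := fun hx hwW =>
          Tow.normW h hf hw (normU h hf hw hr hx) hwW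
        have hlay : ∀ w ∈ W, w ^ 2 ^ (k + 1) = 1 → ∀ x ∈ U, x * (w * w) = w * w * x := fun w hwW hw1 =>
          hlo _ (mul_mem hwW hwW) (by rw [← pow_two, ← pow_mul, ← pow_succ']; exact hw1)
        have hphD : ∀ x ∈ U, ∀ w ∈ W, w ^ 2 ^ (k + 1) = 1 → ph x w ∈ D := fun x hx w hwW hw1 =>
          hw.omega _ (mul_mem (inv_mem hwW) (hnW hx hwW)) (by
            have hc := hw.comm _ (hnW hx hwW) _ (inv_mem hwW)
            calc ph x w * ph x w = w⁻¹ * (x * w * x⁻¹ * w⁻¹) * (x * w * x⁻¹) := by simp only [hph]; group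
              _ = w⁻¹ * (w⁻¹ * (x * w * x⁻¹)) * (x * w * x⁻¹) := by rw [hc]
              _ = (w * w)⁻¹ * (x * (w * w) * x⁻¹) := by group
              _ = 1 := by rw [hlay w hwW hw1 x hx, mul_inv_cancel_right, inv_mul_cancel])
        have phw : ∀ x ∈ U, ∀ a ∈ W, ∀ b ∈ W, ph x (a * b) = ph x a * ph x b := by
          intro x hx a ha b hb
          calc ph x (a * b) = b⁻¹ * (a⁻¹ * (x * a * x⁻¹)) * (x * b * x⁻¹) := by simp only [hph]; group
            _ = a⁻¹ * (x * a * x⁻¹) * b⁻¹ * (x * b * x⁻¹) := by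
                rw [hw.comm _ (inv_mem hb) _ (mul_mem (inv_mem ha) (hnW hx ha))]
            _ = ph x a * ph x b := by simp only [hph]; group
        have phx : ∀ x ∈ U, ∀ x' ∈ U, ∀ w ∈ W, w ^ 2 ^ (k + 1) = 1 → ph (x * x') w = ph x w * ph x' w := by
          intro x hx x' hx' w hwW hw1
          have he := hr.triv x (hr.le hx) _ (hphD x' hx' w hwW hw1)
          calc ph (x * x') w = w⁻¹ * (x * w * x⁻¹) * (x * (ph x' w) * x⁻¹) := by simp only [hph]; group
            _ = ph x w * ph x' w := by rw [he]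
        set rep : G → G := fun u => if hu : u ∈ D then (hrep u hu).choose else 1 with hrepdef
        have hrp : ∀ u ∈ D, rep u ∈ U ∧ t * rep u * t⁻¹ = (rep u)⁻¹ ∧ dlt t m (rep u) = u := fun u hu => by
          simp only [hrepdef, dif_pos hu]
          exact (hrep u hu).choose_spec
        set sq : G → G := fun u => if hu : u ∈ D then
          (Tow.exists_layer h hf hw (k := k) hk hu).choose else 1 with hsqdef
        have hsq : ∀ u ∈ D, sq u ∈ W ∧ sq u ^ 2 ^ k = u := fun u hu => by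
          simp only [hsqdef, dif_pos hu]
          exact (Tow.exists_layer h hf hw (k := k) hk hu).choose_spec
        have htop : ∀ a ∈ W, a ^ 2 ^ k ∈ D → a ^ 2 ^ (k + 1) = 1 := fun a _ hd => by
          rw [pow_succ, pow_mul]; exact Tow.D_one h hf hw hd
        have hwd : ∀ x ∈ U, ∀ a ∈ W, a ^ 2 ^ k ∈ D → ph x a = ph (rep (dlt t m x)) (sq (a ^ 2 ^ k)) := by
          intro x hx a ha had
          obtain ⟨hra, -, hrd⟩ := hrp _ (dlt_memU h hf hw hr hx)
          obtain ⟨hsa, hsd⟩ := hsq _ had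
          have hxx := class_eq h hf hw hr hra hx hrd
          have hlw : (sq (a ^ 2 ^ k))⁻¹ * a ∈ W := mul_mem (inv_mem hsa) ha
          have hl1 : ((sq (a ^ 2 ^ k))⁻¹ * a) ^ 2 ^ k = 1 := by
            rw [(show Commute (sq (a ^ 2 ^ k))⁻¹ a from hw.comm _ (inv_mem hsa) _ ha).mul_pow, inv_pow, hsd,
              inv_mul_cancel]
          calc ph x a = ph (rep (dlt t m x) * ((rep (dlt t m x))⁻¹ * x)) a := by rw [mul_inv_cancel_left]
            _ = ph (rep (dlt t m x)) a * ph ((rep (dlt t m x))⁻¹ * x) a := phx _ hra _ (hr.WU hxx) a ha (htop a ha had)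
            _ = ph (rep (dlt t m x)) (sq (a ^ 2 ^ k) * ((sq (a ^ 2 ^ k))⁻¹ * a)) := by
              rw [mul_inv_cancel_left]
              simp only [hph]
              rw [hw.comm _ hxx a ha, mul_inv_cancel_right, inv_mul_cancel, mul_one]
            _ = ph (rep (dlt t m x)) (sq (a ^ 2 ^ k)) := by
              rw [phw _ hra _ hsa _ hlw]
              simp only [hph]
              rw [hlo _ hlw hl1 _ hra, mul_inv_cancel_right, inv_mul_cancel, mul_one]
        have hsd' : ∀ u ∈ D, sq u ^ 2 ^ k ∈ D := fun u hu => (hsq u hu).2.symm ▸ hu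
        have hB := alt_trivial h.sq h.σodd h.σD h.trans (fun u v => ph (rep u) (sq v))
          (fun u hu v hv => hphD _ (hrp u hu).1 _ (hsq v hv).1 (htop _ (hsq v hv).1 (hsd' v hv)))
          (fun a ha a' ha' b hb => by
            show ph (rep (a * a')) (sq b) = _
            rw [← phx _ (hrp a ha).1 _ (hrp a' ha').1 _ (hsq b hb).1 (htop _ (hsq b hb).1 (hsd' b hb)),
              hwd _ (mul_mem (hrp a ha).1 (hrp a' ha').1) _ (hsq b hb).1 (hsd' b hb),
              dlt_mul' h hf hw hr (hrp a ha).1 (hrp a' ha').1, (hrp a ha).2.2, (hrp a' ha').2.2, (hsq b hb).2])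
          (fun a ha b hb b' hb' => by
            show ph (rep a) (sq (b * b')) = _
            have hpow : (sq b * sq b') ^ 2 ^ k = b * b' := by
              rw [(show Commute (sq b) (sq b') from hw.comm _ (hsq b hb).1 _ (hsq b' hb').1).mul_pow,
                (hsq b hb).2, (hsq b' hb').2]
            rw [← phw _ (hrp a ha).1 _ (hsq b hb).1 _ (hsq b' hb').1,
              hwd _ (hrp a ha).1 _ (mul_mem (hsq b hb).1 (hsq b' hb').1) (hpow.symm ▸ mul_mem hb hb'),
              hpow, (hrp a ha).2.2])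
          (fun a ha b hb => by
            show ph (rep (σ * a * σ⁻¹)) (sq (σ * b * σ⁻¹)) = σ * ph (rep a) (sq b) * σ⁻¹
            rw [show σ * ph (rep a) (sq b) * σ⁻¹ = ph (σ * rep a * σ⁻¹) (σ * sq b * σ⁻¹) by simp only [hph]; group,
              hwd _ (hr.σU _ (hrp a ha).1) _ (hw.σW _ (hsq b hb).1)
                (by rw [conj_pow, (hsq b hb).2]; exact h.σD b hb),
              dlt_σ h hf hw hr (hrp a ha).1, (hrp a ha).2.2, conj_pow, (hsq b hb).2])
          (fun a ha => by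
            show ph (rep a) (sq a) = 1
            obtain ⟨hxU, hxi, hxd⟩ := hrp a ha
            set x := rep a
            have hxx := sq_mem h hf hw hr hxU
            have hpa : ((x * x) ^ 2 ^ (m - 1 - k)) ^ 2 ^ k = a := by
              rw [← pow_mul, ← pow_add, show m - 1 - k + k = m - 1 by omega, dlt_inverted h hf hw hr hxU hxi, hxd]
            have h1 := hwd x hxU _ (pow_mem hxx _) (hpa.symm ▸ ha)
            rw [hpa, hxd] at h1
            rw [← h1]
            have hc : Commute x ((x * x) ^ 2 ^ (m - 1 - k)) :=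
              ((Commute.refl x).mul_right (Commute.refl x)).pow_right _
            simp only [hph]
            rw [hc.eq, mul_inv_cancel_right, inv_mul_cancel])
        intro x hx
        have had : w ^ 2 ^ k ∈ D := hw.omega _ (pow_mem hwW _) (by
          rw [← pow_add, ← two_mul, ← pow_succ']; exact hw1)
        have h1 : ph x w = 1 :=
          (hwd x hx w hwW had).trans (hB _ (dlt_memU h hf hw hr hx) _ had)
        exact mul_inv_eq_iff_eq_mul.1 (inv_mul_eq_one.1 h1).symm
    exact fun w hwW => hk m le_rfl w hwW (hw.exp w hwW)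
  have hab := abel_of_central h hf hw hr hcen
  have hinv : ∀ z ∈ U, t * z * t⁻¹ = z⁻¹ := by
    intro z hz
    obtain ⟨x, hx, hxi, hxd⟩ := hrep _ (dlt_memU h hf hw hr hz)
    have hxz := class_eq h hf hw hr hx hz hxd
    calc t * z * t⁻¹ = (t * x * t⁻¹) * (t * (x⁻¹ * z) * t⁻¹) := by group
      _ = x⁻¹ * (x⁻¹ * z)⁻¹ := by rw [hxi, hw.inv _ hxz]
      _ = (x⁻¹ * z)⁻¹ * x⁻¹ := hab _ (inv_mem hx) _ (inv_mem (hr.WU hxz))
      _ = z⁻¹ := by group
  have hpwU : ∀ z ∈ U, z ^ 2 ^ (m + 1 - 1) = dlt t m z := fun z hz => by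
    rw [Nat.add_sub_cancel, ← dlt_inverted h hf hw hr hz (hinv z hz), ← pow_two, ← pow_mul, ← pow_succ',
      Nat.sub_add_cancel hw.one_le]
  refine ⟨{
    one_le := by omega
    le := hr.le
    pg := hr.pg
    tP := hr.PR hw.tP
    tW := hr.tU
    split := hr.split
    DW := hw.DW.trans hr.WU
    comm := hab
    inv := hinv
    omega := fun z hz hz2 => by
      refine hw.omega z (class_one h hf hw hr hz ?_) hz2
      rw [← dlt_inverted h hf hw hr hz (hinv z hz), hz2, one_pow]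
    σW := hr.σU
    exp := fun z hz => by
      rw [pow_succ', pow_mul, pow_two]
      exact hw.exp _ (sq_mem h hf hw hr hz)
    top := fun u hu => by
      obtain ⟨x, hx, hxu⟩ := hr.surj u hu
      exact ⟨x, hx, (hpwU x hx).trans hxu⟩
    root := fun z hz hz1 => by
      have hzW := class_one h hf hw hr hz (by rw [← hpwU z hz, hz1])
      obtain ⟨x, hx, hxd⟩ := hr.surj _ (Tow.pw_mem h hf hw hzW)
      have hxx := sq_mem h hf hw hr hx
      obtain ⟨v, hv, hv2⟩ := hw.root (z * (x * x)⁻¹) (mul_mem hzW (inv_mem hxx)) (by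
        rw [Tow.pw_mul h hf hw hzW (inv_mem hxx), inv_pow, dlt_inverted h hf hw hr hx (hinv x hx), hxd,
          mul_inv_cancel])
      refine ⟨v * x, mul_mem (hr.WU hv) hx, ?_⟩
      calc v * x * (v * x) = v * (x * v) * x := by group
        _ = (v * v) * (x * x) := by rw [hcen v hv x hx]; group
        _ = z := by rw [hv2, inv_mul_cancel_right] }, ?_⟩
  refine lt_of_le_of_ne (Subgroup.card_le_of_le hr.PR) fun e => hx₀1 ?_
  refine Tow.dlt_P h hf hw ?_
  rw [Subgroup.eq_of_le_of_card_ge hr.PR e.ge]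
  exact hr.le hx₀

end Trans

end Cfsg.Agent.Fusion.L2Cent
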