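import Cfsg.Agent.Lib.Fusion.L2Cent.Orbit
import Cfsg.Agent.Lib.Fusion.L2Cent.Count
import Cfsg.Agent.Lib.Fusion.BurnsideFusion
import Cfsg.Agent.Lib.Solv.Partition.Engine

/-!
# The elementary case with `⟨t⟩ × D` a Sylow subgroup

The automizer has odd order and is transitive; an abelian normal subgroup of it generates a field on which
`σ` acts by automorphisms, which bounds the rank.
-/

set_option autoImplicit false
set_option linter.style.haveILetI false
set_option linter.unusedSectionVars false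

namespace Cfsg.Agent.Fusion.L2Cent

universe u v

/-- An automorphism fixing a point of a transitive abelian group has orbits no longer than the dimension. -/
theorem abelian_bound {U : Type v} [CommGroup U] [Finite U] {m : ℕ} (hU : Nat.card U = 2 ^ m)
    (hexp : ∀ x : U, x * x = 1) (A : Subgroup (MulAut U)) (hab : ∀ a ∈ A, ∀ b ∈ A, a * b = b * a)
    (t₀ : U) (ht₀ : t₀ ≠ 1) (htr : ∀ v : U, v ≠ 1 → ∃ a ∈ A, a t₀ = v) (s : MulAut U)
    (hsA : ∀ a ∈ A, s * a * s⁻¹ ∈ A) (hst : s t₀ = t₀) (B : Set U) (hB : ∀ v ∈ B, v ≠ 1)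
    (horb : ∀ u ∈ B, ∀ v ∈ B, ∃ i : ℕ, (s ^ i) u = v) : B.ncard ≤ m := by
  classical
  letI := Fintype.ofFinite U
  rcases B.eq_empty_or_nonempty with rfl | ⟨v₀, hv₀⟩
  · simp
  obtain ⟨a, haA, ha⟩ := htr v₀ (hB v₀ hv₀)
  let ι : MulAut U →* AddMonoid.End (Additive U) :=
    { toFun := fun f =>
        { toFun := fun x => Additive.ofMul (f x.toMul)
          map_zero' := congrArg Additive.ofMul (map_one f)
          map_add' := fun x y => congrArg Additive.ofMul (map_mul f x.toMul y.toMul) }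
      map_one' := rfl
      map_mul' := fun f g => rfl }
  have hι : ∀ (f : MulAut U) (x : U), ι f (Additive.ofMul x) = Additive.ofMul (f x) := fun f x => rfl
  set e₀ := Additive.ofMul t₀ with he₀
  let Z : Subring (AddMonoid.End (Additive U)) := Subring.centralizer (ι '' (A : Set (MulAut U)))
  have hmem : ∀ b ∈ A, ι b ∈ Z := fun b hb => Subring.mem_centralizer_iff.2 (by
    rintro _ ⟨c, hc, rfl⟩
    rw [← map_mul, ← map_mul, hab c hc b hb])
  -- an element of `Z` is zero or comes from `A`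
  have hcases : ∀ f ∈ Z, (f e₀ = 0 → f = 0) ∧ (f = 0 ∨ ∃ b ∈ A, f = ι b) := by
    intro f hf
    have hc : ∀ b ∈ A, ∀ x, f (ι b x) = ι b (f x) := fun b hb x =>
      (DFunLike.congr_fun (Subring.mem_centralizer_iff.1 hf _ ⟨b, hb, rfl⟩) x).symm
    have hext : ∀ g : AddMonoid.End (Additive U), (∀ b ∈ A, ∀ x, g (ι b x) = ι b (g x)) → g e₀ = f e₀ →
        f = g := by
      intro g hg he
      refine DFunLike.ext f g fun x => ?_
      rcases eq_or_ne x 0 with rfl | hx
      · rw [map_zero, map_zero]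
      obtain ⟨b, hb, hbx⟩ := htr x.toMul (fun e => hx (congrArg Additive.ofMul e))
      have hx' : x = ι b e₀ := by rw [he₀, hι, hbx]; rfl
      rw [hx', hc b hb, hg b hb, he]
    have h0 : f e₀ = 0 → f = 0 := fun h => hext 0
      (fun b _ x => by show (0 : Additive U) = ι b 0; rw [map_zero]) h.symm
    refine ⟨h0, ?_⟩
    rcases eq_or_ne (f e₀) 0 with h | h
    · exact Or.inl (h0 h)
    obtain ⟨b, hb, hbv⟩ := htr (f e₀).toMul (fun e => h (congrArg Additive.ofMul e))
    refine Or.inr ⟨b, hb, hext (ι b) (fun c hc' x => ?_) (by rw [he₀, hι, hbv]; rfl)⟩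
    show (ι b * ι c) x = (ι c * ι b) x
    rw [← map_mul, ← map_mul, hab b hb c hc']
  letI : CommRing Z := { (inferInstance : Ring Z) with
    mul_comm := fun f g => Subtype.ext (by
      show (f : AddMonoid.End (Additive U)) * g = g * f
      rcases (hcases f f.2).2 with hf | ⟨b, hb, hf⟩ <;> rcases (hcases g g.2).2 with hg | ⟨c, hc, hg⟩ <;>
        rw [hf, hg]
      · rw [zero_mul, mul_zero]
      · rw [zero_mul, mul_zero]
      rw [← map_mul, ← map_mul, hab b hb c hc]) }
  haveI : Nontrivial Z := ⟨⟨0, 1, fun e => ht₀ (by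
    have h := congrArg (fun f : Z => ((f : AddMonoid.End (Additive U)) e₀).toMul) e
    exact h.symm)⟩⟩
  haveI : NoZeroDivisors Z := ⟨fun {f g} hfg => by
    rcases (hcases f f.2).2 with hf | ⟨b, hb, hf⟩
    · exact Or.inl (Subtype.ext hf)
    refine Or.inr (Subtype.ext ?_)
    have h := congrArg Subtype.val hfg
    change (f : AddMonoid.End (Additive U)) * g = 0 at h
    rw [hf] at h
    calc (g : AddMonoid.End (Additive U)) = ι b⁻¹ * (ι b * g) := by
          rw [← mul_assoc, ← map_mul, inv_mul_cancel, map_one, one_mul]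
      _ = 0 := by rw [h, mul_zero]⟩
  haveI : IsDomain Z := NoZeroDivisors.to_isDomain _
  -- a relation between the powers of `a`
  obtain ⟨I, hIne, hIle, hI⟩ : ∃ I : Finset ℕ, I.Nonempty ∧ (∀ k ∈ I, k ≤ m) ∧
      ∏ k ∈ I, (a ^ k) t₀ = 1 := by
    obtain ⟨I, hI, J, hJ, hne, he⟩ := Finset.exists_ne_map_eq_of_card_lt_of_maps_to
      (s := (Finset.range (m + 1)).powerset) (t := (Finset.univ : Finset U))
      (by rw [Finset.card_univ, ← Nat.card_eq_fintype_card, hU, Finset.card_powerset, Finset.card_range]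
          exact Nat.pow_lt_pow_right one_lt_two (Nat.lt_succ_self m))
      (f := fun I => ∏ k ∈ I, (a ^ k) t₀) (fun _ _ => Finset.mem_univ _)
    rw [Finset.mem_powerset] at hI hJ
    refine ⟨(I \ J) ∪ (J \ I), ?_, fun k hk => ?_, ?_⟩
    · rw [Finset.nonempty_iff_ne_empty]
      intro h0
      rw [Finset.union_eq_empty, Finset.sdiff_eq_empty_iff_subset, Finset.sdiff_eq_empty_iff_subset] at h0
      exact hne (Finset.Subset.antisymm h0.1 h0.2)
    · have hk' : k ∈ Finset.range (m + 1) := by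
        rcases Finset.mem_union.1 hk with h | h
        · exact hI (Finset.mem_sdiff.1 h).1
        · exact hJ (Finset.mem_sdiff.1 h).1
      exact Nat.le_of_lt_succ (Finset.mem_range.1 hk')
    · rw [Finset.prod_union disjoint_sdiff_sdiff]
      have h1 := Finset.prod_sdiff (f := fun k => (a ^ k) t₀) (Finset.inter_subset_left : I ∩ J ⊆ I)
      have h2 := Finset.prod_sdiff (f := fun k => (a ^ k) t₀) (Finset.inter_subset_right : I ∩ J ⊆ J)
      rw [Finset.sdiff_inter_self_left] at h1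
      rw [Finset.inter_comm I J, Finset.sdiff_inter_self_left, Finset.inter_comm J I] at h2
      have he' : (∏ k ∈ I \ J, (a ^ k) t₀) = ∏ k ∈ J \ I, (a ^ k) t₀ :=
        mul_right_cancel (h1.trans (he.trans h2.symm))
      rw [he']
      exact hexp _
  let za : Z := ⟨ι a, hmem a haA⟩
  let P : Polynomial Z := ∑ k ∈ I, Polynomial.X ^ k
  have hP : P ≠ 0 := by
    obtain ⟨k, hk⟩ := hIne
    intro h0
    have h1 := congrArg (fun q : Polynomial Z => q.coeff k) h0
    simp [P, Polynomial.coeff_X_pow, hk] at h1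
  have hdeg : P.natDegree ≤ m := Polynomial.natDegree_sum_le_of_forall_le _ _ fun k hk =>
    (Polynomial.natDegree_X_pow k).le.trans (hIle k hk)
  have hsum : (∑ k ∈ I, (ι a) ^ k) = 0 := by
    have h1 : ((∑ k ∈ I, za ^ k : Z) : AddMonoid.End (Additive U)) = ∑ k ∈ I, (ι a) ^ k := by
      push_cast
      rfl
    rw [← h1]
    refine (hcases _ (∑ k ∈ I, za ^ k : Z).2).1 ?_
    rw [h1]
    let ev : AddMonoid.End (Additive U) →+ Additive U :=
      { toFun := fun f => f e₀, map_zero' := rfl, map_add' := fun _ _ => rfl }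
    show ev (∑ k ∈ I, (ι a) ^ k) = 0
    rw [map_sum]
    have h2 : ∀ k, ev ((ι a) ^ k) = Additive.ofMul ((a ^ k) t₀) := fun k => by
      rw [← map_pow]; rfl
    simp only [h2]
    rw [← ofMul_prod, hI]
    rfl
  have hsn : ∀ i : ℕ, ∀ b ∈ A, s ^ i * b * (s ^ i)⁻¹ ∈ A := by
    intro i
    induction i with
    | zero => intro b hb; simpa using hb
    | succ i ih =>
      intro b hb
      rw [pow_succ', show s * s ^ i * b * (s * s ^ i)⁻¹ = s * (s ^ i * b * (s ^ i)⁻¹) * s⁻¹ by group]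
      exact hsA _ (ih b hb)
  have hsti : ∀ i : ℕ, (s ^ i) t₀ = t₀ := by
    intro i
    induction i with
    | zero => rfl
    | succ i ih => rw [pow_succ, MulAut.mul_apply, hst, ih]
  choose ix hix using fun v : B => horb v₀ hv₀ v.1 v.2
  let r : B → Z := fun v => ⟨ι (s ^ ix v * a * (s ^ ix v)⁻¹), hmem _ (hsn _ a haA)⟩
  have hval : ∀ v : B, (r v : AddMonoid.End (Additive U)) e₀ = Additive.ofMul v.1 := fun v => by
    show ι _ e₀ = _
    rw [he₀, hι, MulAut.mul_apply, MulAut.mul_apply]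
    have h1 : ((s ^ ix v)⁻¹) t₀ = t₀ := by
      conv_lhs => rw [← hsti (ix v)]
      rw [← MulAut.mul_apply, inv_mul_cancel, MulAut.one_apply]
    rw [h1, ha, hix]
  have hroot : ∀ v : B, r v ∈ P.roots.toFinset := by
    intro v
    rw [Multiset.mem_toFinset, Polynomial.mem_roots hP, Polynomial.IsRoot.def]
    show Polynomial.eval _ (∑ k ∈ I, Polynomial.X ^ k) = 0
    rw [Polynomial.eval_finsetSum]
    simp only [Polynomial.eval_pow, Polynomial.eval_X]
    refine Subtype.ext ?_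
    push_cast
    show (∑ k ∈ I, (ι (s ^ ix v * a * (s ^ ix v)⁻¹)) ^ k) = 0
    have : ∀ k : ℕ, (ι (s ^ ix v * a * (s ^ ix v)⁻¹)) ^ k = ι (s ^ ix v) * (ι a) ^ k * ι (s ^ ix v)⁻¹ :=
      fun k => by rw [← map_pow, ← map_pow, ← map_mul, ← map_mul, conj_pow]
    simp only [this]
    rw [← Finset.sum_mul, ← Finset.mul_sum, hsum, mul_zero, zero_mul]
  have hinj : Function.Injective fun v : B => (⟨r v, hroot v⟩ : {x // x ∈ P.roots.toFinset}) := by
    intro v w hvw
    have h1 : r v = r w := congrArg Subtype.val hvw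
    have h2 := congrArg (fun f : Z => (f : AddMonoid.End (Additive U)) e₀) h1
    simp only [hval] at h2
    exact Subtype.ext (Additive.ofMul.injective h2)
  rw [← Nat.card_coe_set_eq]
  calc Nat.card B ≤ Nat.card {x // x ∈ P.roots.toFinset} := Nat.card_le_card_of_injective _ hinj
    _ = P.roots.toFinset.card := Nat.card_eq_finsetCard _
    _ ≤ Multiset.card P.roots := Multiset.toFinset_card_le _
    _ ≤ m := (Polynomial.card_roots' P).trans hdeg

variable {G : Type u} [Group G] [Finite G] {t σ : G} {T D : Subgroup G} {n : ℕ}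

namespace ECent

variable (h : ECent t T D n σ)
include h

theorem sylowT_false [IsSimpleGroup G] (hna : ¬ IsMulCommutative G) (S : Sylow 2 G)
    (hTS : T = (S : Subgroup G)) (hn : 3 ≤ n) : False := by
  classical
  haveI : Fact (Nat.Prime 2) := ⟨Nat.prime_two⟩
  have hsylT : SylIn 2 T ⊤ := hTS ▸ sylIn_top S
  have hab : T ≤ Subgroup.centralizer (T : Set G) := fun x hx =>
    Subgroup.mem_centralizer_iff.2 fun y hy => h.T_comm hy hx
  letI : CommGroup ↥T := { (inferInstance : Group ↥T) with mul_comm := fun a b => Subtype.ext (h.T_comm a.2 b.2) }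
  set φ : ↥(Subgroup.normalizer (T : Set G)) →* MulAut ↥T := Subgroup.normalizerMonoidHom T with hφ
  have hφv : ∀ g x, ((φ g x : ↥T) : G) = (g : G) * x * (g : G)⁻¹ := fun g x => rfl
  have hXodd : Odd (Nat.card φ.range) := by
    rw [← Subgroup.index_ker]
    refine Nat.not_even_iff_odd.1 fun he => hsylT.not_dvd ?_
    rw [← Subgroup.relIndex_mul_relIndex T (Subgroup.normalizer (T : Set G)) ⊤ Subgroup.le_normalizer le_top]
    refine dvd_mul_of_dvd_left ((even_iff_two_dvd.1 he).trans (Subgroup.index_dvd_of_le ?_)) _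
    intro g hg
    rw [MonoidHom.mem_ker]
    refine MulEquiv.ext fun x => Subtype.ext ?_
    rw [hφv]
    show (g : G) * x * (g : G)⁻¹ = x
    rw [h.T_comm (Subgroup.mem_subgroupOf.1 hg) x.2, mul_inv_cancel_right]
  set t₀ : ↥T := ⟨t, h.tT⟩ with ht₀
  set σ₀ := φ ⟨σ, h.σ_normT⟩ with hσ₀
  have hσi : ∀ (i : ℕ) (x : ↥T), (((σ₀ ^ i) x : ↥T) : G) = σ ^ i * x * (σ ^ i)⁻¹ := fun i x => by
    rw [hσ₀, ← map_pow, hφv]; rfl
  have hσt : σ₀ t₀ = t₀ := Subtype.ext (by rw [hσ₀, hφv]; exact h.σ_t)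
  have hq : 2 ∣ Nat.card D := by rw [h.card]; exact dvd_pow_self 2 (by omega)
  -- a group normalised by `σ` is transitive, if it moves `t`
  have htrans : ∀ Y : Subgroup (MulAut ↥T), Odd (Nat.card Y) → (∀ y ∈ Y, σ₀ * y * σ₀⁻¹ ∈ Y) →
      (∃ y ∈ Y, y t₀ ≠ t₀) → ∀ v : ↥T, v ≠ 1 → ∃ y ∈ Y, y t₀ = v := by
    intro Y hY hYn ⟨y₁, hy₁, hy₁t⟩
    set O := MulAction.orbit Y t₀ with hO
    have hmemO : ∀ v : ↥T, v ∈ O ↔ ∃ y ∈ Y, y t₀ = v := fun v =>
      ⟨fun ⟨y, hy⟩ => ⟨y.1, y.2, hy⟩, fun ⟨y, hy, e⟩ => ⟨⟨y, hy⟩, e⟩⟩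
    have hodd : Odd O.ncard := by
      rw [hO, ← MulAction.index_stabilizer]
      exact hY.of_dvd_nat (Subgroup.index_dvd_card _)
    have h1 : ∀ v ∈ O, v ≠ 1 := fun v hv e => by
      obtain ⟨y, -, hy⟩ := (hmemO v).1 hv
      rw [e, ← map_one y] at hy
      exact h.tD (by rw [show t = 1 from congrArg Subtype.val (y.injective hy)]; exact one_mem D)
    have hst : ∀ v ∈ O, ∀ i : ℕ, (σ₀ ^ i) v ∈ O := by
      intro v hv i
      induction i with
      | zero => exact hv
      | succ i ih =>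
        obtain ⟨y, hy, he⟩ := (hmemO _).1 ih
        refine (hmemO _).2 ⟨σ₀ * y * σ₀⁻¹, hYn y hy, ?_⟩
        rw [pow_succ', MulAut.mul_apply, MulAut.mul_apply, MulAut.mul_apply, ← he]
        congr 2
        conv_lhs => rw [← hσt]
        exact σ₀.symm_apply_apply t₀
    -- the two orbits of `σ`
    by_cases hA : ∃ v ∈ O, (v : G) ∈ D
    all_goals by_cases hB : ∃ v ∈ O, ∃ u ∈ D, u ≠ 1 ∧ (v : G) = t * u
    · intro v hv
      refine (hmemO v).1 ?_
      rcases h.T_cases v.2 with hd | ⟨u, hu, he⟩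
      · obtain ⟨w, hw, hwD⟩ := hA
        obtain ⟨i, hi⟩ := h.trans w hwD (fun e => h1 w hw (Subtype.ext e)) v hd (fun e => hv (Subtype.ext e))
        rw [show v = (σ₀ ^ i) w from Subtype.ext (by rw [hσi, hi])]
        exact hst w hw i
      · rcases eq_or_ne u 1 with rfl | hu1
        · rw [show v = t₀ from Subtype.ext (by rw [he, mul_one])]
          exact MulAction.mem_orbit_self t₀
        obtain ⟨w, hw, a, ha, ha1, hwa⟩ := hB
        obtain ⟨i, hi⟩ := h.trans a ha ha1 u hu hu1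
        rw [show v = (σ₀ ^ i) w from Subtype.ext (by
          rw [hσi, hwa, he, show σ ^ i * (t * a) * (σ ^ i)⁻¹ = σ ^ i * t * (σ ^ i)⁻¹ *
            (σ ^ i * a * (σ ^ i)⁻¹) by group, h.σpow_t, hi])]
        exact hst w hw i
    all_goals exfalso
    all_goals have hev : 2 ∣ O.ncard → False := fun e => Nat.not_even_iff_odd.2 hodd (even_iff_two_dvd.2 e)
    all_goals refine hev ?_
    all_goals rw [← Set.ncard_image_of_injective O Subtype.val_injective]
    · have hset : Subtype.val '' O = insert t ((D : Set G) \ {1}) := by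
        ext x
        simp only [Set.mem_image, Set.mem_insert_iff, Set.mem_sdiff, Set.mem_singleton_iff, SetLike.mem_coe]
        constructor
        · rintro ⟨v, hv, rfl⟩
          rcases h.T_cases v.2 with hd | ⟨u, hu, he⟩
          · exact Or.inr ⟨hd, fun e => h1 v hv (Subtype.ext e)⟩
          · rcases eq_or_ne u 1 with rfl | hu1
            · exact Or.inl (by rw [he, mul_one])
            · exact absurd ⟨v, hv, u, hu, hu1, he⟩ hB
        · rintro (rfl | ⟨hx, hx1⟩)
          · exact ⟨t₀, MulAction.mem_orbit_self t₀, rfl⟩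
          · obtain ⟨w, hw, hwD⟩ := hA
            obtain ⟨i, hi⟩ := h.trans w hwD (fun e => h1 w hw (Subtype.ext e)) x hx hx1
            exact ⟨(σ₀ ^ i) w, hst w hw i, by rw [hσi, hi]⟩
      rw [hset, Set.ncard_insert_of_notMem (fun e => h.tD e.1), Set.ncard_sdiff_singleton_add_one (one_mem D),
        ← Nat.card_coe_set_eq]
      exact hq
    · have hset : Subtype.val '' O = (fun u => t * u) '' (D : Set G) := by
        ext x
        simp only [Set.mem_image, SetLike.mem_coe]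
        constructor
        · rintro ⟨v, hv, rfl⟩
          rcases h.T_cases v.2 with hd | ⟨u, hu, he⟩
          · exact absurd ⟨v, hv, hd⟩ hA
          · exact ⟨u, hu, he.symm⟩
        · rintro ⟨u, hu, rfl⟩
          rcases eq_or_ne u 1 with rfl | hu1
          · exact ⟨t₀, MulAction.mem_orbit_self t₀, (mul_one t).symm⟩
          obtain ⟨w, hw, a, ha, ha1, hwa⟩ := hB
          obtain ⟨i, hi⟩ := h.trans a ha ha1 u hu hu1
          refine ⟨(σ₀ ^ i) w, hst w hw i, ?_⟩
          rw [hσi, hwa, show σ ^ i * (t * a) * (σ ^ i)⁻¹ = σ ^ i * t * (σ ^ i)⁻¹ * (σ ^ i * a * (σ ^ i)⁻¹) by group,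
            h.σpow_t, hi]
      rw [hset, Set.ncard_image_of_injective _ (mul_right_injective t), ← Nat.card_coe_set_eq]
      exact hq
    · exfalso
      refine hy₁t ?_
      have hv : y₁ t₀ ∈ O := (hmemO _).2 ⟨y₁, hy₁, rfl⟩
      rcases h.T_cases (y₁ t₀).2 with hd | ⟨u, hu, he⟩
      · exact absurd ⟨_, hv, hd⟩ hA
      · rcases eq_or_ne u 1 with rfl | hu1
        · exact Subtype.ext (by rw [he, mul_one])
        · exact absurd ⟨_, hv, u, hu, hu1, he⟩ hB
  have hσX : σ₀ ∈ φ.range := ⟨_, rfl⟩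
  -- `t` moves
  obtain ⟨y₁, hy₁, hy₁t⟩ : ∃ y ∈ φ.range, y t₀ ≠ t₀ := by
    have hM : D.relIndex (S : Subgroup G) = 2 := by
      rw [← hTS]
      have h1 := Subgroup.index_mul_card (D.subgroupOf T)
      rw [Nat.card_congr (Subgroup.subgroupOfEquivOfLe h.DT).toEquiv, h.toCent.card_T] at h1
      exact Nat.eq_of_mul_eq_mul_right Nat.card_pos h1
    obtain ⟨u, hu, hc⟩ := exists_conj_mem hna S (hTS ▸ h.DT) hM h.ord (hTS ▸ h.tT) h.tD
    obtain ⟨g, hg⟩ := isConj_iff.1 hc
    obtain ⟨x, hx, hxt⟩ := fusion_of_abelian (p := 2) hsylT hab (g := g) h.tT (hg ▸ h.DT hu)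
    refine ⟨φ ⟨x, hx⟩, ⟨_, rfl⟩, fun e => h.tD ?_⟩
    have h2 := congrArg Subtype.val e
    rw [hφv] at h2
    rw [show t = u by rw [← hg, ← hxt]; exact h2.symm]
    exact hu
  have hXn : ∀ y ∈ φ.range, σ₀ * y * σ₀⁻¹ ∈ φ.range := fun y hy =>
    mul_mem (mul_mem hσX hy) (inv_mem hσX)
  have hXt := htrans φ.range hXodd hXn ⟨y₁, hy₁, hy₁t⟩
  -- an abelian normal subgroup
  obtain ⟨A, hAn, hAc, hA1⟩ : ∃ A : Subgroup φ.range, A.Normal ∧ (∀ a ∈ A, ∀ b ∈ A, a * b = b * a) ∧ A ≠ ⊥ := by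
    have hsol : ∃ k, derivedSeries φ.range k = ⊥ :=
      (Solv.Partition.odd_solvable hXodd).solvable
    have hk := Nat.find_spec hsol
    rcases hk0 : Nat.find hsol with _ | k
    · rw [hk0, derivedSeries_zero] at hk
      exfalso
      refine hy₁t ?_
      have h2 : (⟨y₁, hy₁⟩ : φ.range) ∈ (⊤ : Subgroup φ.range) := Subgroup.mem_top _
      rw [hk, Subgroup.mem_bot] at h2
      rw [show y₁ = 1 from congrArg Subtype.val h2]
      rfl
    · rw [hk0, derivedSeries_succ] at hk
      refine ⟨derivedSeries φ.range k, derivedSeries_normal _ k, fun a ha b hb => ?_,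
        Nat.find_min hsol (by omega)⟩
      exact Subgroup.mem_centralizer_iff.1 (Subgroup.commutator_eq_bot_iff_le_centralizer.1 hk hb) a ha
  set A' := A.map φ.range.subtype with hA'
  have hA'odd : Odd (Nat.card A') := by
    rw [hA', Subgroup.card_map_of_injective φ.range.subtype_injective]
    exact hXodd.of_dvd_nat (Subgroup.card_subgroup_dvd_card A)
  have hA'n : ∀ x ∈ φ.range, ∀ a ∈ A', x * a * x⁻¹ ∈ A' := by
    rintro x hx _ ⟨a, ha, rfl⟩
    exact ⟨⟨x, hx⟩ * a * ⟨x, hx⟩⁻¹, hAn.conj_mem a ha _, rfl⟩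
  have hA'ab : ∀ a ∈ A', ∀ b ∈ A', a * b = b * a := by
    rintro _ ⟨a, ha, rfl⟩ _ ⟨b, hb, rfl⟩
    rw [← map_mul, hAc a ha b hb, map_mul]
  have hA'move : ∃ a ∈ A', a t₀ ≠ t₀ := by
    by_contra! hfix
    refine hA1 ((Subgroup.eq_bot_iff_forall A).2 fun a ha => Subtype.ext (MulEquiv.ext fun v => ?_))
    show (a : MulAut ↥T) v = v
    rcases eq_or_ne v 1 with rfl | hv
    · exact map_one _
    obtain ⟨x, hx, rfl⟩ := hXt v hv
    have h3 := hfix _ (hA'n _ (inv_mem hx) a ⟨a, ha, rfl⟩)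
    rw [inv_inv, MulAut.mul_apply, MulAut.mul_apply] at h3
    calc (a : MulAut ↥T) (x t₀) = x (x⁻¹ ((a : MulAut ↥T) (x t₀))) := (x.apply_symm_apply _).symm
      _ = x t₀ := by rw [h3]
  have hA't := htrans A' hA'odd (hA'n σ₀ hσX) hA'move
  set B : Set ↥T := {v | (v : G) ∈ D ∧ v ≠ 1}
  have hbound := abelian_bound (m := n + 1) (by rw [h.toCent.card_T, h.card, pow_succ'])
    (fun x => Subtype.ext (h.sq_T x.2)) A' hA'ab t₀
    (fun e => h.tD (by rw [show t = 1 from congrArg Subtype.val e]; exact one_mem D)) hA't σ₀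
    (hA'n σ₀ hσX) hσt B (fun v hv => hv.2) (fun u hu v hv => by
      obtain ⟨i, hi⟩ := h.trans u hu.1 (fun e => hu.2 (Subtype.ext e)) v hv.1 (fun e => hv.2 (Subtype.ext e))
      exact ⟨i, Subtype.ext (by rw [hσi, hi])⟩)
  have hBc : B.ncard + 1 = 2 ^ n := by
    rw [← Set.ncard_image_of_injective B Subtype.val_injective, show Subtype.val '' B = (D : Set G) \ {1} by
      ext x
      simp only [B, Set.mem_image, Set.mem_ofPred_eq, Set.mem_sdiff, Set.mem_singleton_iff, SetLike.mem_coe]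
      exact ⟨fun ⟨v, hv, e⟩ => e ▸ ⟨hv.1, fun e1 => hv.2 (Subtype.ext e1)⟩,
        fun ⟨hx, hx1⟩ => ⟨⟨x, h.DT hx⟩, ⟨hx, fun e1 => hx1 (congrArg Subtype.val e1)⟩, rfl⟩⟩,
      Set.ncard_sdiff_singleton_add_one (one_mem D), ← Nat.card_coe_set_eq]
    exact h.card
  have hgrow : ∀ k, 3 ≤ k → k + 2 < 2 ^ k := by
    intro k hk
    induction k, hk using Nat.le_induction with
    | base => norm_num
    | succ k hk ih => rw [pow_succ]; omega
  have := hgrow n hn
  omega

end ECent

end Cfsg.Agent.Fusion.L2Cent
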