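import Cfsg.Agent.Lib.Fusion.L2Cent.DihedralMain
import Cfsg.Agent.Lib.Fusion.L2Cent.SylowT
import Cfsg.Agent.Lib.Fusion.L2Cent.Step
import Cfsg.Agent.Lib.Fusion.L2Cent.Rigid
import Cfsg.Agent.Lib.Fusion.L2Cent.EightFinal

/-!
# An involution with centraliser `Z₂ × PSL(2, q)` modulo the core: the Sylow subgroups have order eight
-/

set_option autoImplicit false
set_option linter.style.haveILetI false
set_option linter.unusedSectionVars false

namespace Cfsg.Agent.Fusion.L2Cent

universe u v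

variable {G : Type u} [Group G] [Finite G] [IsSimpleGroup G] {t : G} {T D : Subgroup G} {n : ℕ}

/-- There is no tower when `⟨t⟩ × D` is not a Sylow subgroup. -/
theorem no_tower (hna : ¬ IsMulCommutative G) (hf : Fused t T D) {σ : G} (h : ECent t T D n σ) {m : ℕ}
    {P W : Subgroup G} (hw : Tow t σ D m P W) : False := by
  classical
  rcases Tow.dichotomy h hf hw with hall | htr
  · exact Tow.fixed_false h hf hw hna hall
  by_cases hg : ∃ g ∈ Subgroup.normalizer (P : Set G), Triv D g ∧ dlt t m g ≠ 1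
  · obtain ⟨σ', h', hw', R, U, hr⟩ := Tow.exists_trans h hf hw hg
    obtain ⟨hnext, hlt⟩ := hr.next h' hf hw' hna
    exact no_tower hna hf h' hnext
  push Not at hg
  obtain ⟨hn, h8⟩ := Tow.rigid h hf hw htr hg
  obtain ⟨R, i, j, χ, f⟩ := Tow.exists_frame h hf hw hn hg h8
  rcases Nat.lt_or_ge m 2 with hm | hm
  · obtain rfl : m = 1 := by have := hw.one_le; omega
    obtain ⟨rfl, rfl⟩ := Tow.eq_of_one h hf hw rfl
    exact Frame.small_false h hf hw hn hg hna f
  · exact f.big_false h hf hw hna hm htr hg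
termination_by Nat.card G - Nat.card P
decreasing_by
  have := Subgroup.card_le_card_group R
  omega

/-- The Sylow two-subgroups are elementary abelian of order eight. -/
theorem sylow_eight (hna : ¬ IsMulCommutative G) (ht : orderOf t = 2) {P : Type v} [Group P] (hM : Model P)
    (hL : Nonempty (↥(Subgroup.closure {x : (↥(Subgroup.centralizer ({t} : Set G)) ⧸
      Cfsg.oddCore ↥(Subgroup.centralizer ({t} : Set G))) | ∃ k : ℕ, orderOf x = 2 ^ k}) ≃*
      (Multiplicative (ZMod 2) × P))) (S : Sylow 2 G) :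
    Nat.card ↥(S : Subgroup G) = 8 ∧ ∀ x ∈ (S : Subgroup G), x ^ 2 = 1 := by
  classical
  haveI : Fact (Nat.Prime 2) := ⟨Nat.prime_two⟩
  obtain ⟨T, D, ⟨n, σ, h⟩ | ⟨h, r, n, hD⟩⟩ := setup ht hM hL
  swap
  · exact (dihedral_false h hD hna).elim
  obtain ⟨S₀, hTS⟩ := h.syl.isPGroup.exists_le_sylow
  by_cases hne : T = (S₀ : Subgroup G)
  · have hn2 : n = 2 := by
      refine le_antisymm (not_lt.1 fun hn => h.sylowT_false hna S₀ hne hn) h.two_le
    have hcard : Nat.card ↥(S₀ : Subgroup G) = 8 := by rw [← hne, h.toCent.card_T, h.card, hn2]; rfl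
    obtain ⟨g, -, hg⟩ := (sylIn_top S₀).conj_eq (sylIn_top S)
    refine ⟨by rw [← hg, card_cj, hcard], fun x hx => ?_⟩
    rw [← hg, ← hne, mem_cj] at hx
    have h2 := h.sq_T hx
    rw [show g⁻¹ * x * g * (g⁻¹ * x * g) = g⁻¹ * (x * x) * g⁻¹⁻¹ by group] at h2
    rw [pow_two]
    exact conj_eq_one_iff.1 h2
  · obtain ⟨h1, h2, h3⟩ := h.orbit S₀ hTS hne
    exact (no_tower hna ⟨h1, h2, h3⟩ h h.tow_one).elim

end Cfsg.Agent.Fusion.L2Cent
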