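import Cfsg.Agent.Lib.PushUp.SL2Overgroup
import Cfsg.Agent.Lib.Fusion.BurnsideFusion
import Cfsg.Agent.Lib.Fusion.Product.DihBasic
import Cfsg.Agent.Lib.Lie.PSLClassSizes.PSLFacts
import Cfsg.Agent.Lib.Classical.SL2FourSylow
import Cfsg.Agent.Lib.Classical.SL2Four

/-!
# The Sylow `2`-subgroups of `PSL(2, q)`, `q > 3`

One class of involutions, and either a dihedral group of order at least eight, or an elementary
abelian group on which the normaliser acts as a cyclic group, transitively on the involutions.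
-/

set_option autoImplicit false
set_option linter.style.haveILetI false
set_option linter.unusedSectionVars false

namespace Cfsg.Agent.Fusion.L2Cent

open Cfsg.Agent.Small
open scoped commutatorElement

universe u

/-- An elementary abelian subgroup of order `2 ^ n`, `n ≥ 2`, on which the normaliser induces a cyclic
group transitive on the non-identity elements. -/
structure Elem {P : Type u} [Group P] (Q : Subgroup P) (n : ℕ) : Prop where
  two_le : 2 ≤ n
  card : Nat.card Q = 2 ^ n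
  sq : ∀ x ∈ Q, x * x = 1
  cyc : ∃ s ∈ Subgroup.normalizer (Q : Set P),
    (∀ u ∈ Q, u ≠ 1 → ∀ v ∈ Q, v ≠ 1 → ∃ i : ℕ, s ^ i * u * (s ^ i)⁻¹ = v) ∧
      ∀ g ∈ Subgroup.normalizer (Q : Set P), ∃ i : ℕ, ∀ u ∈ Q, g * u * g⁻¹ = s ^ i * u * (s ^ i)⁻¹

/-- The facts about `PSL(2, q)` which are used. -/
structure Model (P : Type u) [Group P] : Prop where
  center : ∀ z : P, (∀ x : P, z * x = x * z) → z = 1
  perfect : commutator P = ⊤
  sylow : ∃ Q : Sylow 2 P, (∀ u ∈ (Q : Subgroup P), orderOf u = 2 → ∀ v ∈ (Q : Subgroup P), orderOf v = 2 →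
      IsConj u v) ∧ ((∃ n, Elem (Q : Subgroup P) n) ∨ ∃ r n, StrongProd.Dih (Q : Subgroup P) r n)

variable {P : Type u} [Group P] [Finite P]

/-- An elementary four-group Sylow subgroup with one class of involutions. -/
theorem elem_of_klein (Q : Sylow 2 P) [hV : IsKleinFour (Q : Subgroup P)]
    (hc : ∀ u ∈ (Q : Subgroup P), orderOf u = 2 → ∀ v ∈ (Q : Subgroup P), orderOf v = 2 → IsConj u v) :
    Elem (Q : Subgroup P) 2 := by
  haveI : Fact (Nat.Prime 2) := ⟨Nat.prime_two⟩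
  have h4 : Nat.card (Q : Subgroup P) = 4 := IsKleinFour.card_four
  have hsq : ∀ x ∈ (Q : Subgroup P), x * x = 1 := fun x hx =>
    congrArg Subtype.val (IsKleinFour.mul_self (⟨x, hx⟩ : (Q : Subgroup P)))
  have hord : ∀ x ∈ (Q : Subgroup P), x ≠ 1 → orderOf x = 2 := fun x hx h1 =>
    orderOf_eq_prime (by rw [sq]; exact hsq x hx) h1
  have hab : (Q : Subgroup P) ≤ Subgroup.centralizer ((Q : Subgroup P) : Set P) := fun x hx =>
    Subgroup.mem_centralizer_iff.2 fun y hy => by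
      have h := hsq _ (mul_mem hx hy)
      calc y * x = (x * x) * (y * x) * (y * y) := by rw [hsq x hx, hsq y hy, one_mul, mul_one]
        _ = x * (x * y * (x * y)) * y := by group
        _ = x * y := by rw [h, mul_one]
  haveI : Nontrivial (Q : Subgroup P) := Finite.one_lt_card_iff_nontrivial.1 (by omega)
  obtain ⟨⟨u, hu⟩, hu1⟩ := exists_ne (1 : (Q : Subgroup P))
  have hu1 : u ≠ 1 := fun h => hu1 (Subtype.ext h)
  obtain ⟨v, hv, hv1, hvu⟩ : ∃ v ∈ (Q : Subgroup P), v ≠ 1 ∧ v ≠ u := by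
    by_contra! hall
    have h2 : ((Q : Subgroup P) : Set P) ⊆ {1, u} := fun x hx =>
      (eq_or_ne x 1).imp_right (fun h => hall x hx h)
    have h3 := Set.ncard_le_ncard h2 (Set.toFinite _)
    rw [← Nat.card_coe_set_eq, SetLike.coe_sort_coe, h4] at h3
    have h5 : ({1, u} : Set P).ncard ≤ ({u} : Set P).ncard + 1 := Set.ncard_insert_le _ _
    rw [Set.ncard_singleton] at h5
    omega
  have huv1 : u * v ≠ 1 := fun h => hvu (mul_left_cancel (a := u) (by rw [h, hsq u hu]))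
  have huvu : u * v ≠ u := fun h => hv1 (mul_left_cancel (a := u) (by rw [h, mul_one]))
  have huvv : u * v ≠ v := fun h => hu1 (mul_right_cancel (b := v) (by rw [h, one_mul]))
  have hall : ∀ x ∈ (Q : Subgroup P), x = 1 ∨ x = u ∨ x = v ∨ x = u * v := by
    intro x hx
    by_contra! hne
    have h2 : ({1, u, v, u * v, x} : Set P) ⊆ ((Q : Subgroup P) : Set P) := by
      rintro y (rfl | rfl | rfl | rfl | rfl)
      exacts [one_mem _, hu, hv, mul_mem hu hv, hx]
    have h3 := Set.ncard_le_ncard h2 (Set.toFinite _)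
    rw [← Nat.card_coe_set_eq ((Q : Subgroup P) : Set P), SetLike.coe_sort_coe, h4,
      Set.ncard_insert_of_notMem (by simp [Ne.symm hu1, Ne.symm hv1, Ne.symm huv1, Ne.symm hne.1]),
      Set.ncard_insert_of_notMem (by simp [Ne.symm hvu, Ne.symm huvu, Ne.symm hne.2.1]),
      Set.ncard_insert_of_notMem (by simp [Ne.symm huvv, Ne.symm hne.2.2.1]),
      Set.ncard_insert_of_notMem (by simp [Ne.symm hne.2.2.2]), Set.ncard_singleton] at h3
    omega
  have hmem : ∀ {g}, g ∈ Subgroup.normalizer ((Q : Subgroup P) : Set P) → ∀ {x}, x ∈ (Q : Subgroup P) →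
      g * x * g⁻¹ ∈ (Q : Subgroup P) := fun hg x hx => (Subgroup.mem_normalizer_iff.1 hg x).1 hx
  -- an element of the normaliser fixing one involution centralises the four-group
  have hfix : ∀ g ∈ Subgroup.normalizer ((Q : Subgroup P) : Set P), ∀ x ∈ (Q : Subgroup P), x ≠ 1 →
      g * x * g⁻¹ = x → ∀ y ∈ (Q : Subgroup P), g * y * g⁻¹ = y := by
    intro g hg x hx hx1 hgx y hy
    obtain ⟨a, b, hb, hab'⟩ := Nat.exists_eq_two_pow_mul_odd (n := orderOf g) (orderOf_pos g).ne'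
    have hconj : ∀ (m : ℕ) (z : P), g ^ m * z * (g ^ m)⁻¹ = (MulAut.conj g ^ m) z := fun m z => by
      rw [← map_pow]; rfl
    -- the square acts trivially
    have h2y : g * (g * y * g⁻¹) * g⁻¹ = y := by
      by_contra hne
      set y' := g * y * g⁻¹ with hy'
      have hy'Q : y' ∈ (Q : Subgroup P) := hmem hg hy
      have hy1 : y ≠ 1 := fun h => hne (by rw [hy', h]; group)
      have hyx : y ≠ x := fun h => hne (by rw [hy', h, hgx, hgx])
      have hy'x : y' ≠ x := fun h => hyx (by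
        have h0 : g * y * g⁻¹ = g * x * g⁻¹ := by rw [hgx]; exact h
        exact mul_left_cancel (mul_right_cancel h0))
      have hy'1 : y' ≠ 1 := fun h => hy1 (by
        have h0 : g * y * g⁻¹ = 1 := h
        calc y = g⁻¹ * (g * y * g⁻¹) * g := by group
          _ = 1 := by rw [h0]; group)
      have hy'y : y' ≠ y := fun h => hne (by rw [h]; exact h)
      set y'' := g * y' * g⁻¹
      have h4' : ({1, x, y, y', y''} : Set P) ⊆ ((Q : Subgroup P) : Set P) := by
        rintro w (rfl | rfl | rfl | rfl | rfl)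
        exacts [one_mem _, hx, hy, hy'Q, hmem hg hy'Q]
      have h3 := Set.ncard_le_ncard h4' (Set.toFinite _)
      have e1 : y'' ≠ 1 := fun h => hy'1 (by
        calc y' = g⁻¹ * (g * y' * g⁻¹) * g := by group
          _ = 1 := by rw [show g * y' * g⁻¹ = 1 from h]; group)
      have e2 : y'' ≠ x := fun h => hy'x (by
        have h0 : g * y' * g⁻¹ = g * x * g⁻¹ := by rw [hgx]; exact h
        exact mul_left_cancel (mul_right_cancel h0))
      have e3 : y'' ≠ y' := fun h => hy'y (by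
        have h0 : g * y' * g⁻¹ = g * y * g⁻¹ := h
        exact mul_left_cancel (mul_right_cancel h0))
      rw [← Nat.card_coe_set_eq ((Q : Subgroup P) : Set P), SetLike.coe_sort_coe, h4,
        Set.ncard_insert_of_notMem (by simp [Ne.symm hx1, Ne.symm hy1, Ne.symm hy'1, Ne.symm e1]),
        Set.ncard_insert_of_notMem (by simp [Ne.symm hyx, Ne.symm hy'x, Ne.symm e2]),
        Set.ncard_insert_of_notMem (by simp [Ne.symm hy'y, Ne.symm (show y'' ≠ y from hne)]),
        Set.ncard_insert_of_notMem (by simp [Ne.symm e3]), Set.ncard_singleton] at h3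
      omega
    -- the odd part of the order
    have hbact : g ^ b * y * (g ^ b)⁻¹ = y := by
      have hgb : g ^ b ∈ (Q : Subgroup P) := by
        obtain ⟨T, hT⟩ : ∃ T : Subgroup P, T = Subgroup.zpowers (g ^ b) ⊔ (Q : Subgroup P) := ⟨_, rfl⟩
        have hp : IsPGroup 2 (Subgroup.zpowers (g ^ b)) := by
          intro z
          obtain ⟨_, i, rfl⟩ := z
          refine ⟨a, Subtype.ext ?_⟩
          have h1 : (g ^ b) ^ (2 ^ a) = 1 := by rw [← pow_mul, mul_comm, ← hab', pow_orderOf_eq_one]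
          show ((g ^ b) ^ i) ^ (2 ^ a) = 1
          rw [← zpow_natCast, ← zpow_mul, mul_comm, zpow_mul, zpow_natCast, h1, one_zpow]
        have hle : Subgroup.zpowers (g ^ b) ≤ Subgroup.normalizer ((Q : Subgroup P) : Set P) :=
          Subgroup.zpowers_le.2 (pow_mem hg b)
        have hTp : IsPGroup 2 T := hT ▸ hp.to_sup_of_normal_right' Q.isPGroup' hle
        exact (Q.3 hTp (hT ▸ le_sup_right)) ▸ (hT ▸ Subgroup.mem_sup_left (Subgroup.mem_zpowers _))
      rw [Subgroup.mem_centralizer_iff.1 (hab hy) _ hgb, mul_inv_cancel_right]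
    obtain ⟨c, rfl⟩ := hb
    have hyfix : ∀ m : ℕ, g ^ (2 * m) * y * (g ^ (2 * m))⁻¹ = y := by
      intro m
      induction m with
      | zero => simp
      | succ m ih =>
        rw [Nat.mul_succ, pow_add]
        calc g ^ (2 * m) * g ^ 2 * y * (g ^ (2 * m) * g ^ 2)⁻¹
            = g ^ (2 * m) * (g * (g * y * g⁻¹) * g⁻¹) * (g ^ (2 * m))⁻¹ := by rw [sq]; group
          _ = y := by rw [h2y, ih]
    rw [pow_succ'] at hbact
    calc g * y * g⁻¹ = g * (g ^ (2 * c) * y * (g ^ (2 * c))⁻¹) * g⁻¹ := by rw [hyfix]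
      _ = g * g ^ (2 * c) * y * (g * g ^ (2 * c))⁻¹ := by group
      _ = y := hbact
  obtain ⟨g₀, hg₀⟩ := isConj_iff.1 (hc u hu (hord u hu hu1) v hv (hord v hv hv1))
  obtain ⟨s, hs, hsu⟩ := fusion_of_abelian (Fusion.sylIn_top Q) hab hu (by rw [hg₀]; exact hv)
  rw [hg₀] at hsu
  have hsv : s * v * s⁻¹ = u * v := by
    have hm := hmem hs hv
    rcases hall _ hm with h | h | h | h
    · exfalso
      apply hv1
      calc v = s⁻¹ * (s * v * s⁻¹) * s := by group
        _ = 1 := by rw [h]; group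
    · exfalso
      have hfx : s * (u * v) * s⁻¹ = u * v := by
        calc s * (u * v) * s⁻¹ = (s * u * s⁻¹) * (s * v * s⁻¹) := by group
          _ = v * u := by rw [hsu, h]
          _ = u * v := Subgroup.mem_centralizer_iff.1 (hab hu) v hv
      have := hfix s hs _ (mul_mem hu hv) huv1 hfx u hu
      rw [hsu] at this
      exact hvu this
    · exfalso
      have h0 : s * v * s⁻¹ = s * u * s⁻¹ := by rw [hsu, h]
      exact hvu (mul_left_cancel (mul_right_cancel h0))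
    · exact h
  have hsuv : s * (u * v) * s⁻¹ = u := by
    calc s * (u * v) * s⁻¹ = (s * u * s⁻¹) * (s * v * s⁻¹) := by group
      _ = v * (u * v) := by rw [hsu, hsv]
      _ = v * (v * u) := by rw [Subgroup.mem_centralizer_iff.1 (hab hv) u hu]
      _ = u := by rw [← mul_assoc, hsq v hv, one_mul]
  have htrans : ∀ x ∈ (Q : Subgroup P), x ≠ 1 → ∀ y ∈ (Q : Subgroup P), y ≠ 1 →
      ∃ i : ℕ, s ^ i * x * (s ^ i)⁻¹ = y := by
    have h2 : ∀ z, s ^ 2 * z * (s ^ 2)⁻¹ = s * (s * z * s⁻¹) * s⁻¹ := fun z => by rw [sq]; group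
    intro x hx hx1 y hy hy1
    rcases hall x hx with rfl | rfl | rfl | rfl <;> rcases hall y hy with rfl | rfl | rfl | rfl
    all_goals first
      | exact absurd rfl hx1
      | exact absurd rfl hy1
      | (refine ⟨0, ?_⟩; rw [pow_zero, one_mul, inv_one, mul_one]; done)
      | (refine ⟨1, ?_⟩; rw [pow_one]; assumption)
      | (refine ⟨2, ?_⟩; rw [h2, hsu, hsv]; done)
      | (refine ⟨2, ?_⟩; rw [h2, hsv, hsuv]; done)
      | (refine ⟨2, ?_⟩; rw [h2, hsuv, hsu]; done)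
  refine ⟨le_rfl, h4, hsq, s, hs, htrans, fun g hg => ?_⟩
  have hgu1 : g * u * g⁻¹ ≠ 1 := fun h => hu1 (by
    calc u = g⁻¹ * (g * u * g⁻¹) * g := by group
      _ = 1 := by rw [h]; group)
  obtain ⟨i, hi⟩ := htrans u hu hu1 _ (hmem hg hu) hgu1
  refine ⟨i, fun x hx => ?_⟩
  have hk : (s ^ i)⁻¹ * g * u * ((s ^ i)⁻¹ * g)⁻¹ = u := by
    calc (s ^ i)⁻¹ * g * u * ((s ^ i)⁻¹ * g)⁻¹ = (s ^ i)⁻¹ * (g * u * g⁻¹) * s ^ i := by group
      _ = (s ^ i)⁻¹ * (s ^ i * u * (s ^ i)⁻¹) * s ^ i := by rw [hi]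
      _ = u := by group
  have hx' := hfix _ (mul_mem (inv_mem (pow_mem hs i)) hg) u hu hu1 hk x hx
  calc g * x * g⁻¹ = s ^ i * ((s ^ i)⁻¹ * g * x * ((s ^ i)⁻¹ * g)⁻¹) * (s ^ i)⁻¹ := by group
    _ = s ^ i * x * (s ^ i)⁻¹ := by rw [hx']

section PSL

variable {F : Type*} [Field F] [Fintype F]

local notation "P2" => Matrix.ProjectiveSpecialLinearGroup (Fin 2) F

theorem psl_center (hF : 3 < Fintype.card F) : (∀ z : P2, (∀ x : P2, z * x = x * z) → z = 1) ∧
    commutator P2 = ⊤ := by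
  haveI : IsSimpleGroup P2 :=
    Matrix.ProjectiveSpecialLinearGroup.rank_two_simple (by rw [Nat.card_eq_fintype_card]; omega)
  have hnc : ¬ ∀ a b : P2, a * b = b * a := by
    intro h
    have h1 : PSL2.pr (PSL2.wS : Matrix.SpecialLinearGroup (Fin 2) F) * PSL2.pr (PSL2.uS 1) =
        PSL2.pr (PSL2.vS (-1)) * PSL2.pr (PSL2.wS) := by rw [← map_mul, PSL2.wS_uS, map_mul]
    rw [h (PSL2.pr PSL2.wS)] at h1
    exact PSL2.pr_vS_ne_uS (y := (-1 : F)) (by simp) 1 (mul_right_cancel h1).symm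
  refine ⟨fun z hz => ?_, ?_⟩
  · have hzc : z ∈ Subgroup.center P2 := Subgroup.mem_center_iff.2 fun x => (hz x).symm
    rcases (inferInstance : (Subgroup.center P2).Normal).eq_bot_or_eq_top with h | h
    · rwa [h, Subgroup.mem_bot] at hzc
    · exact absurd (fun a b => Subgroup.mem_center_iff.1 (h ▸ Subgroup.mem_top b) a) hnc
  · rcases (inferInstance : (commutator P2).Normal).eq_bot_or_eq_top with h | h
    · refine absurd (fun a b => ?_) hnc
      have := Subgroup.mem_bot.1 (h ▸ Subgroup.commutator_mem_commutator (Subgroup.mem_top a) (Subgroup.mem_top b) :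
        ⁅a, b⁆ ∈ (⊥ : Subgroup P2))
      exact commutatorElement_eq_one_iff_mul_comm.1 this
    · exact h

/-- The Borel subgroup normalises the root group through squares of units. -/
theorem borel_act {g : P2} (hg : g ∈ Classical.Dickson.borelP F) :
    ∃ a : Fˣ, ∀ x : F, g * PSL2.pr (PSL2.uS x) * g⁻¹ = PSL2.pr (PSL2.uS ((a : F) ^ 2 * x)) := by
  obtain ⟨B, hB, rfl⟩ := hg
  have hd := Fusion.Dickson.det_eq B
  rw [show B.1 1 0 = 0 from hB, mul_zero, sub_zero] at hd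
  refine ⟨Units.mk0 (B.1 0 0) (left_ne_zero_of_mul_eq_one hd), fun x => ?_⟩
  rw [← map_inv, ← map_mul, ← map_mul]
  congr 1
  obtain ⟨i1, i2, i3, i4⟩ := Fusion.Dickson.inv_entries B
  apply Fusion.Dickson.ext' <;>
    simp [Classical.Dickson.uS_eq_upU, Fusion.Dickson.mul_entry, i1, i2, i3, i4, show B.1 1 0 = 0 from hB]
  · linear_combination hd
  · ring
  · linear_combination hd

theorem model_even (h2 : (2 : F) = 0) (hF : 3 < Fintype.card F) : Model P2 := by
  classical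
  haveI : Fact (Nat.Prime 2) := ⟨Nat.prime_two⟩
  obtain ⟨p, hpc, ⟨f, hf0⟩, hp, hcard0⟩ := FiniteField.card' F
  have hp2 : p = 2 := by
    have h := (CharP.cast_eq_zero_iff F p 2).1 (by exact_mod_cast h2)
    exact (Nat.prime_dvd_prime_iff_eq hp Nat.prime_two).1 h
  subst hp2
  have hf : Fintype.card F = 2 ^ f := hcard0
  obtain ⟨hcen, hperf⟩ := psl_center hF
  let Q : Sylow 2 P2 := ⟨PSL2.U, PSL2.isPGroup_U hf, fun hQ hle => PSL2.U_maximal hQ hle⟩
  have hcard : Nat.card (PSL2.U : Subgroup P2) = 2 ^ f := PushUp.card_U'.trans hf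
  have hf2 : 2 ≤ f := by
    by_contra h
    interval_cases f <;> omega
  have hact : ∀ a : Fˣ, ∀ x : F, PSL2.pr (PSL2.hS a) * PSL2.pr (PSL2.uS x) * (PSL2.pr (PSL2.hS a))⁻¹ =
      PSL2.pr (PSL2.uS ((a : F) ^ 2 * x)) := fun a x => by
    rw [← map_mul, PSL2.hS_uS, map_mul, mul_inv_cancel_right]
  have hnorm : ∀ a : Fˣ, PSL2.pr (PSL2.hS a) ∈ Subgroup.normalizer ((PSL2.U : Subgroup P2) : Set P2) :=
    fun a => Classical.Dickson.borelP_le_normalizer ⟨PSL2.hS a, (show (PSL2.hS a : Matrix.SpecialLinearGroup (Fin 2) F).1 1 0 = 0 by simp [PSL2.hS]), rfl⟩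
  obtain ⟨ζ, hζ⟩ := IsCyclic.exists_generator (α := Fˣ)
  have hsq : ∀ a : Fˣ, ∃ i : ℕ, (a : F) = ((ζ ^ i : Fˣ) : F) ^ 2 := by
    intro a
    obtain ⟨b, hb⟩ := (FiniteField.isSquare_of_char_two (ringChar.eq F 2) (a : F))
    have hb0 : b ≠ 0 := fun h => a.ne_zero (by rw [hb, h, mul_zero])
    obtain ⟨i, hi⟩ := (mem_powers_iff_mem_zpowers (x := ζ)).2 (hζ (Units.mk0 b hb0))
    exact ⟨i, by rw [show ζ ^ i = Units.mk0 b hb0 from hi, Units.val_mk0, sq]; exact hb⟩
  have hpow : ∀ (i : ℕ) (x : F), PSL2.pr (PSL2.hS ζ) ^ i * PSL2.pr (PSL2.uS x) * (PSL2.pr (PSL2.hS ζ) ^ i)⁻¹ =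
      PSL2.pr (PSL2.uS (((ζ ^ i : Fˣ) : F) ^ 2 * x)) := by
    intro i
    induction i with
    | zero => intro x; simp
    | succ i ih =>
      intro x
      rw [pow_succ]
      calc _ = PSL2.pr (PSL2.hS ζ) ^ i * (PSL2.pr (PSL2.hS ζ) * PSL2.pr (PSL2.uS x) *
            (PSL2.pr (PSL2.hS ζ))⁻¹) * (PSL2.pr (PSL2.hS ζ) ^ i)⁻¹ := by group
        _ = _ := by rw [hact, ih, pow_succ ζ i, Units.val_mul, mul_pow, ← mul_assoc]
  have htrans : ∀ u ∈ (PSL2.U : Subgroup P2), u ≠ 1 → ∀ v ∈ (PSL2.U : Subgroup P2), v ≠ 1 →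
      ∃ i : ℕ, PSL2.pr (PSL2.hS ζ) ^ i * u * (PSL2.pr (PSL2.hS ζ) ^ i)⁻¹ = v := by
    intro u hu hu1 v hv hv1
    obtain ⟨x, rfl⟩ := (PSL2.mem_U u).1 hu
    obtain ⟨y, rfl⟩ := (PSL2.mem_U v).1 hv
    have h0 : PSL2.pr (PSL2.uS (0 : F)) = 1 := map_one (PSL2.uP (F := F))
    have hx : x ≠ 0 := fun h => hu1 (by rw [h, h0])
    have hy : y ≠ 0 := fun h => hv1 (by rw [h, h0])
    obtain ⟨i, hi⟩ := hsq (Units.mk0 (y / x) (div_ne_zero hy hx))
    exact ⟨i, by rw [hpow, ← hi, Units.val_mk0, div_mul_cancel₀ y hx]⟩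
  have hne : Subgroup.normalizer ((PSL2.U : Subgroup P2) : Set P2) ≠ ⊤ := by
    intro h
    haveI : IsSimpleGroup P2 :=
      Matrix.ProjectiveSpecialLinearGroup.rank_two_simple (by rw [Nat.card_eq_fintype_card]; omega)
    rcases (Subgroup.normalizer_eq_top_iff.1 h).eq_bot_or_eq_top with h' | h'
    · rw [h', Subgroup.card_bot] at hcard
      have : 1 < 2 ^ f := Nat.one_lt_two_pow (by omega)
      omega
    · refine PSL2.pr_vS_ne_uS (y := (1 : F)) one_ne_zero 0 ?_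
      exfalso
      obtain ⟨x, hx⟩ := (PSL2.mem_U _).1 (h' ▸ Subgroup.mem_top (PSL2.pr (PSL2.vS (1 : F))))
      exact PSL2.pr_vS_ne_uS one_ne_zero x hx.symm
  refine ⟨hcen, hperf, Q, fun u hu hu2 v hv hv2 => ?_, Or.inl ⟨f, hf2, hcard, fun x hx => ?_,
    PSL2.pr (PSL2.hS ζ), hnorm ζ, htrans, fun g hg => ?_⟩⟩
  · obtain ⟨i, hi⟩ := htrans u hu (fun h => by rw [h, orderOf_one] at hu2; omega) v hv
      (fun h => by rw [h, orderOf_one] at hv2; omega)
    exact isConj_iff.2 ⟨_, hi⟩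
  · obtain ⟨y, rfl⟩ := (PSL2.mem_U x).1 hx
    rw [← map_mul, ← PSL2.uS_add, show y + y = 0 by rw [← two_mul, h2, zero_mul]]
    exact map_one (PSL2.uP (F := F))
  · obtain ⟨a, ha⟩ := borel_act (PushUp.le_borelP Subgroup.le_normalizer hne hg)
    obtain ⟨i, hi⟩ := hsq a
    obtain ⟨j, hj⟩ : ∃ j : ℕ, (a : F) ^ 2 = ((ζ ^ j : Fˣ) : F) ^ 2 :=
      ⟨2 * i, by rw [hi, pow_mul, ← Units.val_pow_eq_pow_val, ← pow_mul, mul_comm i 2, pow_mul]⟩
    refine ⟨j, fun u hu => ?_⟩
    obtain ⟨x, rfl⟩ := (PSL2.mem_U u).1 hu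
    rw [ha, hpow, hj]

theorem model_odd (h2 : (2 : F) ≠ 0) (hF : 3 < Fintype.card F) : Model P2 := by
  classical
  haveI : Fact (Nat.Prime 2) := ⟨Nat.prime_two⟩
  obtain ⟨hcen, hperf⟩ := psl_center hF
  obtain ⟨Q⟩ : Nonempty (Sylow 2 P2) := inferInstance
  have hconj : ∀ u ∈ (Q : Subgroup P2), orderOf u = 2 → ∀ v ∈ (Q : Subgroup P2), orderOf v = 2 → IsConj u v :=
    fun u _ hu v _ hv => Classical.SL2Four.involutions_conj h2 hu hv
  refine ⟨hcen, hperf, Q, hconj, ?_⟩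
  -- a four-group inside
  obtain ⟨V, hV⟩ : ∃ V : Subgroup P2, IsKleinFour V := by
    by_contra hno
    have h := Classical.SL2Four.twelve_mul_card_klein (F := F) h2
    haveI : IsEmpty {V : Subgroup P2 // IsKleinFour V} := ⟨fun V => hno ⟨V.1, V.2⟩⟩
    rw [Nat.card_of_isEmpty, mul_zero] at h
    exact Nat.card_pos.ne' h.symm
  haveI := hV
  obtain ⟨V', hV', hV'c, hV'K⟩ : ∃ V' : Subgroup P2, V' ≤ (Q : Subgroup P2) ∧ Nat.card V' = 4 ∧
      ∀ x ∈ V', x * x = 1 := by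
    obtain ⟨c, -, hc⟩ := (Fusion.sylIn_top Q).conj_le
      (IsPGroup.of_card (p := 2) (n := 2) (IsKleinFour.card_four (G := V))) (le_top : V ≤ ⊤)
    refine ⟨Fusion.cj V c, hc, by rw [Fusion.card_cj]; exact IsKleinFour.card_four, fun x hx => ?_⟩
    have h := congrArg Subtype.val (IsKleinFour.mul_self (⟨_, Fusion.mem_cj.1 hx⟩ : V))
    calc x * x = c * ((c⁻¹ * x * c) * (c⁻¹ * x * c)) * c⁻¹ := by group
      _ = 1 := by rw [show (c⁻¹ * x * c) * (c⁻¹ * x * c) = 1 from h]; group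
  obtain ⟨C, hC, hS⟩ := Lie.ClassSizePSL.sylow_two_inverted h2 Q
  -- not all of the four-group is cyclic
  obtain ⟨x₀, hx₀V, hx₀C⟩ : ∃ x ∈ V', x ∉ C := by
    by_contra! h
    haveI := hC
    haveI : IsCyclic V' := Subgroup.isCyclic_of_le h
    obtain ⟨g, hg⟩ := IsCyclic.exists_ofOrder_eq_natCard (α := V')
    have h1 : orderOf g ∣ 2 := orderOf_dvd_of_pow_eq_one (Subtype.ext (by
      rw [Subgroup.coe_pow, sq]; exact hV'K g g.2))
    rw [hg, hV'c] at h1
    omega
  have hx₀ := hV' hx₀V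
  have hx₀2 := hV'K x₀ hx₀V
  have hinv := fun c hc => (hS x₀ hx₀ hx₀C).1 c hc
  set R : Subgroup P2 := (Q : Subgroup P2) ⊓ C with hR
  haveI : IsCyclic R := Subgroup.isCyclic_of_le (inf_le_right : R ≤ C)
  obtain ⟨⟨r, hr⟩, hgen⟩ := IsCyclic.exists_generator (α := R)
  have hrz : R = Subgroup.zpowers r := by
    refine le_antisymm (fun y hy => ?_) (Subgroup.zpowers_le.2 hr)
    obtain ⟨i, hi⟩ := hgen ⟨y, hy⟩
    exact ⟨i, congrArg Subtype.val hi⟩
  have hsplit : ∀ x ∈ (Q : Subgroup P2), x ∉ Subgroup.zpowers r → x * x = 1 ∧ x * r * x⁻¹ = r⁻¹ := by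
    intro x hx hxR
    have hxC : x ∉ C := fun h => hxR (hrz ▸ ⟨hx, h⟩)
    have hc : x₀ * x ∈ C := (hS x₀ hx₀ hx₀C).2 x hx hxC
    refine ⟨?_, (hS x hx hxC).1 r hr.2⟩
    have h := hinv _ hc
    calc x * x = x₀ * (x₀ * x) * x₀⁻¹ * (x₀ * x) := by
          rw [inv_eq_of_mul_eq_one_right hx₀2, ← mul_assoc x₀ x₀ x, hx₀2, one_mul, mul_assoc x x₀,
            ← mul_assoc x₀ x₀ x, hx₀2, one_mul]
      _ = 1 := by rw [h, inv_mul_cancel]
  by_cases h8 : Nat.card (Q : Subgroup P2) ≤ 4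
  · left
    have hQ4 : Nat.card (Q : Subgroup P2) = 4 :=
      le_antisymm h8 (hV'c ▸ Subgroup.card_le_of_le hV')
    have hQV : V' = (Q : Subgroup P2) := Subgroup.eq_of_le_of_card_ge hV' (by rw [hV'c, hQ4])
    haveI : IsKleinFour (Q : Subgroup P2) := by
      refine ⟨hQ4, ?_⟩
      refine ((Nat.dvd_prime Nat.prime_two).1 (Monoid.exponent_dvd_of_forall_pow_eq_one
        fun a => Subtype.ext (by rw [Subgroup.coe_pow, sq]; exact hV'K a (hQV ▸ a.2)))).resolve_left fun h => ?_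
      haveI := Monoid.exp_eq_one_iff.1 h
      rw [Nat.card_of_subsingleton (1 : (Q : Subgroup P2))] at hQ4
      omega
    exact ⟨2, elem_of_klein Q hconj⟩
  · right
    obtain ⟨e, he⟩ := IsPGroup.iff_card.1 Q.isPGroup'
    have hRQ : Nat.card (Q : Subgroup P2) = 2 * Nat.card R := by
      have hidx : (R.subgroupOf (Q : Subgroup P2)).index = 2 := by
        refine Subgroup.index_eq_two_iff.2 ⟨⟨x₀, hx₀⟩, fun b => ?_⟩
        simp only [Subgroup.mem_subgroupOf, Subgroup.coe_mul, hR, Subgroup.mem_inf]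
        by_cases hb : (b : P2) ∈ C
        · refine Or.inr ⟨⟨b.2, hb⟩, fun h => hx₀C ?_⟩
          exact (mul_mem_cancel_left hb).1 h.2
        · refine Or.inl ⟨⟨mul_mem b.2 hx₀, (hS _ b.2 hb).2 x₀ hx₀ hx₀C⟩, fun h => hb h.2⟩
      have h := Subgroup.index_mul_card (R.subgroupOf (Q : Subgroup P2))
      rw [hidx, Nat.card_congr (Subgroup.subgroupOfEquivOfLe (inf_le_left : R ≤ (Q : Subgroup P2))).toEquiv] at h
      exact h.symm
    have he3 : 3 ≤ e := by
      by_contra h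
      apply h8
      rw [he]
      exact le_trans (Nat.pow_le_pow_right two_pos (show e ≤ 2 by omega)) (by norm_num)
    refine ⟨r, 2 ^ (e - 3), hr.1, ?_, ⟨_, rfl⟩, hsplit, x₀, hx₀, fun h => hx₀C ?_⟩
    · rw [← Nat.card_zpowers, ← hrz]
      have : 2 ^ e = 8 * 2 ^ (e - 3) := by
        rw [show (8 : ℕ) = 2 ^ 3 by norm_num, ← pow_add]; congr 1; omega
      omega
    · have : x₀ ∈ R := hrz ▸ h
      exact this.2

theorem model (hF : 3 < Fintype.card F) : Model P2 := by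
  by_cases h2 : (2 : F) = 0
  · exact model_even h2 hF
  · exact model_odd h2 hF

end PSL

end Cfsg.Agent.Fusion.L2Cent
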