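import Cfsg.Agent.Lib.Fusion.L2Cent.Basic

/-!
# The elementary case: the conjugates of the involution in `⟨t⟩ × D`
-/

set_option autoImplicit false
set_option linter.style.haveILetI false
set_option linter.unusedSectionVars false

namespace Cfsg.Agent.Fusion.L2Cent

universe u

variable {G : Type u} [Group G] [Finite G] {t σ : G} {T D : Subgroup G} {n : ℕ}

namespace ECent

variable (h : ECent t T D n σ)
include h

theorem tD_ne (u : G) (hu : u ∈ D) : t * u ≠ 1 := fun e =>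
  h.tD ((mul_mem_cancel_right hu).1 (e ▸ one_mem D))

theorem inv_D {u : G} (hu : u ∈ D) : u⁻¹ = u := inv_eq_of_mul_eq_one_right (h.sq u hu)

theorem comm_D {u v : G} (hu : u ∈ D) (hv : v ∈ D) : u * v = v * u := by
  have h1 := h.inv_D (mul_mem hu hv)
  rw [mul_inv_rev, h.inv_D hu, h.inv_D hv] at h1
  exact h1.symm

theorem t_comm {u : G} (hu : u ∈ D) : u * t = t * u := h.toCent.comm (h.DT hu)

/-- An element of `T` is `u` or `t * u`. -/
theorem T_cases {x : G} (hx : x ∈ T) : x ∈ D ∨ ∃ u ∈ D, x = t * u := by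
  refine (h.split x hx).imp_right fun hd => ⟨x * t, hd, ?_⟩
  rw [h.toCent.comm hx, ← mul_assoc, h.toCent.tt, one_mul]

theorem sq_T {x : G} (hx : x ∈ T) : x * x = 1 := by
  rcases h.T_cases hx with hd | ⟨u, hu, rfl⟩
  · exact h.sq x hd
  · calc t * u * (t * u) = t * (u * t) * u := by group
      _ = t * t * (u * u) := by rw [h.t_comm hu]; group
      _ = 1 := by rw [h.toCent.tt, h.sq u hu, one_mul]

theorem T_comm {x y : G} (hx : x ∈ T) (hy : y ∈ T) : x * y = y * x := by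
  have h1 := inv_eq_of_mul_eq_one_right (h.sq_T (mul_mem hx hy))
  rw [mul_inv_rev, inv_eq_of_mul_eq_one_right (h.sq_T hx), inv_eq_of_mul_eq_one_right (h.sq_T hy)] at h1
  exact h1.symm

theorem σ_t : σ * t * σ⁻¹ = t := by
  rw [Subgroup.mem_centralizer_singleton_iff.1 h.σC, mul_inv_cancel_right]

theorem σpow_t (i : ℕ) : σ ^ i * t * (σ ^ i)⁻¹ = t := by
  rw [Subgroup.mem_centralizer_singleton_iff.1 (pow_mem h.σC i), mul_inv_cancel_right]

theorem σpow_D (i : ℕ) {u : G} (hu : u ∈ D) : σ ^ i * u * (σ ^ i)⁻¹ ∈ D := by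
  induction i with
  | zero => simpa using hu
  | succ i ih =>
    rw [pow_succ', show σ * σ ^ i * u * (σ * σ ^ i)⁻¹ = σ * (σ ^ i * u * (σ ^ i)⁻¹) * σ⁻¹ by group]
    exact h.σD _ ih

theorem σ_normT : σ ∈ Subgroup.normalizer (T : Set G) := by
  refine mem_normalizer_of_cj_le fun x hx => ?_
  rw [show x = σ * (σ⁻¹ * x * σ) * σ⁻¹ by group]
  rcases h.T_cases (mem_cj.1 hx) with hd | ⟨u, hu, he⟩
  · exact h.DT (h.σD _ hd)
  · rw [he, show σ * (t * u) * σ⁻¹ = σ * t * σ⁻¹ * (σ * u * σ⁻¹) by group, h.σ_t]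
    exact mul_mem h.tT (h.DT (h.σD u hu))

/-- Fusion in `T` is invariant under `σ`: one involution of `D` decides all, likewise for `t * D`. -/
theorem conj_D {u v : G} (hu : u ∈ D) (hu1 : u ≠ 1) (hv : v ∈ D) (hv1 : v ≠ 1) (hc : IsConj t u) :
    IsConj t v := by
  obtain ⟨i, rfl⟩ := h.trans u hu hu1 v hv hv1
  exact (conj_iff _).2 hc

theorem conj_tD {u v : G} (hu : u ∈ D) (hu1 : u ≠ 1) (hv : v ∈ D) (hv1 : v ≠ 1) (hc : IsConj t (t * u)) :
    IsConj t (t * v) := by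
  obtain ⟨i, rfl⟩ := h.trans u hu hu1 v hv hv1
  have := (conj_iff (σ ^ i)).2 hc
  rwa [show σ ^ i * (t * u) * (σ ^ i)⁻¹ = σ ^ i * t * (σ ^ i)⁻¹ * (σ ^ i * u * (σ ^ i)⁻¹) by group,
    h.σpow_t] at this

theorem exists_third {a : G} (ha : a ∈ D) : ∃ v ∈ D, v ≠ 1 ∧ v ≠ a := by
  by_contra! hall
  have h2 : (D : Set G) ⊆ {1, a} := fun v hv => (eq_or_ne v 1).imp_right fun h1 => hall v hv h1
  have h3 := Set.ncard_le_ncard h2 (Set.toFinite _)
  rw [← Nat.card_coe_set_eq, SetLike.coe_sort_coe, h.card] at h3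
  have h4 : ({1, a} : Set G).ncard ≤ ({a} : Set G).ncard + 1 := Set.ncard_insert_le _ _
  rw [Set.ncard_singleton] at h4
  have h5 : 2 ^ 2 ≤ 2 ^ n := Nat.pow_le_pow_right two_pos h.two_le
  omega

/-- When `T` is not a Sylow subgroup, `t ^ G` meets `T` in `t * D`. -/
theorem orbit (S : Sylow 2 G) (hTS : T ≤ (S : Subgroup G)) (hne : T ≠ (S : Subgroup G)) :
    (∀ u ∈ D, ¬ IsConj t u) ∧
      (∀ u ∈ D, ∃ x ∈ Subgroup.normalizer (T : Set G), x * t * x⁻¹ = t * u) ∧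
      ∀ x ∈ Subgroup.normalizer (T : Set G), ∀ u ∈ D, x * u * x⁻¹ ∈ D := by
  classical
  haveI : Fact (Nat.Prime 2) := ⟨Nat.prime_two⟩
  obtain ⟨x₀, hx₀S, hx₀, -, hmove, hx₀T, -⟩ := h.toCent.exists_move S hTS hne
  set Q := (S : Subgroup G) ⊓ Subgroup.normalizer (T : Set G) with hQ
  have hQp : IsPGroup 2 Q := S.isPGroup'.to_inf_left
  have hQn : ∀ q ∈ Q, ∀ y ∈ T, q * y * q⁻¹ ∈ T := fun q hq y hy =>
    (Subgroup.mem_normalizer_iff.1 hq.2 y).1 hy
  letI : MulAction ↥Q ↥T :=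
    { smul := fun q y => ⟨(q : G) * y * (q : G)⁻¹, hQn q q.2 y y.2⟩
      one_smul := fun y => Subtype.ext (show ((1 : ↥Q) : G) * y * ((1 : ↥Q) : G)⁻¹ = y by simp)
      mul_smul := fun a b y => Subtype.ext (show ((a * b : ↥Q) : G) * y * ((a * b : ↥Q) : G)⁻¹ =
          a * (b * y * (b : G)⁻¹) * (a : G)⁻¹ by rw [Subgroup.coe_mul]; group) }
  have hsm : ∀ (q : ↥Q) (y : ↥T), ((q • y : ↥T) : G) = (q : G) * y * (q : G)⁻¹ := fun q y => rfl
  -- a central involution of a larger two-group is not a conjugate of `t`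
  obtain ⟨y, hy1, hyT, hyn⟩ : ∃ y : G, y ≠ 1 ∧ y ∈ T ∧ ¬ IsConj t y := by
    have hd : 2 ∣ Nat.card ↥T := by rw [h.toCent.card_T]; exact dvd_mul_right 2 _
    have h1 : (1 : ↥T) ∈ MulAction.fixedPoints ↥Q ↥T := fun q => Subtype.ext (by rw [hsm]; simp)
    obtain ⟨b, hb, hb1⟩ := hQp.exists_fixed_point_of_prime_dvd_card_of_fixed_point ↥T hd h1
    refine ⟨b, fun e => hb1 (Subtype.ext e.symm), b.2, fun hc => ?_⟩
    have h2 : Nat.card (Q ⊓ Subgroup.centralizer ({(b : G)} : Set G) : Subgroup G) ≤ Nat.card T :=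
      h.toCent.card_cent_le hQp hc
    have h3 : Q ⊓ Subgroup.centralizer ({(b : G)} : Set G) = Q := inf_eq_left.2 fun q hq => by
      have h4 := congrArg Subtype.val (hb ⟨q, hq⟩)
      rw [hsm] at h4
      rw [Subgroup.mem_centralizer_singleton_iff]
      calc q * b = q * b * q⁻¹ * q := by group
        _ = b * q := by rw [h4]
    rw [h3] at h2
    have hlt := SylIn.normalizer_growth hTS hne S.isPGroup'
    exact hlt.ne (Subgroup.eq_of_le_of_card_ge hlt.le h2)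
  -- the image of `t`
  have hno1 : ¬ IsConj t (1 : G) := fun hc => by
    have := conj_invol h.ord hc
    rw [orderOf_one] at this
    omega
  have hD : ∀ u ∈ D, ¬ IsConj t u := by
    intro u hu hc
    have hu1 : u ≠ 1 := fun e => hno1 (e ▸ hc)
    rcases h.T_cases hyT with hyd | ⟨v, hv, rfl⟩
    · exact hyn (h.conj_D hu hu1 hyd hy1 hc)
    -- the class in `T` is `{t} ∪ D \ {1}`
    have hv1 : v ≠ 1 := fun e => hyn (by rw [e, mul_one])
    have hcl : ∀ w ∈ T, IsConj t w → w = t ∨ w ∈ D := by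
      intro w hw hwc
      rcases h.T_cases hw with hd | ⟨a, ha, rfl⟩
      · exact Or.inr hd
      rcases eq_or_ne a 1 with rfl | ha1
      · exact Or.inl (mul_one t)
      · exact absurd (h.conj_tD ha ha1 hv hv1 hwc) hyn
    have hn := Subgroup.mem_normalizer_iff.1 hx₀
    set u₀ := x₀⁻¹ * t * x₀ with hu₀
    have hu₀T : u₀ ∈ T := (hn u₀).2 (by rw [hu₀]; simpa [mul_assoc] using h.tT)
    have hu₀c : IsConj t u₀ := isConj_iff.2 ⟨x₀⁻¹, by rw [inv_inv]⟩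
    have hu₀D : u₀ ∈ D := (hcl _ hu₀T hu₀c).resolve_left fun e => hmove (by
      calc x₀ * t * x₀⁻¹ = x₀ * u₀ * x₀⁻¹ := by rw [e]
        _ = t := by rw [hu₀]; group)
    obtain ⟨a, ha, ha1, hau⟩ := h.exists_third hu₀D
    have hb : a * u₀ ∈ D := mul_mem ha hu₀D
    have hb1 : a * u₀ ≠ 1 := fun e => hau (by
      rw [← h.inv_D hu₀D]; exact eq_inv_of_mul_eq_one_left e)
    have hA : ∀ w ∈ D, w ≠ 1 → x₀ * w * x₀⁻¹ = t ∨ x₀ * w * x₀⁻¹ ∈ D := fun w hw hw1 =>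
      hcl _ ((hn w).1 (h.DT hw)) ((conj_iff x₀).2 (h.conj_D hu hu1 hw hw1 hc))
    have hprod : x₀ * a * x₀⁻¹ * (x₀ * (a * u₀) * x₀⁻¹) = t := by
      calc x₀ * a * x₀⁻¹ * (x₀ * (a * u₀) * x₀⁻¹) = x₀ * (a * a) * u₀ * x₀⁻¹ := by group
        _ = x₀ * u₀ * x₀⁻¹ := by rw [h.sq a ha, mul_one]
        _ = t := by rw [hu₀]; group
    rcases hA a ha ha1 with e1 | e1 <;> rcases hA _ hb hb1 with e2 | e2
    · rw [e1, e2, h.toCent.tt] at hprod
      exact h.tD (hprod ▸ one_mem D)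
    · rw [e1] at hprod
      have := mul_eq_left.1 hprod
      exact hb1 (conj_eq_one_iff.1 this)
    · rw [e2] at hprod
      exact ha1 (conj_eq_one_iff.1 (mul_eq_right.1 hprod))
    · exact h.tD (hprod ▸ mul_mem e1 e2)
  have htD : ∀ u ∈ D, IsConj t (t * u) := by
    intro u hu
    rcases eq_or_ne u 1 with rfl | hu1
    · rw [mul_one]
    rcases h.T_cases hx₀T with hd | ⟨a, ha, he⟩
    · exact absurd (isConj_iff.2 ⟨x₀, rfl⟩) (hD _ hd)
    · have ha1 : a ≠ 1 := fun e => hmove (by rw [he, e, mul_one])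
      exact h.conj_tD ha ha1 hu hu1 (isConj_iff.2 ⟨x₀, he⟩)
  refine ⟨hD, fun u hu => ?_, fun x hx u hu => ?_⟩
  · rcases eq_or_ne u 1 with rfl | hu1
    · exact ⟨1, one_mem _, by simp⟩
    rcases h.T_cases hx₀T with hd | ⟨a, ha, he⟩
    · exact absurd (isConj_iff.2 ⟨x₀, rfl⟩) (hD _ hd)
    · have ha1 : a ≠ 1 := fun e => hmove (by rw [he, e, mul_one])
      obtain ⟨i, hi⟩ := h.trans a ha ha1 u hu hu1
      refine ⟨σ ^ i * x₀, mul_mem (pow_mem h.σ_normT i) hx₀, ?_⟩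
      calc σ ^ i * x₀ * t * (σ ^ i * x₀)⁻¹ = σ ^ i * (x₀ * t * x₀⁻¹) * (σ ^ i)⁻¹ := by group
        _ = σ ^ i * t * (σ ^ i)⁻¹ * (σ ^ i * a * (σ ^ i)⁻¹) := by rw [he]; group
        _ = t * u := by rw [h.σpow_t, hi]
  · refine ((h.T_cases ((Subgroup.mem_normalizer_iff.1 hx u).1 (h.DT hu))).resolve_right ?_)
    rintro ⟨a, ha, he⟩
    exact hD u hu ((conj_iff x).1 (he ▸ htD a ha))

end ECent

end Cfsg.Agent.Fusion.L2Cent
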