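import Cfsg.Prelude.Def_CaseTheorems
import Cfsg.Agent.Lib.Fusion.L2Cent.Model

/-!
# An involution whose centraliser has a layer `Z₂ × PSL(2, q)` modulo its core

The Sylow `2`-subgroup `⟨t⟩ × D` of the centraliser, and the torus in the elementary case.
-/

set_option autoImplicit false
set_option linter.style.haveILetI false
set_option linter.unusedSectionVars false

namespace Cfsg.Agent.Fusion.L2Cent

universe u v

variable {G : Type u} [Group G]

/-- `T = ⟨t⟩ × D` is a Sylow `2`-subgroup of the centraliser of `t`, which fuses the involutions of `D`. -/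
structure Cent (t : G) (T D : Subgroup G) : Prop where
  ord : orderOf t = 2
  syl : SylIn 2 T (Subgroup.centralizer ({t} : Set G))
  tT : t ∈ T
  DT : D ≤ T
  tD : t ∉ D
  split : ∀ x ∈ T, x ∈ D ∨ x * t ∈ D
  conjD : ∀ u ∈ D, orderOf u = 2 → ∀ v ∈ D, orderOf v = 2 →
    ∃ c ∈ Subgroup.centralizer ({t} : Set G), c * u * c⁻¹ = v

/-- The elementary case, with an element `σ` of odd order inducing on `D` a cyclic group which is
transitive on the involutions and normalised by the centraliser. -/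
structure ECent (t : G) (T D : Subgroup G) (n : ℕ) (σ : G) : Prop extends Cent t T D where
  two_le : 2 ≤ n
  card : Nat.card D = 2 ^ n
  sq : ∀ x ∈ D, x * x = 1
  σC : σ ∈ Subgroup.centralizer ({t} : Set G)
  σodd : Odd (orderOf σ)
  σD : ∀ u ∈ D, σ * u * σ⁻¹ ∈ D
  trans : ∀ u ∈ D, u ≠ 1 → ∀ v ∈ D, v ≠ 1 → ∃ i : ℕ, σ ^ i * u * (σ ^ i)⁻¹ = v
  normC : ∀ x ∈ Subgroup.centralizer ({t} : Set G), x ∈ Subgroup.normalizer (T : Set G) →
    (∀ u ∈ D, x * u * x⁻¹ ∈ D) ∧
      ∃ j : ℕ, ∀ u ∈ D, x * (σ * u * σ⁻¹) * x⁻¹ = σ ^ j * (x * u * x⁻¹) * (σ ^ j)⁻¹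

/-- A cyclic transitive action on the involutions has odd period. -/
theorem exists_odd_period {P : Type v} [Group P] [Finite P] {Q : Subgroup P} {n : ℕ} (h : Elem Q n) :
    ∃ s ∈ Subgroup.normalizer (Q : Set P), ∃ m : ℕ, Odd m ∧
      (∀ u ∈ Q, s ^ m * u * (s ^ m)⁻¹ = u) ∧
      (∀ u ∈ Q, u ≠ 1 → ∀ v ∈ Q, v ≠ 1 → ∃ i : ℕ, s ^ i * u * (s ^ i)⁻¹ = v) ∧
      ∀ g ∈ Subgroup.normalizer (Q : Set P), ∃ i : ℕ, ∀ u ∈ Q, g * u * g⁻¹ = s ^ i * u * (s ^ i)⁻¹ := by
  classical
  obtain ⟨s, hs, htr, hn⟩ := h.cyc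
  set f : P → P := fun x => s * x * s⁻¹ with hf
  have hit : ∀ (i : ℕ) (x : P), f^[i] x = s ^ i * x * (s ^ i)⁻¹ := by
    intro i
    induction i with
    | zero => intro x; simp
    | succ i ih =>
      intro x
      rw [Function.iterate_succ_apply', ih, hf, pow_succ']
      simp [mul_assoc]
  haveI : Nontrivial Q := Finite.one_lt_card_iff_nontrivial.1 (by
    rw [h.card]; exact Nat.one_lt_two_pow (by have := h.two_le; omega))
  obtain ⟨⟨u₀, hu₀⟩, hu₁⟩ := exists_ne (1 : Q)
  have hu₁ : u₀ ≠ 1 := fun e => hu₁ (Subtype.ext e)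
  set m := Function.minimalPeriod f u₀ with hm
  have hQmem : ∀ i : ℕ, f^[i] u₀ ∈ Q := fun i => by
    rw [hit]; exact (Subgroup.mem_normalizer_iff.1 (pow_mem hs i) u₀).1 hu₀
  have hne : ∀ i : ℕ, f^[i] u₀ ≠ 1 := fun i e => hu₁ (by
    rw [hit] at e
    calc u₀ = (s ^ i)⁻¹ * (s ^ i * u₀ * (s ^ i)⁻¹) * s ^ i := by group
      _ = 1 := by rw [e]; group)
  have hper : Function.IsPeriodicPt f (orderOf s) u₀ := by
    show f^[orderOf s] u₀ = u₀
    rw [hit, pow_orderOf_eq_one]; simp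
  have hm0 : 0 < m := hper.minimalPeriod_pos (orderOf_pos s)
  have hinj := Function.iterate_injOn_Iio_minimalPeriod (f := f) (x := u₀)
  have himg : (fun i => f^[i] u₀) '' Set.Iio m = (Q : Set P) \ {1} := by
    ext v
    constructor
    · rintro ⟨i, -, rfl⟩
      exact ⟨hQmem i, hne i⟩
    · rintro ⟨hv, hv1⟩
      obtain ⟨i, hi⟩ := htr u₀ hu₀ hu₁ v hv hv1
      exact ⟨i % m, Nat.mod_lt _ hm0, by
        show f^[i % m] u₀ = v
        rw [hm, Function.iterate_mod_minimalPeriod_eq, hit, hi]⟩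
  have hcard : m = 2 ^ n - 1 := by
    have h1 := congrArg Set.ncard himg
    rw [Set.ncard_image_of_injOn hinj, Set.ncard_diff_singleton_of_mem (one_mem Q),
      ← Nat.card_coe_set_eq, ← Nat.card_coe_set_eq] at h1
    rw [SetLike.coe_sort_coe, h.card, Nat.card_coe_set_eq, show Set.Iio m = ((Finset.range m : Finset ℕ) : Set ℕ) by
      ext; simp, Set.ncard_coe_finset, Finset.card_range] at h1
    exact h1
  refine ⟨s, hs, m, ?_, fun u hu => ?_, htr, hn⟩
  · rw [hcard, Nat.odd_iff]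
    have h2 : 2 ^ n = 2 * 2 ^ (n - 1) := by rw [← pow_succ']; congr 1; have := h.two_le; omega
    have := Nat.one_le_two_pow (n := n - 1)
    omega
  · rcases eq_or_ne u 1 with rfl | hu1
    · simp
    obtain ⟨i, rfl⟩ := htr u₀ hu₀ hu₁ u hu hu1
    have h0 : s ^ m * u₀ * (s ^ m)⁻¹ = u₀ := by
      rw [← hit]; exact Function.iterate_minimalPeriod
    calc s ^ m * (s ^ i * u₀ * (s ^ i)⁻¹) * (s ^ m)⁻¹ = (s ^ m * s ^ i) * u₀ * (s ^ m * s ^ i)⁻¹ := by group
      _ = (s ^ i * s ^ m) * u₀ * (s ^ i * s ^ m)⁻¹ := by rw [← pow_add, ← pow_add, add_comm]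
      _ = s ^ i * (s ^ m * u₀ * (s ^ m)⁻¹) * (s ^ i)⁻¹ := by group
      _ = s ^ i * u₀ * (s ^ i)⁻¹ := by rw [h0]

theorem card_prod_comap {P : Type v} [Group P] [Finite P] (Q : Subgroup P) :
    Nat.card (Q.comap (MonoidHom.snd (Multiplicative (ZMod 2)) P)) = 2 * Nat.card Q := by
  rw [show Q.comap (MonoidHom.snd (Multiplicative (ZMod 2)) P) = Subgroup.prod ⊤ Q by
    ext ⟨a, x⟩; simp [Subgroup.mem_prod]]
  rw [Nat.card_congr (Subgroup.prodEquiv ⊤ Q).toEquiv, Nat.card_prod, Subgroup.card_top,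
    Nat.card_congr Multiplicative.toAdd, Nat.card_zmod]

theorem z2_cases : ∀ a : Multiplicative (ZMod 2), a = 1 ∨ a = Multiplicative.ofAdd 1 := by decide

theorem z2_mul : (Multiplicative.ofAdd (1 : ZMod 2)) * Multiplicative.ofAdd (1 : ZMod 2) = 1 := by decide

variable [Finite G]

/-- The two kinds of centraliser. -/
theorem setup {t : G} (ht : orderOf t = 2) {P : Type v} [Group P] (hM : Model P)
    (hL : Nonempty (↥(Subgroup.closure {x : (↥(Subgroup.centralizer ({t} : Set G)) ⧸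
      Cfsg.oddCore ↥(Subgroup.centralizer ({t} : Set G))) | ∃ k : ℕ, orderOf x = 2 ^ k}) ≃*
      (Multiplicative (ZMod 2) × P))) :
    ∃ T D : Subgroup G, (∃ n σ, ECent t T D n σ) ∨ (Cent t T D ∧ ∃ r n, StrongProd.Dih D r n) := by
  classical
  haveI : Fact (Nat.Prime 2) := ⟨Nat.prime_two⟩
  obtain ⟨hcen, hperf, Qs, hQc, hQ⟩ := hM
  obtain ⟨e⟩ := hL
  set C := Subgroup.centralizer ({t} : Set G) with hC
  set O := Cfsg.oddCore ↥C with hO
  haveI hOn : O.Normal := StrongProd.oddCore_normal C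
  have hOodd : Odd (Nat.card O) := StrongProd.oddCore_odd C
  set π := QuotientGroup.mk' O with hπ
  set L := Subgroup.closure {x : ↥C ⧸ O | ∃ k : ℕ, orderOf x = 2 ^ k} with hL
  haveI : Finite P := Finite.of_surjective (fun x : L => (e x).2) (fun p => ⟨e.symm (1, p), by simp⟩)
  haveI hLn : L.Normal := by
    refine ⟨fun x hx g => ?_⟩
    refine Subgroup.closure_induction (p := fun z _ => g * z * g⁻¹ ∈ L) ?_ (by simp)
      (fun a b _ _ ha hb => ?_) (fun a _ ha => ?_) hx
    · rintro z ⟨k, hk⟩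
      exact Subgroup.subset_closure ⟨k, by rw [← MulAut.conj_apply, MulEquiv.orderOf_eq, hk]⟩
    · rw [show g * (a * b) * g⁻¹ = (g * a * g⁻¹) * (g * b * g⁻¹) by group]; exact mul_mem ha hb
    · rw [show g * a⁻¹ * g⁻¹ = (g * a * g⁻¹)⁻¹ by group]; exact inv_mem ha
  set Y : Subgroup ↥C := L.comap π with hY
  let ρ : ↥Y →* Multiplicative (ZMod 2) × P := e.toMonoidHom.comp (π.subgroupComap L)
  have hρsurj : Function.Surjective ρ := e.surjective.comp fun x => by
    obtain ⟨y, hy⟩ := QuotientGroup.mk'_surjective O x.1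
    exact ⟨⟨y, show π y ∈ L by rw [hπ, hy]; exact x.2⟩, Subtype.ext hy⟩
  have hρker : ∀ y : ↥Y, ρ y = 1 ↔ (y : ↥C) ∈ O := fun y => by
    show e (π.subgroupComap L y) = 1 ↔ _
    rw [MulEquiv.map_eq_one_iff, ← QuotientGroup.eq_one_iff (N := O)]
    exact ⟨fun h => congrArg Subtype.val h, fun h => Subtype.ext h⟩
  -- a 2-element of `C` lies in `Y`
  have h2Y : ∀ c : ↥C, (∃ k : ℕ, c ^ 2 ^ k = 1) → c ∈ Y := by
    rintro c ⟨k, hk⟩
    refine Subgroup.subset_closure ?_
    obtain ⟨j, -, hj⟩ := (Nat.dvd_prime_pow Nat.prime_two).1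
      (orderOf_dvd_of_pow_eq_one (show π c ^ 2 ^ k = 1 by rw [← map_pow, hk, map_one]))
    exact ⟨j, hj⟩
  have hYidx : ¬ 2 ∣ Y.index := by
    obtain ⟨R⟩ : Nonempty (Sylow 2 ↥C) := inferInstance
    intro hd
    have hle : (R : Subgroup ↥C) ≤ Y := fun c hc => h2Y c (by
      obtain ⟨k, hk⟩ := R.isPGroup' ⟨c, hc⟩
      exact ⟨k, congrArg Subtype.val hk⟩)
    exact R.not_dvd_index (hd.trans (Subgroup.index_dvd_of_le hle))
  -- the involution
  have htC : t ∈ C := Subgroup.mem_centralizer_singleton_iff.2 rfl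
  set tC : ↥C := ⟨t, htC⟩ with htC'
  have htY : tC ∈ Y := h2Y tC ⟨1, Subtype.ext (by
    show t ^ 2 ^ 1 = 1
    rw [pow_one, ← ht, pow_orderOf_eq_one])⟩
  set tY : ↥Y := ⟨tC, htY⟩ with htY'
  have htcent : ∀ y : ↥Y, tY * y = y * tY := fun y => Subtype.ext (Subtype.ext
    (Subgroup.mem_centralizer_singleton_iff.1 (y : ↥C).2).symm)
  have hρt2 : (ρ tY).2 = 1 := hcen _ fun x => by
    obtain ⟨y, hy⟩ := hρsurj (1, x)
    have := congrArg (fun z => (ρ z).2) (htcent y)
    simp only [map_mul, hy, Prod.snd_mul] at this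
    exact this
  have hρt1 : (ρ tY).1 ≠ 1 := by
    intro h1
    have hO' : tC ∈ O := (hρker tY).1 (Prod.ext h1 hρt2)
    have h2 : orderOf (⟨tC, hO'⟩ : O) = 2 := by
      rw [Subgroup.orderOf_mk, htC', Subgroup.orderOf_mk, ht]
    exact Nat.not_even_iff_odd.2 hOodd (even_iff_two_dvd.2 (h2 ▸ orderOf_dvd_natCard _))
  -- the Sylow subgroup
  set ZQ := (Qs : Subgroup P).comap (MonoidHom.snd (Multiplicative (ZMod 2)) P) with hZQ
  set XY : Subgroup ↥Y := ZQ.comap ρ with hXY
  have htX : tY ∈ XY := by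
    show (ρ tY).2 ∈ (Qs : Subgroup P)
    rw [hρt2]; exact one_mem _
  have hZQp : IsPGroup 2 ZQ := by
    obtain ⟨k, hk⟩ := IsPGroup.iff_card.1 Qs.isPGroup'
    refine IsPGroup.of_card (n := k + 1) ?_
    rw [hZQ, card_prod_comap, hk, pow_succ']
  have hXidx : ¬ 2 ∣ XY.index := by
    rw [hXY, Subgroup.index_comap_of_surjective _ hρsurj, hZQ,
      Subgroup.index_comap_of_surjective _ (fun x => ⟨(1, x), rfl⟩)]
    exact Qs.not_dvd_index
  obtain ⟨RY, hRY, htR⟩ := Fusion.exists_sylIn_ge (p := 2) (H := XY)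
    (IsPGroup.of_card (n := 1) (by
      rw [Nat.card_zpowers, htY', Subgroup.orderOf_mk, htC', Subgroup.orderOf_mk, ht, pow_one]) :
      IsPGroup 2 (Subgroup.zpowers tY)) (Subgroup.zpowers_le.2 htX)
  have hRidx : ¬ 2 ∣ RY.index := by
    rw [← Subgroup.relIndex_mul_index hRY.le]
    exact fun h => (Nat.prime_two.dvd_mul.1 h).elim hRY.not_dvd hXidx
  have hinj : ∀ y ∈ RY, ρ y = 1 → y = 1 := by
    intro y hy h1
    obtain ⟨k, hk⟩ := hRY.isPGroup ⟨y, hy⟩
    have hd : orderOf (y : ↥C) ∣ 2 ^ k := orderOf_dvd_of_pow_eq_one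
      (congrArg (fun z : ↥RY => ((z : ↥Y) : ↥C)) hk)
    have hd' : orderOf (y : ↥C) ∣ Nat.card O := by
      have := orderOf_dvd_natCard (⟨(y : ↥C), (hρker y).1 h1⟩ : O)
      rwa [Subgroup.orderOf_mk] at this
    refine Subtype.ext (orderOf_eq_one_iff.1 (Nat.eq_one_of_dvd_coprimes ?_ hd hd'))
    exact (Nat.coprime_two_left.2 hOodd).pow_left k
  have hρR : RY.map ρ = ZQ := by
    refine le_antisymm (Subgroup.map_le_iff_le_comap.2 hRY.le) ?_
    have hXm : XY.map ρ = ZQ := Subgroup.map_comap_eq_self_of_surjective hρsurj _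
    have h2 : ¬ 2 ∣ (RY.map ρ).relIndex ZQ := by
      rw [← hXm]
      intro h
      refine hRY.not_dvd (h.trans ?_)
      have he : (RY.map ρ).subgroupOf (XY.map ρ) = (RY.subgroupOf XY).map (ρ.subgroupMap XY) := by
        ext z
        constructor
        · rintro ⟨y, hy, hyz⟩
          exact ⟨⟨y, hRY.le hy⟩, hy, Subtype.ext hyz⟩
        · rintro ⟨y, hy, rfl⟩
          exact ⟨y, hy, rfl⟩
      rw [Subgroup.relIndex, Subgroup.relIndex, he]
      exact Subgroup.index_map_dvd _ (ρ.subgroupMap_surjective XY)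
    obtain ⟨k, hk⟩ := IsPGroup.iff_card.1 hZQp
    obtain ⟨j, -, hj⟩ := (Nat.dvd_prime_pow Nat.prime_two).1
      (hk ▸ Subgroup.relIndex_dvd_card (RY.map ρ) ZQ)
    rcases j with _ | j
    · rw [pow_zero] at hj; exact Subgroup.relIndex_eq_one.1 hj
    · exact absurd (hj ▸ dvd_pow_self 2 (Nat.succ_ne_zero j)) h2
  -- carry to `G`
  set ι : ↥Y →* G := C.subtype.comp Y.subtype with hι
  have hιinj : Function.Injective ι := C.subtype_injective.comp Y.subtype_injective
  set T : Subgroup G := RY.map ι with hT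
  set DY : Subgroup ↥Y := RY ⊓ ((MonoidHom.fst (Multiplicative (ZMod 2)) P).comp ρ).ker with hDY
  set D : Subgroup G := DY.map ι with hD
  have hsyl : SylIn 2 T C := by
    refine ⟨?_, hRY.isPGroup.map ι, ?_⟩
    · rintro _ ⟨y, -, rfl⟩; exact (y : ↥C).2
    · have hTC : T.subgroupOf C = RY.map Y.subtype := by
        rw [hT, hι, ← Subgroup.map_map, Subgroup.subgroupOf,
          Subgroup.comap_map_eq_self_of_injective C.subtype_injective]
      rw [Subgroup.relIndex, hTC, Subgroup.index_map_of_injective RY Y.subtype_injective,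
        Subgroup.range_subtype]
      exact fun h => (Nat.prime_two.dvd_mul.1 h).elim hRidx hYidx
  have hsplit : ∀ x ∈ T, x ∈ D ∨ x * t ∈ D := by
    rintro _ ⟨y, hy, rfl⟩
    by_cases h : (ρ y).1 = 1
    · exact Or.inl ⟨y, ⟨hy, h⟩, rfl⟩
    · refine Or.inr ⟨y * tY, ⟨mul_mem hy (htR (Subgroup.mem_zpowers _)), ?_⟩, map_mul _ _ _⟩
      show (ρ (y * tY)).1 = 1
      rw [map_mul, Prod.fst_mul]
      rcases z2_cases (ρ y).1 with ha | ha
      · exact absurd ha h
      rcases z2_cases (ρ tY).1 with hb | hb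
      · exact absurd hb hρt1
      rw [ha, hb, z2_mul]
  have hDQ : ∀ y ∈ DY, (ρ y).1 = 1 ∧ (ρ y).2 ∈ (Qs : Subgroup P) := fun y hy =>
    ⟨hy.2, show (ρ y) ∈ ZQ from hρR ▸ Subgroup.mem_map_of_mem ρ hy.1⟩
  have hlift : ∀ x ∈ (Qs : Subgroup P), ∃ y ∈ DY, ρ y = (1, x) := by
    intro x hx
    obtain ⟨y, hy, hyx⟩ := (hρR.ge (show ((1 : Multiplicative (ZMod 2)), x) ∈ ZQ from hx))
    exact ⟨y, ⟨hy, show (ρ y).1 = 1 by rw [hyx]⟩, hyx⟩
  have hDinj : ∀ y ∈ DY, ∀ y' ∈ DY, (ρ y).2 = (ρ y').2 → y = y' := by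
    intro y hy y' hy' h
    have h0 := hinj (y⁻¹ * y') (mul_mem (inv_mem hy.1) hy'.1) (by
      rw [map_mul, map_inv, show ρ y = ρ y' from Prod.ext ((hDQ y hy).1.trans (hDQ y' hy').1.symm) h,
        inv_mul_cancel])
    exact inv_mul_eq_one.1 h0
  have hord : ∀ y ∈ DY, orderOf (ρ y).2 = orderOf (ι y) := by
    intro y hy
    rw [orderOf_injective ι hιinj]
    refine Nat.dvd_antisymm (orderOf_dvd_of_pow_eq_one ?_) (orderOf_dvd_of_pow_eq_one ?_)
    · rw [← Prod.pow_snd, ← map_pow, pow_orderOf_eq_one, map_one, Prod.snd_one]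
    · refine hDinj _ (pow_mem hy _) 1 (one_mem _) ?_
      rw [map_pow, Prod.pow_snd, pow_orderOf_eq_one, map_one, Prod.snd_one]
  have hconjD : ∀ u ∈ D, orderOf u = 2 → ∀ v ∈ D, orderOf v = 2 → ∃ c ∈ C, c * u * c⁻¹ = v := by
    rintro _ ⟨a, ha, rfl⟩ hu2 _ ⟨b, hb, rfl⟩ hv2
    obtain ⟨p, hp⟩ := isConj_iff.1 (hQc _ (hDQ a ha).2 (by rw [hord a ha, hu2]) _ (hDQ b hb).2
      (by rw [hord b hb, hv2]))
    obtain ⟨y, hy⟩ := hρsurj (1, p)
    set w := y * a * y⁻¹ with hw
    have hwρ : ρ w = ρ b := by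
      refine Prod.ext ?_ ?_
      · rw [hw, map_mul, map_mul, map_inv, hy, (hDQ b hb).1]
        simp [(hDQ a ha).1]
      · rw [hw, map_mul, map_mul, map_inv, hy]
        simpa using hp
    have hbo : orderOf b = 2 := by rw [← orderOf_injective ι hιinj, hv2]
    have hao : orderOf a = 2 := by rw [← orderOf_injective ι hιinj, hu2]
    have hb2 : b * b = 1 := invol_mul_self hbo
    have hw2 : w * w = 1 := by
      rw [hw]
      calc y * a * y⁻¹ * (y * a * y⁻¹) = y * (a * a) * y⁻¹ := by group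
        _ = 1 := by rw [invol_mul_self hao]; group
    set z := w * b with hz
    have hzk : ρ z = 1 := by rw [hz, map_mul, hwρ, ← map_mul, hb2, map_one]
    obtain ⟨i, hi⟩ : ∃ i, orderOf z = 2 * i + 1 := by
      have h := orderOf_dvd_natCard (⟨(z : ↥C), (hρker z).1 hzk⟩ : O)
      rw [Subgroup.orderOf_mk, Subgroup.orderOf_coe] at h
      obtain ⟨i, hi⟩ := hOodd.of_dvd_nat h
      exact ⟨i, hi⟩
    have hwz : ∀ j : ℕ, (z ^ j)⁻¹ * w = w * z ^ j := by
      intro j
      induction j with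
      | zero => simp
      | succ j ih =>
        have h1 : z⁻¹ * w = w * z := by
          rw [hz, mul_inv_rev, inv_eq_of_mul_eq_one_right hb2, inv_eq_of_mul_eq_one_right hw2,
            mul_assoc, hw2, mul_one, ← mul_assoc, hw2, one_mul]
        calc (z ^ (j + 1))⁻¹ * w = z⁻¹ * ((z ^ j)⁻¹ * w) := by rw [pow_succ]; group
          _ = (z⁻¹ * w) * z ^ j := by rw [ih, ← mul_assoc]
          _ = w * z ^ (j + 1) := by rw [h1, pow_succ', mul_assoc]
    refine ⟨ι ((z ^ (i + 1))⁻¹ * y), ((z ^ (i + 1))⁻¹ * y : ↥Y).1.2, ?_⟩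
    rw [← map_inv, ← map_mul, ← map_mul]
    congr 1
    calc (z ^ (i + 1))⁻¹ * y * a * ((z ^ (i + 1))⁻¹ * y)⁻¹ = (z ^ (i + 1))⁻¹ * w * z ^ (i + 1) := by
          rw [hw]; group
      _ = w * z ^ (2 * i + 1 + 1) := by rw [hwz, mul_assoc, ← pow_add]; congr 2; omega
      _ = b := by rw [pow_succ, ← hi, pow_orderOf_eq_one, one_mul, hz, ← mul_assoc, hw2, one_mul]
  refine ⟨T, D, ?_⟩
  have hcent : Cent t T D := ⟨ht, hsyl, ⟨tY, htR (Subgroup.mem_zpowers _), rfl⟩,
    Subgroup.map_mono inf_le_left, ?_, hsplit, hconjD⟩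
  · rcases hQ with ⟨n, hE⟩ | ⟨r, n, hDh⟩
    · left
      obtain ⟨s, hs, m, hm, hsm, htr, hn⟩ := exists_odd_period hE
      have hab : ∀ x ∈ (Qs : Subgroup P), ∀ z ∈ (Qs : Subgroup P), z * x * z⁻¹ = x := fun x hx z hz => by
        have h := hE.sq _ (mul_mem hz hx)
        calc z * x * z⁻¹ = z * x * (z * (z * z))⁻¹ * (z * z) := by group
          _ = z * x * z⁻¹ := by rw [hE.sq z hz, mul_one, mul_one]
          _ = x := by
            rw [inv_eq_of_mul_eq_one_right (hE.sq z hz)]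
            calc z * x * z = (z * x * (z * x)) * x⁻¹ := by group
              _ = x := by rw [h, one_mul, inv_eq_of_mul_eq_one_right (hE.sq x hx)]
      -- a lift of `s` normalising the Sylow subgroup
      obtain ⟨y₀, hy₀⟩ := hρsurj (1, s)
      have hy₀X : y₀ ∈ Subgroup.normalizer (XY : Set ↥Y) := by
        rw [Subgroup.mem_normalizer_iff]
        intro x
        show (ρ x).2 ∈ (Qs : Subgroup P) ↔ (ρ (y₀ * x * y₀⁻¹)).2 ∈ (Qs : Subgroup P)
        rw [map_mul, map_mul, map_inv, hy₀]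
        exact Subgroup.mem_normalizer_iff.1 hs (ρ x).2
      obtain ⟨x₀, hx₀, hxy⟩ := Fusion.frattini_conj hRY (H := Subgroup.normalizer (XY : Set ↥Y)) le_rfl hy₀X
      set g₀ := x₀ * y₀ with hg₀
      have hg₀act : ∀ x ∈ (Qs : Subgroup P), (ρ g₀).2 * x * (ρ g₀).2⁻¹ = s * x * s⁻¹ := fun x hx => by
        rw [hg₀, map_mul, hy₀, Prod.snd_mul]
        calc (ρ x₀).2 * s * x * ((ρ x₀).2 * s)⁻¹ = (ρ x₀).2 * (s * x * s⁻¹) * (ρ x₀).2⁻¹ := by group
          _ = s * x * s⁻¹ := hab _ ((Subgroup.mem_normalizer_iff.1 hs x).1 hx) _ hx₀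
      have hpow : ∀ (i : ℕ), ∀ x ∈ (Qs : Subgroup P),
          (ρ g₀).2 ^ i * x * ((ρ g₀).2 ^ i)⁻¹ = s ^ i * x * (s ^ i)⁻¹ := by
        intro i
        induction i with
        | zero => intro x _; simp
        | succ i ih =>
          intro x hx
          rw [pow_succ', pow_succ']
          calc (ρ g₀).2 * (ρ g₀).2 ^ i * x * ((ρ g₀).2 * (ρ g₀).2 ^ i)⁻¹
              = (ρ g₀).2 * ((ρ g₀).2 ^ i * x * ((ρ g₀).2 ^ i)⁻¹) * (ρ g₀).2⁻¹ := by group
            _ = s * (s ^ i * x * (s ^ i)⁻¹) * s⁻¹ := by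
              rw [ih x hx, hg₀act _ ((Subgroup.mem_normalizer_iff.1 (pow_mem hs i) x).1 hx)]
            _ = s * s ^ i * x * (s * s ^ i)⁻¹ := by group
      obtain ⟨k, b, hob, hb⟩ := Nat.exists_eq_two_pow_mul_odd (n := orderOf g₀) (orderOf_pos g₀).ne'
      obtain ⟨c, -, hc⟩ := Nat.exists_mul_mod_eq_one_of_coprime
        ((Nat.coprime_two_left.2 hm).pow_left k) (show 1 < m by
          by_contra hlt
          have hm1 : m = 1 := le_antisymm (not_lt.1 hlt) hm.pos
          haveI : Nontrivial (Qs : Subgroup P) := Finite.one_lt_card_iff_nontrivial.1 (by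
            rw [hE.card]; exact Nat.one_lt_two_pow (by have := hE.two_le; omega))
          obtain ⟨⟨u, hu⟩, hu1⟩ := exists_ne (1 : (Qs : Subgroup P))
          have hu1 : u ≠ 1 := fun e => hu1 (Subtype.ext e)
          have hall : ∀ v ∈ (Qs : Subgroup P), v = 1 ∨ v = u := by
            intro v hv
            refine or_iff_not_imp_left.2 fun hv1 => ?_
            obtain ⟨i, hi⟩ := htr u hu hu1 v hv hv1
            rw [← hi]
            have h1 := hsm u hu
            rw [hm1, pow_one] at h1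
            have : Commute (s ^ i) u := by
              refine Commute.pow_left ?_ i
              calc s * u = (s * u * s⁻¹) * s := by group
                _ = u * s := by rw [h1]
            rw [this.eq, mul_inv_cancel_right]
          have h2 : ((Qs : Subgroup P) : Set P) ⊆ {1, u} := fun v hv => hall v hv
          have h3 := Set.ncard_le_ncard h2 (Set.toFinite _)
          rw [← Nat.card_coe_set_eq, SetLike.coe_sort_coe, hE.card,
            Set.ncard_pair (Ne.symm hu1)] at h3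
          have h4 : 2 ^ 2 ≤ 2 ^ n := Nat.pow_le_pow_right two_pos hE.two_le
          omega)
      set σY := g₀ ^ (2 ^ k * c) with hσY
      have hσact : ∀ x ∈ (Qs : Subgroup P), (ρ σY).2 * x * (ρ σY).2⁻¹ = s * x * s⁻¹ := by
        intro x hx
        rw [hσY, map_pow, Prod.pow_snd, hpow _ x hx]
        have hd := Nat.mod_add_div (2 ^ k * c) m
        rw [hc] at hd
        obtain ⟨e', he'⟩ : ∃ e', 2 ^ k * c = 1 + m * e' := ⟨_, hd.symm⟩
        rw [he', pow_add, pow_one, pow_mul]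
        have hfix : ∀ j : ℕ, (s ^ m) ^ j * x * ((s ^ m) ^ j)⁻¹ = x := by
          intro j
          have hcx : Commute (s ^ m) x := by
            calc s ^ m * x = (s ^ m * x * (s ^ m)⁻¹) * s ^ m := by group
              _ = x * s ^ m := by rw [hsm x hx]
          rw [(hcx.pow_left j).eq, mul_inv_cancel_right]
        calc s * (s ^ m) ^ e' * x * (s * (s ^ m) ^ e')⁻¹
            = s * ((s ^ m) ^ e' * x * ((s ^ m) ^ e')⁻¹) * s⁻¹ := by group
          _ = s * x * s⁻¹ := by rw [hfix]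
      have hσN : σY ∈ Subgroup.normalizer (RY : Set ↥Y) := pow_mem hxy _
      have hconjρ : ∀ g : ↥Y, ∀ y ∈ DY, (ρ (g * y * g⁻¹)).1 = 1 := fun g y hy => by
        rw [map_mul, map_mul, map_inv, Prod.fst_mul, Prod.fst_mul, Prod.fst_inv, (hDQ y hy).1, mul_one,
          mul_inv_cancel]
      have hDN : ∀ g ∈ Subgroup.normalizer (RY : Set ↥Y), ∀ y ∈ DY, g * y * g⁻¹ ∈ DY := fun g hg y hy =>
        ⟨(Subgroup.mem_normalizer_iff.1 hg y).1 hy.1, hconjρ g y hy⟩
      have hkey : ∀ y ∈ DY, ∀ i : ℕ,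
          (ρ (σY ^ i * y * (σY ^ i)⁻¹)).2 = s ^ i * (ρ y).2 * (s ^ i)⁻¹ := by
        intro y hy i
        induction i with
        | zero => simp
        | succ i ih =>
          rw [pow_succ', show σY * σY ^ i * y * (σY * σY ^ i)⁻¹ = σY * (σY ^ i * y * (σY ^ i)⁻¹) * σY⁻¹ by group,
            map_mul, map_mul, map_inv, Prod.snd_mul, Prod.snd_mul, Prod.snd_inv, ih,
            hσact _ ((Subgroup.mem_normalizer_iff.1 (pow_mem hs i) _).1 (hDQ y hy).2), pow_succ']
          group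
      refine ⟨n, ι σY, hcent, hE.two_le, ?_, ?_, (σY : ↥C).2, ?_, ?_, ?_, ?_⟩
      · rw [hD, Subgroup.card_map_of_injective hιinj, ← hE.card]
        refine Nat.card_eq_of_bijective (fun y => ⟨(ρ y).2, (hDQ y y.2).2⟩) ⟨?_, ?_⟩
        · exact fun y y' h => Subtype.ext (hDinj y y.2 y' y'.2 (congrArg Subtype.val h))
        · rintro ⟨x, hx⟩
          obtain ⟨y, hy, hyx⟩ := hlift x hx
          exact ⟨⟨y, hy⟩, Subtype.ext (show (ρ y).2 = x by rw [hyx])⟩
      · rintro _ ⟨y, hy, rfl⟩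
        rw [← map_mul, ← map_one ι]
        congr 1
        refine hDinj _ (mul_mem hy hy) 1 (one_mem _) ?_
        rw [map_mul, Prod.snd_mul, hE.sq _ (hDQ y hy).2, map_one, Prod.snd_one]
      · rw [orderOf_injective ι hιinj]
        refine hob.of_dvd_nat (orderOf_dvd_of_pow_eq_one ?_)
        rw [hσY, ← pow_mul, show 2 ^ k * c * b = orderOf g₀ * c by rw [hb]; ring, pow_mul,
          pow_orderOf_eq_one, one_pow]
      · rintro _ ⟨y, hy, rfl⟩
        exact ⟨σY * y * σY⁻¹, hDN σY hσN y hy, by simp⟩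
      · rintro _ ⟨y, hy, rfl⟩ hy1 _ ⟨z, hz, rfl⟩ hz1
        have h1 : ∀ w ∈ DY, ι w ≠ 1 → (ρ w).2 ≠ 1 := fun w hw hw1 h => hw1 (by
          rw [hDinj w hw 1 (one_mem _) (by rw [h, map_one, Prod.snd_one]), map_one])
        obtain ⟨i, hi⟩ := htr _ (hDQ y hy).2 (h1 y hy hy1) _ (hDQ z hz).2 (h1 z hz hz1)
        refine ⟨i, ?_⟩
        rw [← map_pow, ← map_inv, ← map_mul, ← map_mul]
        congr 1
        exact hDinj _ (hDN _ (pow_mem hσN i) y hy) z hz (by rw [hkey y hy, hi])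
      · intro x hxC hxT
        set xC : ↥C := ⟨x, hxC⟩
        haveI : Y.Normal := Subgroup.Normal.comap hLn π
        let α : MulAut ↥Y := MulAut.conjNormal xC
        have hα : ∀ y : ↥Y, ι (α y) = x * ι y * x⁻¹ := fun y => by
          show ((α y : ↥C) : G) = _
          rw [MulAut.conjNormal_apply]
          rfl
        have hαR : ∀ y ∈ RY, α y ∈ RY := by
          intro y hy
          obtain ⟨z, hz, hze⟩ := (Subgroup.mem_normalizer_iff.1 hxT (ι y)).1 ⟨y, hy, rfl⟩
          rwa [hιinj (hze.trans (hα y).symm)] at hz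
        have hfst : ∀ y : ↥Y, (ρ y).1 = 1 → (ρ (α y)).1 = 1 := by
          intro y hy
          have hK : (commutator ↥Y).map ρ = commutator (Multiplicative (ZMod 2) × P) := by
            rw [commutator_def, Subgroup.map_commutator, Subgroup.map_top_of_surjective ρ hρsurj]
            rfl
          have hin : ρ y ∈ (commutator ↥Y).map ρ := by
            rw [hK]
            have h2 : ((1 : Multiplicative (ZMod 2)), (ρ y).2) ∈
                (commutator P).map (MonoidHom.inr (Multiplicative (ZMod 2)) P) :=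
              ⟨(ρ y).2, by rw [hperf]; exact Subgroup.mem_top _, rfl⟩
            rw [show ρ y = ((1 : Multiplicative (ZMod 2)), (ρ y).2) from Prod.ext hy rfl]
            have h3 := Subgroup.map_mono (f := MonoidHom.inr (Multiplicative (ZMod 2)) P)
              (le_refl (commutator P)) h2
            rw [commutator_def, Subgroup.map_commutator] at h3
            exact Subgroup.commutator_mono le_top le_top h3
          obtain ⟨d, hd, hdy⟩ := hin
          have hd' : α d ∈ commutator ↥Y := by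
            have := Subgroup.mem_map_of_mem α.toMonoidHom hd
            rw [commutator_def, Subgroup.map_commutator] at this
            exact Subgroup.commutator_mono le_top le_top this
          have hk : ρ (d⁻¹ * y) = 1 := by rw [map_mul, map_inv, hdy, inv_mul_cancel]
          have hk' : ρ (α (d⁻¹ * y)) = 1 := by
            rw [hρker] at hk ⊢
            rw [MulAut.conjNormal_apply]
            exact hOn.conj_mem _ hk xC
          have he : ρ (α y) = ρ (α d) := by
            have h5 := hk'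
            rw [map_mul, map_inv, map_mul, map_inv, inv_mul_eq_one] at h5
            exact h5.symm
          rw [he]
          have hle : commutator ↥Y ≤ ((MonoidHom.fst (Multiplicative (ZMod 2)) P).comp ρ).ker := by
            rw [commutator_def, Subgroup.commutator_le]
            intro a _ b _
            rw [MonoidHom.mem_ker, map_commutatorElement, commutatorElement_eq_one_iff_mul_comm]
            exact mul_comm (G := Multiplicative (ZMod 2)) _ _
          exact hle hd'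
        have hαD : ∀ y ∈ DY, α y ∈ DY := fun y hy => ⟨hαR y hy.1, hfst y hy.2⟩
        refine ⟨?_, ?_⟩
        · rintro _ ⟨y, hy, rfl⟩
          exact ⟨α y, hαD y hy, hα y⟩
        · have hwR : α σY ∈ Subgroup.normalizer (RY : Set ↥Y) := by
            refine Fusion.mem_normalizer_iff_cj.2 (Fusion.cj_eq_of_cj_le fun z hz => ?_)
            have h6 := Fusion.mem_cj.1 hz
            have hinv : ∀ y ∈ RY, α.symm y ∈ RY := by
              intro y hy
              obtain ⟨w, hw, hwe⟩ := (Subgroup.mem_normalizer_iff.1 hxT (ι (α.symm y))).2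
                (by rw [← hα, α.apply_symm_apply]; exact ⟨y, hy, rfl⟩)
              rwa [hιinj hwe] at hw
            have h7 := hinv _ h6
            rw [map_mul, map_mul, map_inv, α.symm_apply_apply] at h7
            have h8 := hαR _ ((Subgroup.mem_normalizer_iff.1 hσN _).1 h7)
            rwa [show σY * (σY⁻¹ * α.symm z * σY) * σY⁻¹ = α.symm z by group, α.apply_symm_apply] at h8
          have hwQ : (ρ (α σY)).2 ∈ Subgroup.normalizer ((Qs : Subgroup P) : Set P) := by
            refine Fusion.mem_normalizer_iff_cj.2 (Fusion.cj_eq_of_cj_le fun z hz => ?_)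
            obtain ⟨y, hy, hyx⟩ := hlift _ (Fusion.mem_cj.1 hz)
            have h9 := (hDQ _ (hDN _ hwR y hy)).2
            rw [map_mul, map_mul, map_inv, Prod.snd_mul, Prod.snd_mul, Prod.snd_inv, hyx] at h9
            simpa [mul_assoc] using h9
          obtain ⟨j, hj⟩ := hn _ hwQ
          refine ⟨j, ?_⟩
          rintro _ ⟨y, hy, rfl⟩
          rw [← hα, ← map_pow, ← map_inv, ← map_inv, ← map_mul, ← map_mul, ← map_mul, ← map_mul, ← hα]
          congr 1
          refine hDinj _ (hαD _ (hDN _ hσN y hy)) _ (hDN _ (pow_mem hσN j) _ (hαD y hy)) ?_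
          rw [hkey _ (hαD y hy), ← hj _ (hDQ _ (hαD y hy)).2, map_mul α, map_mul α, map_inv α, map_mul,
            map_mul, map_inv, Prod.snd_mul, Prod.snd_mul, Prod.snd_inv]
    · right
      obtain ⟨rY, hrY, hrρ⟩ := hlift r hDh.mem
      have hzp : ∀ y ∈ DY, (y ∈ Subgroup.zpowers rY ↔ (ρ y).2 ∈ Subgroup.zpowers r) := by
        intro y hy
        constructor
        · rintro ⟨i, rfl⟩
          exact ⟨i, by simp [hrρ]⟩
        · rintro ⟨i, hi⟩
          exact ⟨i, hDinj _ (zpow_mem hrY i) y hy (by simpa [hrρ] using hi)⟩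
      refine ⟨hcent, ι rY, n, ⟨rY, hrY, rfl⟩, ?_, hDh.two, ?_, ?_⟩
      · rw [← hord rY hrY, hrρ]; exact hDh.ord
      · rintro _ ⟨y, hy, rfl⟩ hyR
        have hyR' : (ρ y).2 ∉ Subgroup.zpowers r := fun h => hyR (by
          obtain ⟨i, hi⟩ := (hzp y hy).2 h
          exact ⟨i, by show ι rY ^ i = ι y; rw [← map_zpow]; exact congrArg ι hi⟩)
        obtain ⟨h1, h2⟩ := hDh.refl _ (hDQ y hy).2 hyR'
        constructor
        · rw [← map_mul, ← map_one ι]
          congr 1
          exact hDinj _ (mul_mem hy hy) 1 (one_mem _) (by rw [map_mul, Prod.snd_mul, h1, map_one, Prod.snd_one])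
        · rw [← map_inv, ← map_inv, ← map_mul, ← map_mul]
          congr 1
          refine hDinj _ (mul_mem (mul_mem hy hrY) (inv_mem hy)) _ (inv_mem hrY) ?_
          rw [map_mul, map_mul, map_inv, map_inv, Prod.snd_mul, Prod.snd_mul, Prod.snd_inv, Prod.snd_inv, hrρ]
          exact h2
      · obtain ⟨x, hx, hxR⟩ := hDh.ex
        obtain ⟨y, hy, hyx⟩ := hlift x hx
        refine ⟨ι y, ⟨y, hy, rfl⟩, ?_⟩
        rintro ⟨i, hi⟩
        refine hxR ?_
        have h := (hzp y hy).1 ⟨i, hιinj (by rw [map_zpow]; exact hi)⟩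
        rwa [hyx] at h
  · rintro ⟨y, hy, he⟩
    have : y = tY := hιinj (he.trans rfl)
    exact hρt1 (this ▸ (hDQ y hy).1)

end Cfsg.Agent.Fusion.L2Cent
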