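import Cfsg.Agent.Lib.Fusion.L2Cent.Orbit
import Cfsg.Agent.Lib.Fusion.L2Cent.Char

/-!
# Towers over `⟨t⟩ × D`

A two-group `P = W⟨t⟩` with `W` abelian of exponent `2 ^ m`, homocyclic and inverted by `t`, and the action
of its normaliser on the classes `t W / t W²`, parametrised by `D`.
-/

set_option autoImplicit false
set_option linter.style.haveILetI false
set_option linter.unusedSectionVars false

namespace Cfsg.Agent.Fusion.L2Cent

universe u

variable {G : Type u} [Group G]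

/-- The fusion of `t` in `⟨t⟩ × D` when this is no Sylow subgroup. -/
structure Fused (t : G) (T D : Subgroup G) : Prop where
  notD : ∀ u ∈ D, ¬ IsConj t u
  conj : ∀ u ∈ D, ∃ x ∈ Subgroup.normalizer (T : Set G), x * t * x⁻¹ = t * u
  normD : ∀ x ∈ Subgroup.normalizer (T : Set G), ∀ u ∈ D, x * u * x⁻¹ ∈ D

/-- The tower of height `m`. -/
structure Tow (t σ : G) (D : Subgroup G) (m : ℕ) (P W : Subgroup G) : Prop where
  one_le : 1 ≤ m
  le : W ≤ P
  pg : IsPGroup 2 P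
  tP : t ∈ P
  tW : t ∉ W
  split : ∀ x ∈ P, x ∈ W ∨ x * t ∈ W
  DW : D ≤ W
  comm : ∀ a ∈ W, ∀ b ∈ W, a * b = b * a
  inv : ∀ w ∈ W, t * w * t⁻¹ = w⁻¹
  omega : ∀ w ∈ W, w * w = 1 → w ∈ D
  σW : ∀ w ∈ W, σ * w * σ⁻¹ ∈ W
  exp : ∀ w ∈ W, w ^ 2 ^ m = 1
  top : ∀ u ∈ D, ∃ w ∈ W, w ^ 2 ^ (m - 1) = u
  root : ∀ w ∈ W, w ^ 2 ^ (m - 1) = 1 → ∃ v ∈ W, v * v = w

/-- The class of `g t g⁻¹` among `t W / t W²`. -/
def dlt (t : G) (m : ℕ) (g : G) : G := (t * (g * t * g⁻¹)) ^ 2 ^ (m - 1)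

/-- The element `g` centralises `D`. -/
def Triv (D : Subgroup G) (g : G) : Prop := ∀ u ∈ D, g * u * g⁻¹ = u

variable [Finite G] {t σ : G} {T D P W : Subgroup G} {n m : ℕ}

/-- The tower of height one. -/
theorem ECent.tow_one (h : ECent t T D n σ) : Tow t σ D 1 T D where
  one_le := le_rfl
  le := h.DT
  pg := h.syl.isPGroup
  tP := h.tT
  tW := h.tD
  split := h.split
  DW := le_rfl
  comm := fun _ ha _ hb => h.comm_D ha hb
  inv := fun w hw => by rw [← h.t_comm hw, mul_inv_cancel_right, h.inv_D hw]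
  omega := fun _ hw _ => hw
  σW := h.σD
  exp := fun w hw => by rw [pow_one, pow_two]; exact h.sq w hw
  top := fun u hu => ⟨u, hu, by simp⟩
  root := fun w _ hw1 => ⟨1, one_mem D, by
    rw [Nat.sub_self, pow_zero, pow_one] at hw1
    rw [hw1, one_mul]⟩

namespace Tow

variable (h : ECent t T D n σ) (hf : Fused t T D) (hw : Tow t σ D m P W)
include h hf hw

theorem ti : t⁻¹ = t := inv_eq_of_mul_eq_one_right h.toCent.tt

theorem inv' {w : G} (hwW : w ∈ W) : t * w * t = w⁻¹ := by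
  rw [← hw.inv w hwW, ti h hf hw]

theorem cases {x : G} (hx : x ∈ P) : x ∈ W ∨ ∃ w ∈ W, x = t * w := by
  refine (hw.split x hx).imp_right fun hd => ⟨t * x, ?_, ?_⟩
  · have h1 := inv_mem hd
    rw [← hw.inv _ hd, ti h hf hw, show t * (x * t) * t = t * x * (t * t) by group, h.toCent.tt, mul_one] at h1
    exact h1
  · rw [← mul_assoc, h.toCent.tt, one_mul]

theorem sq_out {w : G} (hwW : w ∈ W) : t * w * (t * w) = 1 := by
  rw [show t * w * (t * w) = t * w * t * w by group, inv' h hf hw hwW, inv_mul_cancel]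

theorem D_one {u : G} (hu : u ∈ D) : u ^ 2 = 1 := by rw [sq]; exact h.sq u hu

theorem pw_mem {w : G} (hwW : w ∈ W) : w ^ 2 ^ (m - 1) ∈ D := by
  refine hw.omega _ (pow_mem hwW _) ?_
  rw [← pow_add, ← two_mul, ← pow_succ', Nat.sub_add_cancel hw.one_le]
  exact hw.exp w hwW

theorem pw_mul {a b : G} (ha : a ∈ W) (hb : b ∈ W) :
    (a * b) ^ 2 ^ (m - 1) = a ^ 2 ^ (m - 1) * b ^ 2 ^ (m - 1) :=
  (show Commute a b from hw.comm a ha b hb).mul_pow _

theorem pw_sq {a : G} (ha : a ∈ W) : (a * a) ^ 2 ^ (m - 1) = 1 := by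
  rw [pw_mul h hf hw ha ha]; exact h.sq _ (pw_mem h hf hw ha)

theorem sq_ne {w : G} (hwW : w ∈ W) (hm : 2 ≤ m) (hpw : w ^ 2 ^ (m - 1) ≠ 1) : w * w ≠ 1 := fun e => hpw (by
  rw [show 2 ^ (m - 1) = 2 * 2 ^ (m - 2) by rw [← pow_succ']; congr 1; omega, pow_mul, sq, e, one_pow])

theorem exists_layer {k : ℕ} (hk : k + 1 ≤ m) {u : G} (hu : u ∈ D) : ∃ w ∈ W, w ^ 2 ^ k = u := by
  obtain ⟨w, hwW, rfl⟩ := hw.top u hu
  refine ⟨w ^ 2 ^ (m - 1 - k), pow_mem hwW _, ?_⟩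
  rw [← pow_mul, ← pow_add]
  congr 2
  omega

theorem mem_T_of_comm {x : G} (hx : x ∈ P) (hc : x * t = t * x) : x ∈ T := by
  have key : ∀ w ∈ W, w * t = t * w → w ∈ D := fun w hwW hc => hw.omega w hwW (by
    have h1 := hw.inv w hwW
    rw [← hc, mul_inv_cancel_right] at h1
    calc w * w = w * w⁻¹ := by rw [← h1]
      _ = 1 := mul_inv_cancel w)
  rcases cases h hf hw hx with hW | ⟨w, hwW, rfl⟩
  · exact h.DT (key x hW hc)
  · exact mul_mem h.tT (h.DT (key w hwW (mul_left_cancel (a := t) (by rw [← mul_assoc, hc]))))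

theorem T_le : T ≤ P := fun _ hx => by
  rcases h.T_cases hx with hd | ⟨u, hu, rfl⟩
  · exact hw.le (hw.DW hd)
  · exact mul_mem hw.tP (hw.le (hw.DW hu))

theorem eq_of_one (hm : m = 1) : P = T ∧ W = D := by
  have hWD : W = D := le_antisymm (fun w hwW => hw.omega w hwW (by
    have := hw.exp w hwW
    rw [hm, pow_one, sq] at this
    exact this)) hw.DW
  refine ⟨le_antisymm (fun x hx => ?_) (T_le h hf hw), hWD⟩
  rcases cases h hf hw hx with hW | ⟨w, hwW, rfl⟩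
  · exact h.DT (hWD ▸ hW)
  · exact mul_mem h.tT (h.DT (hWD ▸ hwW))

theorem normW {g : G} (hg : g ∈ Subgroup.normalizer (P : Set G)) {w : G} (hwW : w ∈ W) : g * w * g⁻¹ ∈ W := by
  rcases Nat.lt_or_ge m 2 with hm | hm
  · obtain ⟨hP, hW⟩ := eq_of_one h hf hw (by have := hw.one_le; omega)
    rw [hP] at hg
    rw [hW] at hwW ⊢
    exact hf.normD g hg w hwW
  have key : ∀ v ∈ W, v * v ≠ 1 → g * v * g⁻¹ ∈ W := by
    intro v hv hv2
    refine (cases h hf hw ((Subgroup.mem_normalizer_iff.1 hg v).1 (hw.le hv))).resolve_right ?_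
    rintro ⟨a, ha, he⟩
    refine hv2 ?_
    have h1 := sq_out h hf hw ha
    rw [← he, show g * v * g⁻¹ * (g * v * g⁻¹) = g * (v * v) * g⁻¹ by group] at h1
    exact conj_eq_one_iff.1 h1
  rcases eq_or_ne (w * w) 1 with e | e
  · obtain ⟨v, hv, rfl⟩ := hw.top w (hw.omega w hwW e)
    rcases eq_or_ne (v ^ 2 ^ (m - 1)) 1 with e1 | e1
    · rw [e1, mul_one, mul_inv_cancel]; exact one_mem W
    · rw [← conj_pow]
      exact pow_mem (key v hv (sq_ne h hf hw hv hm e1)) _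
  · exact key w hwW e

theorem normD {g : G} (hg : g ∈ Subgroup.normalizer (P : Set G)) {u : G} (hu : u ∈ D) : g * u * g⁻¹ ∈ D :=
  hw.omega _ (normW h hf hw hg (hw.DW hu))
    (by rw [show g * u * g⁻¹ * (g * u * g⁻¹) = g * (u * u) * g⁻¹ by group, h.sq u hu]; group)

theorem wg {g : G} (hg : g ∈ Subgroup.normalizer (P : Set G)) : t * (g * t * g⁻¹) ∈ W := by
  rcases cases h hf hw ((Subgroup.mem_normalizer_iff.1 hg t).1 hw.tP) with hW | ⟨w, hwW, he⟩
  · refine absurd (normW h hf hw (inv_mem hg) hW) ?_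
    rw [show g⁻¹ * (g * t * g⁻¹) * g⁻¹⁻¹ = t by group]
    exact hw.tW
  · rw [he, ← mul_assoc, h.toCent.tt, one_mul]
    exact hwW

theorem conj_t (g : G) : g * t * g⁻¹ = t * (t * (g * t * g⁻¹)) := by
  rw [← mul_assoc, h.toCent.tt, one_mul]

theorem dlt_mem {g : G} (hg : g ∈ Subgroup.normalizer (P : Set G)) : dlt t m g ∈ D :=
  pw_mem h hf hw (wg h hf hw hg)

theorem dlt_mul {a b : G} (ha : a ∈ Subgroup.normalizer (P : Set G)) (hb : b ∈ Subgroup.normalizer (P : Set G)) :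
    dlt t m (a * b) = dlt t m a * (a * dlt t m b * a⁻¹) := by
  unfold dlt
  rw [show t * (a * b * t * (a * b)⁻¹) = t * (a * (t * (t * (b * t * b⁻¹))) * a⁻¹) by
      rw [← conj_t h hf hw b]; group,
    show t * (a * (t * (t * (b * t * b⁻¹))) * a⁻¹) =
      (t * (a * t * a⁻¹)) * (a * (t * (b * t * b⁻¹)) * a⁻¹) by group,
    pw_mul h hf hw (wg h hf hw ha) (normW h hf hw ha (wg h hf hw hb)), conj_pow]

theorem dlt_comm {c : G} (hc : c * t = t * c) : dlt t m c = 1 := by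
  unfold dlt
  rw [hc, mul_inv_cancel_right, h.toCent.tt, one_pow]

theorem dlt_W {w : G} (hwW : w ∈ W) : dlt t m w = 1 := by
  unfold dlt
  rw [show t * (w * t * w⁻¹) = t * w * t * w⁻¹ by group, inv' h hf hw hwW]
  exact pw_sq h hf hw (inv_mem hwW)

theorem P_le_norm : P ≤ Subgroup.normalizer (P : Set G) := Subgroup.le_normalizer

theorem dlt_P {x : G} (hx : x ∈ P) : dlt t m x = 1 := by
  rcases cases h hf hw hx with hW | ⟨w, hwW, rfl⟩
  · exact dlt_W h hf hw hW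
  · rw [dlt_mul h hf hw (P_le_norm h hf hw hw.tP) (P_le_norm h hf hw (hw.le hwW)), dlt_W h hf hw hwW,
      dlt_comm h hf hw rfl, mul_one, mul_inv_cancel, one_mul]

theorem triv_P {x : G} (hx : x ∈ P) : Triv D x := fun u hu => by
  rcases cases h hf hw hx with hW | ⟨w, hwW, rfl⟩
  · rw [hw.comm x hW u (hw.DW hu), mul_inv_cancel_right]
  · rw [show t * w * u * (t * w)⁻¹ = t * (w * u * w⁻¹) * t⁻¹ by group, hw.comm w hwW u (hw.DW hu),
      mul_inv_cancel_right, hw.inv u (hw.DW hu), h.inv_D hu]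

theorem σ_norm : σ ∈ Subgroup.normalizer (P : Set G) := by
  refine mem_normalizer_of_cj_le fun x hx => ?_
  rw [show x = σ * (σ⁻¹ * x * σ) * σ⁻¹ by group]
  rcases cases h hf hw (mem_cj.1 hx) with hW | ⟨w, hwW, he⟩
  · exact hw.le (hw.σW _ hW)
  · rw [he, show σ * (t * w) * σ⁻¹ = σ * t * σ⁻¹ * (σ * w * σ⁻¹) by group, h.σ_t]
    exact mul_mem hw.tP (hw.le (hw.σW w hwW))

theorem dlt_σpow_mul (i : ℕ) {g : G} (hg : g ∈ Subgroup.normalizer (P : Set G)) :
    dlt t m (σ ^ i * g) = σ ^ i * dlt t m g * (σ ^ i)⁻¹ := by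
  rw [dlt_mul h hf hw (pow_mem (σ_norm h hf hw) i) hg,
    dlt_comm h hf hw (Subgroup.mem_centralizer_singleton_iff.1 (pow_mem h.σC i)), one_mul]

/-- The stabiliser of the class of `t`. -/
theorem stab {g : G} (hg : g ∈ Subgroup.normalizer (P : Set G)) (h1 : dlt t m g = 1) :
    ∃ v ∈ W, v * g * t = t * (v * g) := by
  obtain ⟨v, hv, hv2⟩ := hw.root _ (wg h hf hw hg) h1
  refine ⟨v, hv, ?_⟩
  have e : v * g * t * (v * g)⁻¹ = t := by
    calc v * g * t * (v * g)⁻¹ = v * (g * t * g⁻¹) * v⁻¹ := by group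
      _ = v * t * v := by rw [conj_t h hf hw g, ← hv2]; group
      _ = t * (t * v * t) * v := by rw [← mul_assoc, ← mul_assoc, h.toCent.tt, one_mul]
      _ = t := by rw [inv' h hf hw hv, inv_mul_cancel_right]
  calc v * g * t = v * g * t * (v * g)⁻¹ * (v * g) := by group
    _ = t * (v * g) := by rw [e]

theorem mem_P_of_stab {Q : Subgroup G} (hQ : IsPGroup 2 Q) (hPQ : P ≤ Q) {g : G} (hgQ : g ∈ Q)
    (hg : g ∈ Subgroup.normalizer (P : Set G)) (h1 : dlt t m g = 1) : g ∈ P := by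
  obtain ⟨v, hv, hc⟩ := stab h hf hw hg h1
  have h2 := T_le h hf hw (h.toCent.mem_T hQ ((T_le h hf hw).trans hPQ) (mul_mem (hPQ (hw.le hv)) hgQ) hc)
  exact (mul_mem_cancel_left (hw.le hv)).1 h2

theorem not_conj_W {y : G} (hy : y ∈ W) : ¬ IsConj t y := fun hc =>
  hf.notD y (hw.omega y hy (invol_mul_self (conj_invol h.ord hc))) hc

theorem split_sq {x : G} (hx : x ∈ P) : x * x ∈ W := by
  rcases cases h hf hw hx with hW | ⟨w, hwW, rfl⟩
  · exact mul_mem hW hW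
  · rw [sq_out h hf hw hwW]; exact one_mem W

theorem dichotomy : (∀ g ∈ Subgroup.normalizer (P : Set G), dlt t m g = 1) ∨
    ∀ u ∈ D, ∃ g ∈ Subgroup.normalizer (P : Set G), dlt t m g = u := by
  refine or_iff_not_imp_left.2 fun hne u hu => ?_
  push Not at hne
  obtain ⟨g, hg, hg1⟩ := hne
  rcases eq_or_ne u 1 with rfl | hu1
  · exact ⟨1, one_mem _, dlt_comm h hf hw (by simp)⟩
  obtain ⟨i, hi⟩ := h.trans _ (dlt_mem h hf hw hg) hg1 u hu hu1
  exact ⟨σ ^ i * g, mul_mem (pow_mem (σ_norm h hf hw) i) hg, (dlt_σpow_mul h hf hw i hg).trans hi⟩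

/-- If no class moves, `P` is a Sylow subgroup, and `W` avoids the class of `t`. -/
theorem fixed_false [IsSimpleGroup G] (hna : ¬ IsMulCommutative G)
    (hall : ∀ g ∈ Subgroup.normalizer (P : Set G), dlt t m g = 1) : False := by
  obtain ⟨S, hS⟩ := exists_sylow_eq hw.pg fun S hPS x hx hxn =>
    mem_P_of_stab h hf hw S.isPGroup' hPS hx hxn (hall x hxn)
  obtain ⟨χ, hχ, hχt, hχW⟩ := exists_char hw.le hw.tP hw.tW fun x hx => split_sq h hf hw hx
  refine char_false hna S h.ord (hS ▸ hw.tP) (hS ▸ hχ) fun y hy hc => ?_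
  rcases cases h hf hw (hS ▸ hy) with hW | ⟨w, hwW, rfl⟩
  · exact absurd hc (not_conj_W h hf hw hW)
  · rw [hχ t hw.tP w (hw.le hwW), hχt, hχW w hwW, add_zero]

/-- All of `t W` is one class of the normaliser, if the classes are permuted transitively. -/
theorem conj_tW (htr : ∀ u ∈ D, ∃ g ∈ Subgroup.normalizer (P : Set G), dlt t m g = u) {w : G} (hwW : w ∈ W) :
    ∃ g ∈ Subgroup.normalizer (P : Set G), g * t * g⁻¹ = t * w := by
  obtain ⟨g, hg, hgw⟩ := htr _ (pw_mem h hf hw hwW)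
  set a := t * (g * t * g⁻¹) with ha
  have haW : a ∈ W := wg h hf hw hg
  obtain ⟨v, hv, hv2⟩ := hw.root (a⁻¹ * w) (mul_mem (inv_mem haW) hwW) (by
    rw [pw_mul h hf hw (inv_mem haW) hwW, inv_pow, show a ^ 2 ^ (m - 1) = w ^ 2 ^ (m - 1) from hgw,
      inv_mul_cancel])
  refine ⟨v⁻¹ * g, mul_mem (P_le_norm h hf hw (hw.le (inv_mem hv))) hg, ?_⟩
  calc v⁻¹ * g * t * (v⁻¹ * g)⁻¹ = v⁻¹ * (g * t * g⁻¹) * v := by group
    _ = v⁻¹ * (t * a) * v := by rw [conj_t h hf hw g, ← ha]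
    _ = (t * t) * v⁻¹ * t * a * v := by rw [h.toCent.tt]; group
    _ = t * (t * v⁻¹ * t) * (a * v) := by group
    _ = t * (v * a * v) := by rw [inv' h hf hw (inv_mem hv), inv_inv]; group
    _ = t * (a * (v * v)) := by rw [hw.comm v hv a haW]; group
    _ = t * w := by rw [hv2, mul_inv_cancel_left]

/-- An element mapping `t W` into `P` normalises `P`. -/
theorem mem_normP {g : G} (hg : ∀ w ∈ W, g * (t * w) * g⁻¹ ∈ P) : g ∈ Subgroup.normalizer (P : Set G) := by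
  have ht' : g * t * g⁻¹ ∈ P := by simpa using hg 1 (one_mem W)
  refine mem_normalizer_of_cj_le fun x hx => ?_
  rw [show x = g * (g⁻¹ * x * g) * g⁻¹ by group]
  rcases cases h hf hw (mem_cj.1 hx) with hW | ⟨w, hwW, he⟩
  · rw [show g * (g⁻¹ * x * g) * g⁻¹ = (g * t * g⁻¹)⁻¹ * (g * (t * (g⁻¹ * x * g)) * g⁻¹) by group]
    exact mul_mem (inv_mem ht') (hg _ hW)
  · rw [he]; exact hg w hwW

end Tow

end Cfsg.Agent.Fusion.L2Cent
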