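import Cfsg.Agent.Lib.Fusion.L2Cent.Tower
import Cfsg.Agent.Lib.Fusion.L2Cent.Alt

/-!
# Towers with translations: the two-group inducing all of them

A translation centralising `D` gives a two-group `R ≥ P` centralising `D` with `R / P ≅ D`, normalised by a
(new) element `σ`, and in it a `σ`-invariant subgroup `U` of index two above `W` avoiding `t`.
-/

set_option autoImplicit false
set_option linter.style.haveILetI false
set_option linter.unusedSectionVars false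

namespace Cfsg.Agent.Fusion.L2Cent

universe u

variable {G : Type u} [Group G]

/-- A two-group of translations. -/
structure Trans (t σ : G) (D : Subgroup G) (m : ℕ) (P R U W : Subgroup G) : Prop where
  pg : IsPGroup 2 R
  PR : P ≤ R
  norm : ∀ r ∈ R, r ∈ Subgroup.normalizer (P : Set G)
  triv : ∀ r ∈ R, Triv D r
  le : U ≤ R
  WU : W ≤ U
  tU : t ∉ U
  split : ∀ x ∈ R, x ∈ U ∨ x * t ∈ U
  σU : ∀ x ∈ U, σ * x * σ⁻¹ ∈ U
  surj : ∀ u ∈ D, ∃ x ∈ U, dlt t m x = u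

variable [Finite G] {t σ : G} {T D P W : Subgroup G} {n m : ℕ}

namespace Tow

variable (h : ECent t T D n σ) (hf : Fused t T D) (hw : Tow t σ D m P W)
include h hf hw

theorem dlt_triv_mul {a b : G} (ha : a ∈ Subgroup.normalizer (P : Set G))
    (hb : b ∈ Subgroup.normalizer (P : Set G)) (hta : Triv D a) :
    dlt t m (a * b) = dlt t m a * dlt t m b := by
  rw [dlt_mul h hf hw ha hb, hta _ (dlt_mem h hf hw hb)]

theorem dlt_triv_inv {a : G} (ha : a ∈ Subgroup.normalizer (P : Set G)) (hta : Triv D a) :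
    dlt t m a⁻¹ = dlt t m a := by
  have h1 := dlt_triv_mul h hf hw ha (inv_mem ha) hta
  rw [mul_inv_cancel, dlt_comm h hf hw (c := (1 : G)) (by simp)] at h1
  rw [← inv_eq_of_mul_eq_one_right h1.symm, h.inv_D (dlt_mem h hf hw ha)]

theorem dlt_conj_σ (i : ℕ) {g : G} (hg : g ∈ Subgroup.normalizer (P : Set G)) :
    dlt t m (σ ^ i * g * (σ ^ i)⁻¹) = σ ^ i * dlt t m g * (σ ^ i)⁻¹ := by
  have hi := pow_mem (σ_norm h hf hw) i
  have h1 : (σ ^ i)⁻¹ * t = t * (σ ^ i)⁻¹ :=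
    Subgroup.mem_centralizer_singleton_iff.1 (inv_mem (pow_mem h.σC i))
  rw [mul_assoc, dlt_σpow_mul h hf hw i (mul_mem hg (inv_mem hi)), dlt_mul h hf hw hg (inv_mem hi),
    dlt_comm h hf hw h1, mul_one, mul_inv_cancel, mul_one]

/-- A translation gives the whole group of translations. -/
theorem exists_trans (hg : ∃ g ∈ Subgroup.normalizer (P : Set G), Triv D g ∧ dlt t m g ≠ 1) :
    ∃ σ' : G, ECent t T D n σ' ∧ Tow t σ' D m P W ∧ ∃ R U, Trans t σ' D m P R U W := by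
  classical
  haveI : Fact (Nat.Prime 2) := ⟨Nat.prime_two⟩
  obtain ⟨g₀, hg₀, hg₀t, hg₀d⟩ := hg
  let K : Subgroup G :=
    { carrier := {g | g ∈ Subgroup.normalizer (P : Set G) ∧ Triv D g}
      one_mem' := ⟨one_mem _, fun u _ => by simp⟩
      mul_mem' := fun {a b} ha hb => ⟨mul_mem ha.1 hb.1, fun u hu => by
        rw [show a * b * u * (a * b)⁻¹ = a * (b * u * b⁻¹) * a⁻¹ by group, hb.2 u hu, ha.2 u hu]⟩
      inv_mem' := fun {a} ha => ⟨inv_mem ha.1, fun u hu => by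
        conv_lhs => rw [← ha.2 u hu]
        group⟩ }
  have hPK : P ≤ K := fun x hx => ⟨P_le_norm h hf hw hx, triv_P h hf hw hx⟩
  obtain ⟨R, hR, hPR⟩ := Fusion.exists_sylIn_ge (p := 2) hw.pg hPK
  have hpow : ∀ g ∈ K, ∀ k : ℕ, dlt t m (g ^ k) = dlt t m g ^ k := by
    intro g hg k
    induction k with
    | zero => rw [pow_zero, pow_zero, dlt_comm h hf hw (c := (1 : G)) (by simp)]
    | succ k ih => rw [pow_succ, dlt_triv_mul h hf hw (pow_mem hg.1 k) hg.1 (pow_mem hg k).2, ih, pow_succ]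
  have hsurjR : ∀ u ∈ D, ∃ r ∈ R, dlt t m r = u := by
    intro u hu
    rcases eq_or_ne u 1 with rfl | hu1
    · exact ⟨1, one_mem R, dlt_comm h hf hw (by simp)⟩
    obtain ⟨i, hi⟩ := h.trans _ (dlt_mem h hf hw hg₀) hg₀d u hu hu1
    set g := σ ^ i * g₀ * (σ ^ i)⁻¹ with hgdef
    have hgK : g ∈ K := by
      refine ⟨mul_mem (mul_mem (pow_mem (σ_norm h hf hw) i) hg₀) (inv_mem (pow_mem (σ_norm h hf hw) i)),
        fun v hv => ?_⟩
      have hv' : (σ ^ i)⁻¹ * v * σ ^ i ∈ D := by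
        simpa using normD h hf hw (inv_mem (pow_mem (σ_norm h hf hw) i)) hv
      rw [hgdef, show σ ^ i * g₀ * (σ ^ i)⁻¹ * v * (σ ^ i * g₀ * (σ ^ i)⁻¹)⁻¹ =
        σ ^ i * (g₀ * ((σ ^ i)⁻¹ * v * σ ^ i) * g₀⁻¹) * (σ ^ i)⁻¹ by group, hg₀t _ hv']
      group
    have hgd : dlt t m g = u := by rw [hgdef, dlt_conj_σ h hf hw i hg₀, hi]
    obtain ⟨a, b, hb, hab⟩ := Nat.exists_eq_two_pow_mul_odd (n := orderOf g) (orderOf_pos g).ne'
    have hgb : dlt t m (g ^ b) = u := by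
      obtain ⟨k, rfl⟩ := hb
      rw [hpow g hgK, hgd, pow_succ, pow_mul, D_one h hf hw hu, one_pow, one_mul]
    have h2 : IsPGroup 2 (Subgroup.zpowers (g ^ b)) := by
      have h2 : (g ^ b) ^ 2 ^ a = 1 := by
        rw [← pow_mul, show b * 2 ^ a = orderOf g by rw [hab, mul_comm], pow_orderOf_eq_one]
      obtain ⟨j, -, hj⟩ := (Nat.dvd_prime_pow Nat.prime_two).1 (orderOf_dvd_of_pow_eq_one h2)
      exact IsPGroup.of_card (n := j) (by rw [Nat.card_zpowers, hj])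
    obtain ⟨x, hx, hxR⟩ := hR.conj_le h2 (Subgroup.zpowers_le.2 (pow_mem hgK b))
    refine ⟨x * g ^ b * x⁻¹, hxR (conj_mem_cj (Subgroup.mem_zpowers _)), ?_⟩
    rw [dlt_triv_mul h hf hw (mul_mem hx.1 (pow_mem hgK.1 b)) (inv_mem hx.1) (mul_mem hx (pow_mem hgK b)).2,
      dlt_triv_mul h hf hw hx.1 (pow_mem hgK.1 b) hx.2, dlt_triv_inv h hf hw hx.1 hx.2, hgb,
      h.comm_D (dlt_mem h hf hw hx.1) hu, mul_assoc, h.sq _ (dlt_mem h hf hw hx.1), mul_one]
  -- a new element normalising `R`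
  have hσK : σ ∈ Subgroup.normalizer (K : Set G) := by
    refine mem_normalizer_of_cj_le fun x hx => ?_
    have hx' : σ⁻¹ * x * σ ∈ Subgroup.normalizer (P : Set G) ∧ Triv D (σ⁻¹ * x * σ) := mem_cj.1 hx
    have hσN := σ_norm h hf hw
    refine ⟨?_, fun v hv => ?_⟩
    · rw [show x = σ * (σ⁻¹ * x * σ) * σ⁻¹ by group]
      exact mul_mem (mul_mem hσN hx'.1) (inv_mem hσN)
    · have hv' : σ⁻¹ * v * σ ∈ D := by simpa using normD h hf hw (inv_mem hσN) hv
      calc x * v * x⁻¹ = σ * ((σ⁻¹ * x * σ) * (σ⁻¹ * v * σ) * (σ⁻¹ * x * σ)⁻¹) * σ⁻¹ := by group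
        _ = v := by rw [hx'.2 _ hv']; group
  obtain ⟨k, hk, hkσ⟩ := Fusion.frattini_conj hR (H := Subgroup.normalizer (K : Set G)) le_rfl hσK
  obtain ⟨r, hr, hrk⟩ := hsurjR _ (dlt_mem h hf hw hk.1)
  have hrK := hR.le hr
  obtain ⟨v, hv, hvc⟩ := stab h hf hw (mul_mem (inv_mem hrK.1) hk.1) (show dlt t m (r⁻¹ * k) = 1 by
    rw [dlt_triv_mul h hf hw (inv_mem hrK.1) hk.1 (inv_mem hrK).2, dlt_triv_inv h hf hw hrK.1 hrK.2, hrk,
      h.sq _ (dlt_mem h hf hw hk.1)])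
  set c := v * (r⁻¹ * k) with hc
  have hcK : c ∈ K := mul_mem (hPK (hw.le hv)) (mul_mem (inv_mem hrK) hk)
  set τ := c * σ with hτ
  have hτC : τ ∈ Subgroup.centralizer ({t} : Set G) :=
    mul_mem (Subgroup.mem_centralizer_singleton_iff.2 hvc) h.σC
  have hτR : τ ∈ Subgroup.normalizer (R : Set G) := by
    rw [hτ, hc, show v * (r⁻¹ * k) * σ = v * r⁻¹ * (k * σ) by group]
    exact mul_mem (mul_mem (Subgroup.le_normalizer (hPR (hw.le hv))) (Subgroup.le_normalizer (inv_mem hr))) hkσ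
  have hτN : τ ∈ Subgroup.normalizer (P : Set G) := mul_mem hcK.1 (σ_norm h hf hw)
  have hτact : ∀ (i : ℕ), ∀ u ∈ D, τ ^ i * u * (τ ^ i)⁻¹ = σ ^ i * u * (σ ^ i)⁻¹ := by
    intro i
    induction i with
    | zero => intro u _; simp
    | succ i ih =>
      intro u hu
      rw [pow_succ', pow_succ', show τ * τ ^ i * u * (τ * τ ^ i)⁻¹ = τ * (τ ^ i * u * (τ ^ i)⁻¹) * τ⁻¹ by group,
        ih u hu, hτ, show c * σ * (σ ^ i * u * (σ ^ i)⁻¹) * (c * σ)⁻¹ =
          c * (σ * (σ ^ i * u * (σ ^ i)⁻¹) * σ⁻¹) * c⁻¹ by group, hcK.2 _ (h.σD _ (h.σpow_D i hu))]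
      group
  obtain ⟨a, b, hb, hab⟩ := Nat.exists_eq_two_pow_mul_odd (n := orderOf τ) (orderOf_pos τ).ne'
  obtain ⟨j, hj⟩ := h.σodd
  set e := 2 ^ a * (j + 1) ^ a with he
  have hσe : σ ^ e = σ := by
    have h2 : σ ^ (2 * (j + 1)) = σ := by
      rw [show 2 * (j + 1) = orderOf σ + 1 by rw [hj]; ring, pow_succ, pow_orderOf_eq_one, one_mul]
    rw [he, ← mul_pow]
    clear hab he e
    induction a with
    | zero => simp
    | succ a ih => rw [pow_succ, pow_mul, ih, h2]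
  set σ' := τ ^ e with hσ'
  have hact : ∀ (i : ℕ), ∀ u ∈ D, σ' ^ i * u * (σ' ^ i)⁻¹ = σ ^ i * u * (σ ^ i)⁻¹ := fun i u hu => by
    rw [hσ', ← pow_mul, hτact _ u hu, pow_mul, hσe]
  have hact1 : ∀ u ∈ D, σ' * u * σ'⁻¹ = σ * u * σ⁻¹ := fun u hu => by simpa using hact 1 u hu
  have hodd : Odd (orderOf σ') := by
    refine hb.of_dvd_nat (orderOf_dvd_of_pow_eq_one ?_)
    rw [hσ', he, ← pow_mul, show 2 ^ a * (j + 1) ^ a * b = orderOf τ * (j + 1) ^ a by rw [hab]; ring, pow_mul,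
      pow_orderOf_eq_one, one_pow]
  have h' : ECent t T D n σ' :=
    { toCent := h.toCent
      two_le := h.two_le
      card := h.card
      sq := h.sq
      σC := pow_mem hτC e
      σodd := hodd
      σD := fun u hu => by rw [hact1 u hu]; exact h.σD u hu
      trans := fun u hu hu1 v hv hv1 => by
        obtain ⟨i, hi⟩ := h.trans u hu hu1 v hv hv1
        exact ⟨i, by rw [hact i u hu, hi]⟩
      normC := fun x hxC hxT => by
        obtain ⟨hxD, i, hi⟩ := h.normC x hxC hxT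
        exact ⟨hxD, i, fun u hu => by rw [hact1 u hu, hi u hu, hact i _ (hxD u hu)]⟩ }
  have hσ'N : σ' ∈ Subgroup.normalizer (P : Set G) := pow_mem hτN e
  have hw' : Tow t σ' D m P W :=
    { one_le := hw.one_le, le := hw.le, pg := hw.pg, tP := hw.tP, tW := hw.tW, split := hw.split, DW := hw.DW
      comm := hw.comm, inv := hw.inv, omega := hw.omega, exp := hw.exp, top := hw.top, root := hw.root
      σW := fun w hwW => normW h hf hw hσ'N hwW }
  refine ⟨σ', h', hw', R, ?_⟩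
  -- a complement of `t`
  have hsq : ∀ x ∈ R, x * x ∈ W := by
    intro x hx
    have hxK := hR.le hx
    have hx2 : x * x ∈ P := mem_P_of_stab h hf hw hR.isPGroup hPR (mul_mem hx hx) (mul_mem hxK.1 hxK.1)
      (by rw [dlt_triv_mul h hf hw hxK.1 hxK.1 hxK.2, h.sq _ (dlt_mem h hf hw hxK.1)])
    rcases cases h hf hw hx2 with hW | ⟨w, hwW, hxw⟩
    · exact hW
    exfalso
    have hc2 : x * (t * w) * x⁻¹ = t * w := by rw [← hxw]; group
    have hxw' := normW h hf hw hxK.1 hwW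
    have hh : t * (x * t * x⁻¹) * (x * w * x⁻¹) = w := by
      rw [show t * (x * t * x⁻¹) * (x * w * x⁻¹) = t * (x * (t * w) * x⁻¹) by group, hc2, ← mul_assoc,
        h.toCent.tt, one_mul]
    have hpw := congrArg (fun z => z ^ 2 ^ (m - 1)) hh
    rw [pw_mul h hf hw (wg h hf hw hxK.1) hxw', conj_pow, hxK.2 _ (pw_mem h hf hw hwW)] at hpw
    have hd : dlt t m x = 1 := mul_eq_right.1 hpw
    have hxP := mem_P_of_stab h hf hw hR.isPGroup hPR hx hxK.1 hd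
    have h3 := split_sq h hf hw hxP
    rw [hxw] at h3
    exact hw.tW ((mul_mem_cancel_right hwW).1 h3)
  obtain ⟨χ₀, hχ₀, hχt, hχW⟩ := exists_char (hw.le.trans hPR) (hPR hw.tP) hw.tW hsq
  set o := orderOf σ' with ho
  set χ : G → ZMod 2 := fun x => ∑ i ∈ Finset.range o, χ₀ (σ' ^ i * x * (σ' ^ i)⁻¹) with hχdef
  have hσ'R : σ' ∈ Subgroup.normalizer (R : Set G) := pow_mem hτR e
  have hiR : ∀ i : ℕ, ∀ x ∈ R, σ' ^ i * x * (σ' ^ i)⁻¹ ∈ R := fun i x hx =>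
    (Subgroup.mem_normalizer_iff.1 (pow_mem hσ'R i) x).1 hx
  have hχ : IsChar R χ := fun x hx y hy => by
    show ∑ i ∈ Finset.range o, χ₀ (σ' ^ i * (x * y) * (σ' ^ i)⁻¹) = _
    rw [hχdef, ← Finset.sum_add_distrib]
    refine Finset.sum_congr rfl fun i _ => ?_
    rw [← hχ₀ _ (hiR i x hx) _ (hiR i y hy)]
    congr 1
    group
  have hχt' : χ t = 1 := by
    show ∑ i ∈ Finset.range o, χ₀ (σ' ^ i * t * (σ' ^ i)⁻¹) = 1
    rw [Finset.sum_congr rfl (g := fun _ => (1 : ZMod 2)) fun i _ => by rw [h'.σpow_t, hχt], Finset.sum_const,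
      Finset.card_range, nsmul_eq_mul, mul_one]
    obtain ⟨k, hk⟩ := hodd
    rw [hk, Nat.cast_add, Nat.cast_mul, show ((2 : ℕ) : ZMod 2) = 0 from rfl, zero_mul, zero_add, Nat.cast_one]
  have hχW' : ∀ w ∈ W, χ w = 0 := fun w hwW => Finset.sum_eq_zero fun i _ =>
    hχW _ (normW h hf hw (pow_mem hσ'N i) hwW)
  have hχσ : ∀ x, χ (σ' * x * σ'⁻¹) = χ x := by
    intro x
    have h2 := Finset.sum_range_succ (fun i => χ₀ (σ' ^ i * x * (σ' ^ i)⁻¹)) o
    rw [Finset.sum_range_succ' (fun i => χ₀ (σ' ^ i * x * (σ' ^ i)⁻¹)) o] at h2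
    simp only [pow_zero, ho, pow_orderOf_eq_one] at h2
    have h3 := add_right_cancel h2
    show ∑ i ∈ Finset.range (orderOf σ'), χ₀ (σ' ^ i * (σ' * x * σ'⁻¹) * (σ' ^ i)⁻¹) = _
    rw [hχdef, ho]
    show _ = ∑ i ∈ Finset.range (orderOf σ'), χ₀ (σ' ^ i * x * (σ' ^ i)⁻¹)
    rw [← h3]
    refine Finset.sum_congr rfl fun i _ => ?_
    rw [pow_succ]
    congr 1
    group
  refine ⟨hχ.ker, ⟨hR.isPGroup, hPR, fun r hr => (hR.le hr).1, fun r hr => (hR.le hr).2, fun x hx => hx.1,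
    fun w hwW => ⟨hPR (hw.le hwW), hχW' w hwW⟩, fun e => zero_ne_one (e.2.symm.trans hχt'), ?_, ?_, ?_⟩⟩
  · intro x hx
    rcases zmod2_cases (χ x) with e | e
    · exact Or.inl ⟨hx, e⟩
    · exact Or.inr ⟨mul_mem hx (hPR hw.tP), by rw [hχ x hx t (hPR hw.tP), e, hχt', zmod2_add_self]⟩
  · exact fun x hx => ⟨by simpa using hiR 1 x hx.1, (hχσ x).trans hx.2⟩
  · intro u hu
    obtain ⟨r, hr, hru⟩ := hsurjR u hu
    rcases zmod2_cases (χ r) with e | e
    · exact ⟨r, ⟨hr, e⟩, hru⟩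
    · refine ⟨r * t, ⟨mul_mem hr (hPR hw.tP), by rw [hχ r hr t (hPR hw.tP), e, hχt', zmod2_add_self]⟩, ?_⟩
      rw [dlt_triv_mul h hf hw (hR.le hr).1 (P_le_norm h hf hw hw.tP) (hR.le hr).2, hru,
        dlt_comm h hf hw rfl, mul_one]

end Tow

end Cfsg.Agent.Fusion.L2Cent
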